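import Cfsg.Agent.Lib.PSLCover.Block

/-!
Quadratic annihilators of companion matrices.
-/

set_option autoImplicit false
set_option linter.unusedSectionVars false

namespace CfsgLib.PSLCover

open Matrix Polynomial

variable {F : Type*} [Field F]

theorem comp_mulVec_single {d : ℕ} (a : Fin (d + 1) → F) {j : ℕ} (hj : j < d) :
    comp a *ᵥ Pi.single (⟨j, by omega⟩ : Fin (d + 1)) 1 = Pi.single (⟨j + 1, by omega⟩ : Fin (d + 1)) 1 := by
  ext i
  rw [Matrix.mulVec_single_one, Matrix.col_apply, comp_lt a (fun h => by
    have := congrArg Fin.val h; simp at this; omega), Pi.single_apply]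
  simp only [Fin.ext_iff]

/-- A large companion block has no monic quadratic annihilator. -/
theorem not_quadratic_comp {d : ℕ} (hd : 2 ≤ d) (a : Fin (d + 1) → F) (u v : F) :
    comp a * comp a + u • comp a + v • 1 ≠ 0 := by
  intro h
  have h0 := congrFun (congrArg (fun A => A *ᵥ Pi.single (⟨0, by omega⟩ : Fin (d + 1)) (1 : F)) h) ⟨2, by omega⟩
  simp only [Matrix.add_mulVec, Matrix.smul_mulVec, ← Matrix.mulVec_mulVec, Matrix.one_mulVec,
    comp_mulVec_single a (show 0 < d by omega), comp_mulVec_single a (show 0 + 1 < d by omega),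
    Matrix.zero_mulVec] at h0
  simp [Pi.single_apply, Fin.ext_iff] at h0

/-- The quadratic annihilator of a two-dimensional companion block. -/
theorem comp_two_unique (a b : Fin 2 → F) (h : comp b * comp b - a 1 • comp b - a 0 • 1 = 0) : a = b := by
  have h1 := congrFun (congrArg (fun A => A *ᵥ Pi.single (0 : Fin 2) (1 : F)) h)
  have e0 : comp b *ᵥ Pi.single (0 : Fin 2) 1 = Pi.single 1 1 := comp_mulVec_single b (j := 0) (by omega)
  have e1 : comp b *ᵥ Pi.single (1 : Fin 2) 1 = b := by
    ext i
    rw [Matrix.mulVec_single_one, Matrix.col_apply]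
    exact comp_last b i
  simp only [Matrix.sub_mulVec, Matrix.smul_mulVec, ← Matrix.mulVec_mulVec, Matrix.one_mulVec, e0, e1,
    Matrix.zero_mulVec] at h1
  funext i
  have := h1 i
  fin_cases i <;> simp at this ⊢ <;> linear_combination -this

end CfsgLib.PSLCover
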