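import Cfsg.Agent.Lib.PSLCover.QuadPairs

/-!
Four conjugates for repeated quadratic blocks, up to the transvection-like exception.
-/

set_option autoImplicit false
set_option linter.unusedSectionVars false

namespace CfsgLib.PSLCover

open Matrix Polynomial

variable {F : Type*} [Field F]

theorem GLPowNC.reindex {ι κ : Type*} [Fintype ι] [DecidableEq ι] [Fintype κ] [DecidableEq κ] (e : ι ≃ κ)
    {x g : Matrix ι ι F} {k : ℕ} (h : GLPowNC x k g) : GLPowNC (x.reindex e e) k (g.reindex e e) := by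
  obtain ⟨l, h1, h2, rfl, h4⟩ := h
  refine ⟨l.map (Matrix.reindexAlgEquiv F F e), by simpa using h1, fun y hy => ?_, ?_, h4.reindex e⟩
  · obtain ⟨z, hz, rfl⟩ := List.mem_map.1 hy
    simpa using (h2 z hz).reindex e
  · rw [← map_list_prod]; rfl

/-- Equal spectra after inversion pin down the scalar. -/
theorem scalar_of_charpoly_inv {n b : ℕ} (hb : b ≠ 0) {T1 : Matrix (Fin n) (Fin n) F} {β γ s : F}
    (h1 : T1.charpoly = rootsPoly (b • (β ::ₘ {γ}))) (hd : T1.det ≠ 0)
    (h2 : (s • T1⁻¹).charpoly = rootsPoly (b • (β ::ₘ {γ}))) :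
    (s = β * β ∨ s = β * γ) ∧ (s = γ * β ∨ s = γ * γ) := by
  have key : ∀ c, c ∈ b • (β ::ₘ ({γ} : Multiset F)) → s = c * β ∨ s = c * γ := by
    intro c hc
    obtain ⟨⟨v, hv, e⟩, -⟩ := exists_eigen h1 hc
    have hu : IsUnit T1.det := isUnit_iff_ne_zero.2 hd
    have hc0 : c ≠ 0 := fun h0 => hd (by
      rw [← Matrix.exists_mulVec_eq_zero_iff]; exact ⟨v, hv, by rw [e, h0, zero_smul]⟩)
    have e2 : T1⁻¹ *ᵥ v = c⁻¹ • v := by
      have h := congrArg (fun z => c⁻¹ • (T1⁻¹ *ᵥ z)) e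
      simp only [Matrix.mulVec_smul, Matrix.mulVec_mulVec, Matrix.nonsing_inv_mul T1 hu, Matrix.one_mulVec,
        smul_smul, inv_mul_cancel₀ hc0, one_smul] at h
      exact h.symm
    have hm := mem_of_eigen h2 hv (c := s * c⁻¹) (by rw [Matrix.smul_mulVec, e2, smul_smul])
    rw [Multiset.mem_nsmul, Multiset.mem_cons, Multiset.mem_singleton] at hm
    rcases hm.2 with h | h
    · exact Or.inl (by rw [← h]; field_simp)
    · exact Or.inr (by rw [← h]; field_simp)
  exact ⟨key β (Multiset.mem_nsmul.2 ⟨hb, Multiset.mem_cons_self β _⟩),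
    key γ (Multiset.mem_nsmul.2 ⟨hb, Multiset.mem_cons_of_mem (Multiset.mem_singleton_self γ)⟩)⟩

variable [Fintype F]

/-- Equal quadratic blocks, given the exceptional targets. -/
theorem quads_glPowNC_of_exception (hq : 4 ≤ Fintype.card F) (a : Fin 2 → F) (ha : (comp a).det ≠ 0)
    {b : ℕ} (hb : 1 ≤ b) {g : Matrix (Fin 2 × Fin b) (Fin 2 × Fin b) F} (hg : Nonscalar g)
    (hgd : g.det = (Matrix.blockDiagonal fun _ : Fin b => comp a).det ^ 4)
    (hexc : ∀ (β s : F) (u w : Fin 2 × Fin b → F), β ≠ 0 →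
      ((∀ r r' : F, (comp a).charpoly.eval r = 0 → (comp a).charpoly.eval r' = 0 → r = r') ∧
          β * β ≠ (comp a).det ^ 2 ∨
        ∃ l m : F, l ≠ m ∧ (comp a).charpoly.eval l = 0 ∧ (comp a).charpoly.eval m = 0 ∧ β = l * l) →
      (s = (comp a).det ^ 2 ∨ s = β * β ∧ s ^ 2 = ((comp a).det ^ 2) ^ 2) → g = s • 1 + vecMulVec u w →
      GLPowNC (Matrix.blockDiagonal fun _ : Fin b => comp a) 4 g) :
    GLPowNC (Matrix.blockDiagonal fun _ : Fin b => comp a) 4 g := by
  classical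
  obtain ⟨b', rfl⟩ : ∃ b', b = b' + 1 := ⟨b - 1, by omega⟩
  set X := Matrix.blockDiagonal fun _ : Fin (b' + 1) => comp a with hX
  set d := (comp a).det with hd
  -- one pair in each orientation, with the same spectrum
  obtain ⟨β, γ, R1, R2, hβ0, hβγ, hadm, hdis, h1, h2⟩ : ∃ (β γ : F) (R1 R2 : Set (F × F)), β ≠ 0 ∧
      β * γ = d ^ 2 ∧
      ((∀ r r' : F, (comp a).charpoly.eval r = 0 → (comp a).charpoly.eval r' = 0 → r = r') ∧
          β * β ≠ d ^ 2 ∨
        ∃ l m : F, l ≠ m ∧ (comp a).charpoly.eval l = 0 ∧ (comp a).charpoly.eval m = 0 ∧ β = l * l) ∧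
      (∀ c, (c, c) ∈ R1 → (c, c) ∈ R2 → False) ∧
      HasPair X ((b' + 1) • (β ::ₘ {γ})) R1 Set.univ ∧ HasPair X ((b' + 1) • (β ::ₘ {γ})) R2 Set.univ := by
    by_cases hs : ∃ l m : F, l ≠ m ∧ (comp a).charpoly.eval l = 0 ∧ (comp a).charpoly.eval m = 0
    · obtain ⟨l, m, hlm, hl, hm⟩ := hs
      have hl' := hl
      have hm' := hm
      rw [charpoly_comp_two_eval] at hl' hm'
      have ha1 : a 1 = l + m := mul_left_cancel₀ (sub_ne_zero.2 hlm) (by linear_combination hm' - hl')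
      have hdd : d = l * m := by
        rw [hd, det_comp_two]; linear_combination hl' + l * ha1
      refine ⟨l * l, m * m, {(l, l)}, {(m, m)}, fun h => ha ?_, by rw [hdd]; ring,
        Or.inr ⟨l, m, hlm, hl, hm, rfl⟩, fun c h1 h2 => ?_,
        hasPair_repeat ha (hasPair_split a ha hlm hl hm) ?_ b', ?_⟩
      · rw [hdd, mul_self_eq_zero.1 h, zero_mul]
      · simp only [Set.mem_singleton_iff, Prod.mk.injEq] at h1 h2
        exact hlm (h1.1.symm.trans h2.1)
      · rintro p h1 h2; rw [Set.mem_singleton_iff] at h1 h2; exact hlm (by simpa [h1] using h2.symm)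
      · have h := hasPair_repeat ha (hasPair_split a ha hlm.symm hm hl) (fun p h1 h2 => by
          rw [Set.mem_singleton_iff] at h1 h2; exact hlm (by simpa [h1] using h2)) b'
        rwa [show ((m * m) ::ₘ ({l * l} : Multiset F)) = (l * l) ::ₘ {m * m} from
          Multiset.cons_swap (m * m) (l * l) 0] at h
    · push Not at hs
      obtain ⟨β, hβ, hβ2⟩ := exists_admissible hq d
      have hns : ∀ r r' : F, (comp a).charpoly.eval r = 0 → (comp a).charpoly.eval r' = 0 → r = r' :=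
        fun r r' hr hr' => by_contra fun hne => hs r r' hne hr hr'
      have h := hasPair_repeat ha (hasPair_quad a ha hns hβ2 hβ) (fun l h => h.elim) b'
      exact ⟨β, d ^ 2 / β, ∅, ∅, hβ, mul_div_cancel₀ _ hβ, Or.inl ⟨hns, hβ2⟩, fun c h => h.elim, h, h⟩
  by_cases hbad : ∃ (s : F) (u w : Fin 2 × Fin (b' + 1) → F),
      (s = d ^ 2 ∨ s = β * β ∧ s ^ 2 = (d ^ 2) ^ 2) ∧ g = s • 1 + vecMulVec u w
  · obtain ⟨s, u, w, hs, e⟩ := hbad
    exact hexc β s u w hβ0 hadm hs e
  let e : Fin 2 × Fin (b' + 1) ≃ Fin (2 * (b' + 1)) := finProdFinEquiv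
  have hXd : (X.reindex e e).det ≠ 0 := by
    rw [Matrix.det_reindex_self, hX, det_blockDiagonal_const]; exact pow_ne_zero _ ha
  have hres := glPowNC_four_gen (g := g.reindex e e) hq hXd (h1.reindex e) (h2.reindex e) hdis (hg.reindex e)
    (by rw [Matrix.det_reindex_self, Matrix.det_reindex_self, hgd]) (fun s u w hg1 T1 hT1 hT1d => by
      refine ⟨_, h2.reindex e, fun hp => hbad ⟨s, u ∘ e, w ∘ e, ?_, ?_⟩⟩
      · obtain ⟨p1, p2⟩ := scalar_of_charpoly_inv (Nat.succ_ne_zero b') hT1 hT1d hp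
        rw [mul_comm γ β, hβγ] at p2
        rw [hβγ] at p1
        rcases p1 with p1 | p1
        · rcases p2 with p2 | p2
          · exact Or.inl p2
          · exact Or.inr ⟨p1, by rw [sq, ← hβγ]; nth_rewrite 1 [p1]; rw [p2]; ring⟩
        · exact Or.inl p1
      · ext i j
        have := congrFun (congrFun hg1 (e i)) (e j)
        simpa [Matrix.one_apply, vecMulVec] using this)
  have := hres.reindex e.symm
  simpa [Matrix.reindex_apply, Matrix.submatrix_submatrix] using this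

end CfsgLib.PSLCover
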