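import Cfsg.Agent.Lib.PSLCover.Shape
import Cfsg.Agent.Lib.PSLCover.QuadFour
import Cfsg.Agent.Lib.PSLCover.CompAnn

/-!
Transport along similarity up to renaming the indices.
-/

set_option autoImplicit false
set_option linter.unusedSectionVars false

namespace CfsgLib.PSLCover

open Matrix Polynomial

variable {F : Type*} [Field F]
variable {ι κ μ : Type*} [Fintype ι] [DecidableEq ι] [Fintype κ] [DecidableEq κ] [Fintype μ] [DecidableEq μ]

theorem GLSimE.det_eq {x : Matrix ι ι F} {y : Matrix κ κ F} (h : GLSimE x y) : x.det = y.det := by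
  obtain ⟨e, he⟩ := h
  rw [← he.det_eq, Matrix.det_reindex_self]

theorem GLSimE.trans {x : Matrix ι ι F} {y : Matrix κ κ F} {z : Matrix μ μ F} (h : GLSimE x y)
    (h' : GLSimE y z) : GLSimE x z := by
  obtain ⟨e, he⟩ := h
  obtain ⟨f, hf⟩ := h'
  refine ⟨e.trans f, ?_⟩
  have h2 := (he.reindex f).trans hf
  rwa [show (x.reindex e e).reindex f f = x.reindex (e.trans f) (e.trans f) by
    ext i j; simp] at h2

theorem glSimE_reindex (e : ι ≃ κ) (x : Matrix ι ι F) : GLSimE x (x.reindex e e) := ⟨e, GLSim.refl _⟩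

theorem GLSimE.refl (x : Matrix ι ι F) : GLSimE x x := ⟨Equiv.refl ι, by simpa using GLSim.refl x⟩

theorem GLSimE.fromBlocks_right (A : Matrix μ μ F) {x : Matrix ι ι F} {y : Matrix κ κ F} (h : GLSimE x y) :
    GLSimE (fromBlocks A 0 0 x) (fromBlocks A 0 0 y) := by
  obtain ⟨e, P, hP, eP⟩ := h
  refine ⟨(Equiv.refl μ).sumCongr e, fromBlocks 1 0 0 P, ?_, ?_⟩
  · rwa [Matrix.det_fromBlocks_zero₂₁, det_one, one_mul]
  · rw [show (fromBlocks A 0 0 x).reindex ((Equiv.refl μ).sumCongr e) ((Equiv.refl μ).sumCongr e) =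
      fromBlocks A 0 0 (x.reindex e e) by ext (i | i) (j | j) <;> simp]
    rw [Matrix.fromBlocks_multiply, Matrix.fromBlocks_multiply, eP]
    simp

theorem glSimE_sumComm (A : Matrix ι ι F) (B : Matrix κ κ F) :
    GLSimE (fromBlocks A 0 0 B) (fromBlocks B 0 0 A) := by
  refine ⟨Equiv.sumComm ι κ, ?_⟩
  rw [show (fromBlocks A 0 0 B).reindex (Equiv.sumComm ι κ) (Equiv.sumComm ι κ) = fromBlocks B 0 0 A by
    ext (i | i) (j | j) <;> simp]
  exact GLSim.refl _

variable [Fintype F]

theorem HasPair.of_glSimE {x : Matrix ι ι F} {y : Matrix κ κ F} {S : Multiset F} {R L : Set (F × F)}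
    (h : HasPair y S R L) (hs : GLSimE x y) : HasPair x S R L := by
  obtain ⟨e, he⟩ := hs
  have := (h.of_glSim he).reindex e.symm
  simpa [Matrix.reindex_apply, Matrix.submatrix_submatrix] using this

theorem Flex.of_glSimE {x : Matrix ι ι F} {y : Matrix κ κ F} (h : Flex y) (hs : GLSimE x y) : Flex x := by
  obtain ⟨S1, S2, S2', R1, R2, hne, hd, h1, h2, h3⟩ := h
  exact ⟨S1, S2, S2', R1, R2, hne, hd, h1.of_glSimE hs, h2.of_glSimE hs, h3.of_glSimE hs⟩

theorem TwoPairs.of_glSimE {x : Matrix ι ι F} {y : Matrix κ κ F} (h : TwoPairs y) (hs : GLSimE x y) :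
    TwoPairs x := by
  obtain ⟨S1, S2, R1, R2, hd, h1, h2⟩ := h
  exact ⟨S1, S2, R1, R2, hd, h1.of_glSimE hs, h2.of_glSimE hs⟩

theorem GLPowNC.replace_glSimE {x : Matrix ι ι F} {y : Matrix κ κ F} {k : ℕ}
    (hs : GLSimE x y) {g : Matrix ι ι F}
    (h : ∀ g' : Matrix κ κ F, Nonscalar g' → g'.det = y.det ^ k → GLPowNC y k g')
    (hg : Nonscalar g) (hgd : g.det = x.det ^ k) : GLPowNC x k g := by
  have hdet := hs.det_eq
  obtain ⟨e, he⟩ := hs
  obtain ⟨l, h1, h2, h3, h4⟩ := h (g.reindex e e) (hg.reindex e)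
    (by rw [Matrix.det_reindex_self, hgd, hdet])
  have := GLPowNC.reindex e.symm (x := x.reindex e e) ⟨l, h1, fun z hz => he.trans (h2 z hz), h3, h4⟩
  simpa [Matrix.reindex_apply, Matrix.submatrix_submatrix] using this

/-- A chain is flexible or consists of equal quadratic blocks. -/
theorem Chain.flex_or_quads (hq : 4 ≤ Fintype.card F) {n : ℕ} {x : Matrix (Fin n) (Fin n) F} (h : Chain x)
    (hxd : x.det ≠ 0) :
    (Flex x ∧ ∀ u v : F, x * x + u • x + v • 1 ≠ 0) ∨
      ∃ (a : Fin 2 → F) (b : ℕ), 1 ≤ b ∧ (comp a).det ≠ 0 ∧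
        GLSimE x (Matrix.blockDiagonal fun _ : Fin b => comp a) := by
  have hquad : ∀ {α β : Type} [Fintype α] [DecidableEq α] [Fintype β] [DecidableEq β]
      {A : Matrix α α F} {B : Matrix β β F}, GLSimE A B → ∀ u v : F, A * A + u • A + v • 1 = 0 →
        B * B + u • B + v • 1 = 0 := by
    intro α β _ _ _ _ A B hs u v hA
    obtain ⟨e, P, hP, eP⟩ := hs
    have hA' : A.reindex e e * A.reindex e e + u • A.reindex e e + v • (1 : Matrix β β F) = 0 := by
      have := congrArg (Matrix.reindexAlgEquiv F F e) hA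
      simpa [Matrix.submatrix_add, Matrix.submatrix_smul, Matrix.submatrix_mul_equiv] using this
    have hP' : IsUnit P.det := isUnit_iff_ne_zero.2 hP
    have h1 : (B * B + u • B + v • 1) * P = 0 := by
      have : P * (A.reindex e e * A.reindex e e + u • A.reindex e e + v • 1) = 0 := by rw [hA', Matrix.mul_zero]
      have key : B * B * P = P * (A.reindex e e * A.reindex e e) := by
        rw [Matrix.mul_assoc, ← eP, ← Matrix.mul_assoc, ← eP, Matrix.mul_assoc]
      rw [← this, Matrix.add_mul, Matrix.add_mul, Matrix.smul_mul, Matrix.smul_mul, Matrix.one_mul, key, ← eP,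
        Matrix.mul_add, Matrix.mul_add, Matrix.mul_smul, Matrix.mul_smul, Matrix.mul_one]
    have := congrArg (· * P⁻¹) h1
    simpa [Matrix.mul_assoc, Matrix.mul_nonsing_inv P hP'] using this
  induction h with
  | @one n d x a hd hs =>
    have hcd : (comp a).det ≠ 0 := hs.det_eq ▸ hxd
    rcases Nat.lt_or_ge d 2 with h2 | h2
    · obtain rfl : d = 1 := by omega
      exact Or.inr ⟨a, 1, le_rfl, hcd, hs.trans ⟨quadOne, by rw [reindex_quadOne]; exact GLSim.refl _⟩⟩
    · refine Or.inl ⟨(flex_comp hq (by omega) a hcd).of_glSimE hs, fun u v hx => ?_⟩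
      exact not_quadratic_comp h2 a u v (hquad hs u v hx)
  | @cons n d m x a hd x2 hs hc hann ih =>
    have hdet : x.det = (comp a).det * x2.det := by rw [hs.det_eq, Matrix.det_fromBlocks_zero₂₁]
    rw [hdet] at hxd
    obtain ⟨hcd, h2d⟩ := mul_ne_zero_iff.1 hxd
    have ih' := ih h2d
    rcases Nat.lt_or_ge d 2 with h2 | h2
    · obtain rfl : d = 1 := by omega
      have hann' : x2 * x2 + (-a 1) • x2 + (-a 0) • 1 = 0 := by
        rw [← hann]
        simp [compPoly, Fin.sum_univ_two, sq, Algebra.algebraMap_eq_smul_one]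
        abel
      rcases ih' with ⟨-, hno⟩ | ⟨a', b, hb, hcd', hs2⟩
      · exact absurd hann' (hno _ _)
      · have h1 := hquad hs2 _ _ hann'
        have hblk : comp a' * comp a' - a 1 • comp a' - a 0 • 1 = 0 := by
          ext i j
          have := congrFun (congrFun h1 (i, ⟨0, hb⟩)) (j, ⟨0, hb⟩)
          simp only [← Matrix.blockDiagonal_mul, Matrix.add_apply, Matrix.smul_apply,
            Matrix.blockDiagonal_apply, Matrix.one_apply, Prod.mk.injEq, and_true, if_true, smul_eq_mul,
            Matrix.zero_apply] at this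
          simp only [Matrix.sub_apply, Matrix.smul_apply, Matrix.one_apply, smul_eq_mul, Matrix.zero_apply]
          linear_combination this
        obtain rfl := comp_two_unique a a' hblk
        refine Or.inr ⟨a, b + 1, by omega, hcd, hs.trans ((GLSimE.fromBlocks_right _ hs2).trans
          ⟨quadCons b, ?_⟩)⟩
        rw [reindex_quadCons]
        exact GLSim.refl _
    · have h3 : TwoPairs x2 := by
        rcases ih' with ⟨hf, -⟩ | ⟨a', b, hb, hcd', hs2⟩
        · exact hf.twoPairs
        · obtain ⟨b', rfl⟩ : ∃ b', b = b' + 1 := ⟨b - 1, by omega⟩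
          exact (twoPairs_quads hq a' hcd' b').of_glSimE hs2
      refine Or.inl ⟨((flex_add_block hq h3 h2d (by omega) a hcd).of_glSimE
        (glSimE_sumComm _ _)).of_glSimE hs, fun u v hx => ?_⟩
      have h1 := hquad hs u v hx
      rw [Matrix.fromBlocks_multiply, Matrix.fromBlocks_smul, ← Matrix.fromBlocks_one, Matrix.fromBlocks_smul,
        Matrix.fromBlocks_add, Matrix.fromBlocks_add] at h1
      have h11 := congrArg Matrix.toBlocks₁₁ h1
      simp at h11
      exact not_quadratic_comp h2 a u v h11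

end CfsgLib.PSLCover
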