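import Cfsg.Agent.Lib.PSLCover.Shape
import Cfsg.Agent.Lib.PSLCover.ShapeLemmas

/-!
Invariant factor form: splitting off a companion block of maximal size.
-/

set_option autoImplicit false
set_option linter.unusedSectionVars false

namespace CfsgLib.PSLCover

open Matrix Polynomial

variable {F : Type*} [Field F] {ι κ μ ν : Type*} [Fintype ι] [DecidableEq ι] [Fintype κ] [DecidableEq κ]
  [Fintype μ] [DecidableEq μ] [Fintype ν] [DecidableEq ν]

/-! ### Similarity up to renaming -/

theorem GLSimE.of_reindex (e : ι ≃ κ) (x : Matrix ι ι F) : GLSimE x (x.reindex e e) := ⟨e, GLSim.refl _⟩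

theorem GLSimE.symm {x : Matrix ι ι F} {y : Matrix κ κ F} (h : GLSimE x y) : GLSimE y x := by
  obtain ⟨e, he⟩ := h
  exact ⟨e.symm, by simpa using he.symm.reindex e.symm⟩

theorem GLSimE.card {x : Matrix ι ι F} {y : Matrix κ κ F} (h : GLSimE x y) :
    Fintype.card ι = Fintype.card κ := by
  obtain ⟨e, -⟩ := h
  exact Fintype.card_congr e

theorem GLSim.aeval {x y : Matrix ι ι F} (h : GLSim x y) (p : F[X]) :
    GLSim (Polynomial.aeval x p) (Polynomial.aeval y p) := by
  obtain ⟨P, hP, e⟩ := h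
  refine ⟨P, hP, ?_⟩
  induction p using Polynomial.induction_on' with
  | add a b ha hb => rw [map_add, map_add, mul_add, ha, hb, add_mul]
  | monomial k c =>
    have hk : ∀ k : ℕ, P * x ^ k = y ^ k * P := by
      intro k
      induction k with
      | zero => simp
      | succ k ih => rw [pow_succ, pow_succ, ← mul_assoc, ih, mul_assoc, e, mul_assoc]
    rw [aeval_monomial, aeval_monomial, ← mul_assoc, ← Algebra.commutes, mul_assoc, hk k, ← mul_assoc]

theorem GLSimE.aeval_eq_zero {x : Matrix ι ι F} {y : Matrix κ κ F} (h : GLSimE x y) {p : F[X]}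
    (hp : Polynomial.aeval x p = 0) : Polynomial.aeval y p = 0 := by
  obtain ⟨e, he⟩ := h
  obtain ⟨P, hP, h1⟩ := he.aeval p
  have : Polynomial.aeval (x.reindex e e) p = 0 := by
    have := Polynomial.aeval_algEquiv (Matrix.reindexAlgEquiv F F e) x
    rw [show x.reindex e e = Matrix.reindexAlgEquiv F F e x from rfl, this]
    simp [hp]
  rw [this, mul_zero] at h1
  calc Polynomial.aeval y p = Polynomial.aeval y p * P * P⁻¹ := by
        rw [mul_assoc, Matrix.mul_nonsing_inv P (isUnit_iff_ne_zero.2 hP), mul_one]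
    _ = 0 := by rw [← h1, Matrix.zero_mul]

theorem GLSimE.sub_smul_rank {x : Matrix ι ι F} {y : Matrix κ κ F} (h : GLSimE x y) (c : F) :
    (x - c • 1).rank = (y - c • 1).rank := by
  obtain ⟨e, P, hP, h1⟩ := h
  have hu : IsUnit P.det := isUnit_iff_ne_zero.2 hP
  have h2 : P * (x - c • 1).reindex e e = (y - c • 1) * P := by
    have h3 : (x - c • 1).reindex e e = x.reindex e e - c • 1 := by
      ext i j
      simp [Matrix.one_apply]
    rw [h3, mul_sub, sub_mul, h1, Matrix.mul_smul, Matrix.smul_mul, mul_one, one_mul]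
  calc (x - c • 1).rank = ((x - c • 1).reindex e e).rank := (Matrix.rank_reindex e e _).symm
    _ = (P * (x - c • 1).reindex e e).rank := (Matrix.rank_mul_eq_right_of_isUnit_det _ _ hu).symm
    _ = ((y - c • 1) * P).rank := by rw [h2]
    _ = (y - c • 1).rank := Matrix.rank_mul_eq_left_of_isUnit_det _ _ hu

theorem GLSim.fromBlocks {A A' : Matrix ι ι F} {D D' : Matrix κ κ F} (hA : GLSim A A') (hD : GLSim D D') :
    GLSim (Matrix.fromBlocks A 0 0 D) (Matrix.fromBlocks A' 0 0 D') := by
  obtain ⟨P, hP, hP'⟩ := hA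
  obtain ⟨Q, hQ, hQ'⟩ := hD
  refine ⟨Matrix.fromBlocks P 0 0 Q, by rw [Matrix.det_fromBlocks_zero₂₁]; exact mul_ne_zero hP hQ, ?_⟩
  simp [Matrix.fromBlocks_multiply, hP', hQ']

theorem GLSimE.fromBlocks {A : Matrix ι ι F} {A' : Matrix κ κ F} {D : Matrix μ μ F} {D' : Matrix ν ν F}
    (hA : GLSimE A A') (hD : GLSimE D D') :
    GLSimE (Matrix.fromBlocks A 0 0 D) (Matrix.fromBlocks A' 0 0 D') := by
  obtain ⟨e, he⟩ := hA
  obtain ⟨f, hf⟩ := hD
  refine ⟨e.sumCongr f, ?_⟩
  have : (Matrix.fromBlocks A 0 0 D).reindex (e.sumCongr f) (e.sumCongr f) =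
      Matrix.fromBlocks (A.reindex e e) 0 0 (D.reindex f f) := by
    ext i j
    rcases i with i | i <;> rcases j with j | j <;> simp
  rw [this]
  exact he.fromBlocks hf

theorem glSimE_fromBlocks_comm (A : Matrix ι ι F) (D : Matrix κ κ F) :
    GLSimE (Matrix.fromBlocks A 0 0 D) (Matrix.fromBlocks D 0 0 A) := by
  refine ⟨Equiv.sumComm ι κ, ?_⟩
  have : (Matrix.fromBlocks A 0 0 D).reindex (Equiv.sumComm ι κ) (Equiv.sumComm ι κ) =
      Matrix.fromBlocks D 0 0 A := by
    ext i j
    rcases i with i | i <;> rcases j with j | j <;> simp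
  rw [this]
  exact GLSim.refl _

theorem glSimE_fromBlocks_assoc (A : Matrix ι ι F) (B : Matrix κ κ F) (C : Matrix μ μ F) :
    GLSimE (Matrix.fromBlocks (Matrix.fromBlocks A 0 0 B) 0 0 C)
      (Matrix.fromBlocks A 0 0 (Matrix.fromBlocks B 0 0 C)) := by
  refine ⟨Equiv.sumAssoc ι κ μ, ?_⟩
  have : (Matrix.fromBlocks (Matrix.fromBlocks A 0 0 B) 0 0 C).reindex (Equiv.sumAssoc ι κ μ)
      (Equiv.sumAssoc ι κ μ) = Matrix.fromBlocks A 0 0 (Matrix.fromBlocks B 0 0 C) := by
    ext i j
    rcases i with i | i | i <;> rcases j with j | j | j <;> simp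
  rw [this]
  exact GLSim.refl _

theorem glSimE_fromBlocks_empty [IsEmpty κ] (A : Matrix ι ι F) (D : Matrix κ κ F) :
    GLSimE (Matrix.fromBlocks A 0 0 D) A := by
  refine ⟨Equiv.sumEmpty ι κ, ?_⟩
  have : (Matrix.fromBlocks A 0 0 D).reindex (Equiv.sumEmpty ι κ) (Equiv.sumEmpty ι κ) = A := by
    ext i j
    simp
  rw [this]
  exact GLSim.refl _

/-- Blocks `A` and `B` swapped in a threefold sum. -/
theorem glSimE_fromBlocks_swap (A : Matrix ι ι F) (B : Matrix κ κ F) (C : Matrix μ μ F) :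
    GLSimE (Matrix.fromBlocks A 0 0 (Matrix.fromBlocks B 0 0 C))
      (Matrix.fromBlocks B 0 0 (Matrix.fromBlocks A 0 0 C)) :=
  (glSimE_fromBlocks_assoc A B C).symm.trans
    (((glSimE_fromBlocks_comm A B).fromBlocks (GLSimE.refl C)).trans (glSimE_fromBlocks_assoc B A C))

theorem aeval_fromBlocks (A : Matrix ι ι F) (D : Matrix κ κ F) (p : F[X]) :
    Polynomial.aeval (Matrix.fromBlocks A 0 0 D) p =
      Matrix.fromBlocks (Polynomial.aeval A p) 0 0 (Polynomial.aeval D p) := by
  induction p using Polynomial.induction_on' with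
  | add a b ha hb => simp [ha, hb, Matrix.fromBlocks_add]
  | monomial k c =>
    simp [aeval_monomial, Matrix.fromBlocks_diagonal_pow, Algebra.algebraMap_eq_smul_one,
      Matrix.fromBlocks_smul]

theorem smul_one_reindex (e : ι ≃ κ) (c : F) :
    (c • (1 : Matrix ι ι F)).reindex e e = c • 1 := by
  ext i j
  simp [Matrix.one_apply]

theorem glSimE_smul_one (e : ι ≃ κ) (c : F) : GLSimE (c • (1 : Matrix ι ι F)) (c • (1 : Matrix κ κ F)) := by
  rw [← smul_one_reindex e c]
  exact GLSimE.of_reindex e _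

theorem glSimE_smul_one_add (j k : ℕ) (c : F) :
    GLSimE (c • (1 : Matrix (Fin (j + k)) (Fin (j + k)) F))
      (Matrix.fromBlocks (c • (1 : Matrix (Fin j) (Fin j) F)) 0 0 (c • (1 : Matrix (Fin k) (Fin k) F))) := by
  have h := glSimE_smul_one (F := F) (finSumFinEquiv (m := j) (n := k)).symm c
  rw [← Matrix.fromBlocks_one, Matrix.fromBlocks_smul, smul_zero] at h
  simpa using h

theorem eq_smul_one_of_glSimE {x : Matrix ι ι F} {c : F} (h : GLSimE x (c • (1 : Matrix κ κ F))) :
    x = c • 1 := by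
  have h1 := GLSimE.sub_smul_rank h c
  rw [sub_self, Matrix.rank_zero, Matrix.rank] at h1
  have h2 : (x - c • 1).mulVecLin = 0 := by
    rw [← LinearMap.range_eq_bot]
    exact Submodule.finrank_eq_zero.1 h1
  have h3 : x - c • 1 = 0 := by
    ext i j
    have := congrFun (LinearMap.congr_fun h2 (Pi.single j 1)) i
    simpa [Matrix.one_apply, Pi.single_apply] using this
  exact sub_eq_zero.1 h3

/-! ### Rank -/

theorem rank_fromBlocks_diag (A : Matrix ι ι F) (D : Matrix κ κ F) :
    (Matrix.fromBlocks A 0 0 D).rank = A.rank + D.rank := by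
  have h : (Matrix.fromBlocks A 0 0 D).mulVecLin =
      ((LinearEquiv.sumArrowLequivProdArrow ι κ F F).symm.toLinearMap).comp
        ((A.mulVecLin.prodMap D.mulVecLin).comp
          (LinearEquiv.sumArrowLequivProdArrow ι κ F F).toLinearMap) := by
    refine LinearMap.ext fun v => ?_
    rw [Matrix.mulVecLin_apply, Matrix.fromBlocks_mulVec]
    funext i
    rcases i with i | i <;>
      simp [Function.comp_def, LinearEquiv.sumArrowLequivProdArrow, Equiv.sumArrowEquivProdArrow]
  rw [Matrix.rank, Matrix.rank, Matrix.rank, h, LinearMap.range_comp,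
    LinearMap.range_comp_of_range_eq_top _ (LinearEquiv.range _), LinearEquiv.finrank_map_eq,
    LinearMap.range_prodMap]
  let E : ↥(A.mulVecLin.range.prod D.mulVecLin.range) ≃ₗ[F] ↥A.mulVecLin.range × ↥D.mulVecLin.range :=
    { toFun := fun v => (⟨v.1.1, v.2.1⟩, ⟨v.1.2, v.2.2⟩)
      map_add' := fun _ _ => rfl
      map_smul' := fun _ _ => rfl
      invFun := fun v => ⟨(v.1.1, v.2.1), ⟨v.1.2, v.2.2⟩⟩
      left_inv := fun _ => rfl
      right_inv := fun _ => rfl }
  exact E.finrank_eq.trans Module.finrank_prod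

theorem rank_fromBlocks_sub (A : Matrix ι ι F) (D : Matrix κ κ F) (c : F) :
    (Matrix.fromBlocks A 0 0 D - c • 1).rank = (A - c • 1).rank + (D - c • 1).rank := by
  rw [← rank_fromBlocks_diag, ← Matrix.fromBlocks_one, Matrix.fromBlocks_smul, sub_eq_add_neg,
    Matrix.fromBlocks_neg, Matrix.fromBlocks_add]
  simp [sub_eq_add_neg]

theorem rank_smul_one_sub {l c : F} (h : l ≠ c) :
    (l • (1 : Matrix ι ι F) - c • 1).rank = Fintype.card ι := by
  rw [← sub_smul]
  refine Matrix.rank_of_isUnit _ ((Matrix.isUnit_iff_isUnit_det _).2 (isUnit_iff_ne_zero.2 ?_))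
  simp [sub_ne_zero.2 h]

theorem rank_add_le' (A B : Matrix ι ι F) : (A + B).rank ≤ A.rank + B.rank := by
  rw [Matrix.rank, Matrix.rank, Matrix.rank, Matrix.mulVecLin_add]
  refine le_trans (Submodule.finrank_mono ?_) (Submodule.finrank_add_le_finrank_add_finrank _ _)
  rintro _ ⟨v, rfl⟩
  exact Submodule.add_mem_sup ⟨v, rfl⟩ ⟨v, rfl⟩

theorem exists_vecMulVec_of_rank_le_one {N : Matrix ι ι F} (h : N.rank ≤ 1) :
    ∃ u w, N = vecMulVec u w := by
  obtain ⟨v, hv⟩ := finrank_le_one_iff.1 h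
  choose w hw using fun j => hv ⟨_, Pi.single j 1, rfl⟩
  refine ⟨v, w, ?_⟩
  ext i j
  have := congrFun (congrArg Subtype.val (hw j)) i
  simp at this
  rw [Matrix.vecMulVec_apply, ← this]
  ring

theorem rank_le_one_of_vecMulVec (u w : ι → F) : (vecMulVec u w).rank ≤ 1 :=
  Matrix.rank_vecMulVec_le u w

theorem isRankOne_of_rank {x : Matrix ι ι F} {c : F} (h : (x - c • 1).rank ≤ 1) : IsRankOne x := by
  obtain ⟨u, w, huw⟩ := exists_vecMulVec_of_rank_le_one h
  exact ⟨c, u, w, by rw [← huw, add_sub_cancel]⟩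

/-! ### Polynomials of companion matrices -/

theorem comp_pow_single {d : ℕ} (a : Fin (d + 1) → F) :
    ∀ i, (hi : i < d + 1) → comp a ^ i *ᵥ Pi.single (0 : Fin (d + 1)) 1 =
      Pi.single (⟨i, hi⟩ : Fin (d + 1)) 1 := by
  intro i
  induction i with
  | zero => intro hi; rw [pow_zero, Matrix.one_mulVec]; rfl
  | succ i ih =>
    intro hi
    rw [pow_succ', ← Matrix.mulVec_mulVec, ih (by omega)]
    exact comp_mulVec_single a (by omega)

theorem comp_pow_card {d : ℕ} (a : Fin (d + 1) → F) :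
    comp a ^ (d + 1) *ᵥ Pi.single (0 : Fin (d + 1)) 1 = a := by
  rw [pow_succ', ← Matrix.mulVec_mulVec, comp_pow_single a d (by omega)]
  ext i
  rw [Matrix.mulVec_single_one, Matrix.col_apply]
  exact comp_last a i

theorem aeval_mulVec_eq_sum {x : Matrix ι ι F} {p : F[X]} {k : ℕ} (hp : p.natDegree < k) (v : ι → F) :
    Polynomial.aeval x p *ᵥ v = ∑ i : Fin k, p.coeff i • (x ^ (i : ℕ) *ᵥ v) := by
  rw [Polynomial.aeval_eq_sum_range' hp, Matrix.sum_mulVec,
    ← Fin.sum_univ_eq_sum_range (fun i => (p.coeff i • x ^ i) *ᵥ v) k]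
  simp [Matrix.smul_mulVec]

theorem aeval_comp_small {d : ℕ} (a : Fin (d + 1) → F) {p : F[X]} (hp : p.natDegree < d + 1)
    (h : Polynomial.aeval (comp a) p *ᵥ Pi.single (0 : Fin (d + 1)) 1 = 0) : p = 0 := by
  rw [aeval_mulVec_eq_sum hp] at h
  refine Polynomial.ext fun i => ?_
  rcases lt_or_ge i (d + 1) with hi | hi
  · have := congrFun h ⟨i, hi⟩
    simp only [comp_pow_single a _ (Fin.isLt _), Finset.sum_apply, Pi.smul_apply, Pi.single_apply] at this
    simpa using this
  · simp [Polynomial.coeff_eq_zero_of_natDegree_lt (lt_of_lt_of_le hp hi)]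

theorem degree_compSum_lt {d : ℕ} (a : Fin (d + 1) → F) :
    (∑ i : Fin (d + 1), C (a i) * X ^ (i : ℕ)).degree < ((d + 1 : ℕ) : WithBot ℕ) :=
  Polynomial.degree_sum_fin_lt a

theorem compPoly_monic {d : ℕ} (a : Fin (d + 1) → F) : (compPoly a).Monic :=
  Polynomial.monic_X_pow_sub (degree_compSum_lt a)

theorem compPoly_natDegree {d : ℕ} (a : Fin (d + 1) → F) : (compPoly a).natDegree = d + 1 := by
  refine Polynomial.natDegree_eq_of_degree_eq_some ?_
  rw [compPoly, Polynomial.degree_sub_eq_left_of_degree_lt] <;> rw [Polynomial.degree_X_pow]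
  exact degree_compSum_lt a

theorem aeval_compPoly {x : Matrix ι ι F} {d : ℕ} (a : Fin (d + 1) → F) (v : ι → F) :
    Polynomial.aeval x (compPoly a) *ᵥ v =
      x ^ (d + 1) *ᵥ v - ∑ i : Fin (d + 1), a i • (x ^ (i : ℕ) *ᵥ v) := by
  simp [compPoly, Matrix.sub_mulVec, Matrix.sum_mulVec, Matrix.smul_mulVec,
    Algebra.algebraMap_eq_smul_one]

theorem aeval_comp_compPoly {d : ℕ} (a : Fin (d + 1) → F) :
    Polynomial.aeval (comp a) (compPoly a) = 0 := by
  have h0 : Polynomial.aeval (comp a) (compPoly a) *ᵥ Pi.single (0 : Fin (d + 1)) 1 = 0 := by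
    rw [aeval_compPoly, comp_pow_card]
    simp only [comp_pow_single a _ (Fin.isLt _), Fin.eta]
    rw [sub_eq_zero]
    exact pi_eq_sum_univ' a
  refine Matrix.ext_of_mulVec_single fun i => ?_
  have hcomm : Polynomial.aeval (comp a) (compPoly a) * comp a ^ i.val =
      comp a ^ i.val * Polynomial.aeval (comp a) (compPoly a) := by
    have hc : ∀ p q : F[X], Polynomial.aeval (comp a) p * Polynomial.aeval (comp a) q =
        Polynomial.aeval (comp a) q * Polynomial.aeval (comp a) p := fun p q => by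
      rw [← map_mul, mul_comm, map_mul]
    simpa using hc (compPoly a) (X ^ i.val)
  rw [← comp_pow_single a i.val i.isLt, Matrix.mulVec_mulVec, hcomm, ← Matrix.mulVec_mulVec, h0,
    Matrix.mulVec_zero, Matrix.zero_mulVec]

/-- (6) A monic annihilator of the right degree is the companion polynomial. -/
theorem compPoly_unique {d : ℕ} (b : Fin (d + 1) → F) {p : F[X]} (hp : p.Monic)
    (hdeg : p.natDegree = d + 1) (h : Polynomial.aeval (comp b) p = 0) : p = compPoly b := by
  refine sub_eq_zero.1 (aeval_comp_small b ?_ (by rw [map_sub, h, aeval_comp_compPoly b, sub_zero, Matrix.zero_mulVec]))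
  by_cases h0 : p - compPoly b = 0
  · simp [h0]
  · have h1 : (p - compPoly b).degree < p.degree := by
      refine Polynomial.degree_sub_lt ?_ hp.ne_zero (by rw [hp, compPoly_monic b])
      rw [Polynomial.degree_eq_natDegree hp.ne_zero,
        Polynomial.degree_eq_natDegree (compPoly_monic b).ne_zero, hdeg, compPoly_natDegree]
    rw [Polynomial.degree_eq_natDegree h0, Polynomial.degree_eq_natDegree hp.ne_zero, hdeg] at h1
    exact_mod_cast h1

theorem rank_comp_sub_ge {d : ℕ} (a : Fin (d + 1) → F) (c : F) : d ≤ (comp a - c • 1).rank := by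
  have h : ((comp a - c • 1).submatrix Fin.succ Fin.castSucc).rank = d := by
    rw [Matrix.rank_of_isUnit, Fintype.card_fin]
    refine (Matrix.isUnit_iff_isUnit_det _).2 ?_
    have hentry : ∀ i j : Fin d, ((comp a - c • 1).submatrix Fin.succ Fin.castSucc) i j =
        (if i = j then 1 else 0) - c * (if i.val + 1 = j.val then 1 else 0) := by
      intro i j
      simp [Matrix.submatrix_apply, comp_lt a (Fin.castSucc_lt_last j).ne, Matrix.one_apply,
        Fin.ext_iff]
    have ht : ((comp a - c • 1).submatrix Fin.succ Fin.castSucc).BlockTriangular id := by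
      intro i j hij
      have hij' : j.val < i.val := hij
      rw [hentry, if_neg (show ¬ i = j from fun h => by subst h; omega), if_neg (by omega)]
      simp
    rw [Matrix.det_of_isUpperTriangular ht]
    refine isUnit_iff_ne_zero.2 (Finset.prod_ne_zero_iff.2 fun i _ => ?_)
    rw [hentry]
    simp
  calc d = ((comp a - c • 1).submatrix Fin.succ Fin.castSucc).rank := h.symm
    _ ≤ _ := Matrix.rank_submatrix_le _ _ _

theorem rank_comp_sub_le {d : ℕ} (a : Fin (d + 1) → F) {l : F} (hl : (compPoly a).IsRoot l) :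
    (comp a - l • 1).rank ≤ d := by
  obtain ⟨q, hq⟩ := Polynomial.dvd_iff_isRoot.2 hl
  have hq0 : q ≠ 0 := fun h => (compPoly_monic a).ne_zero (by rw [hq, h, mul_zero])
  have hqdeg : q.natDegree < d + 1 := by
    have := compPoly_natDegree a
    rw [hq, Polynomial.natDegree_mul (Polynomial.X_sub_C_ne_zero l) hq0, Polynomial.natDegree_X_sub_C] at this
    omega
  have hmul : (comp a - l • 1) * Polynomial.aeval (comp a) q = 0 := by
    rw [← aeval_comp_compPoly a, hq]
    simp [Algebra.algebraMap_eq_smul_one]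
  have h1 := Matrix.rank_add_rank_le_card_of_mul_eq_zero hmul
  have h2 : Polynomial.aeval (comp a) q ≠ 0 := fun h => hq0 (aeval_comp_small a hqdeg (by rw [h, Matrix.zero_mulVec]))
  have h3 : (Polynomial.aeval (comp a) q).rank ≠ 0 := fun h => h2 (by
    rw [Matrix.rank] at h
    have h4 := LinearMap.range_eq_bot.1 (Submodule.finrank_eq_zero.1 h)
    ext i j
    simpa using congrFun (LinearMap.congr_fun h4 (Pi.single j 1)) i)
  simp only [Fintype.card_fin] at h1
  omega

/-! ### Splitting off an invariant complement -/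

theorem glSimE_of_linearEquiv {x : Matrix ι ι F} {y : Matrix κ κ F} (L : (κ → F) ≃ₗ[F] (ι → F))
    (hL : ∀ w, x *ᵥ L w = L (y *ᵥ w)) : GLSimE x y := by
  have hc : Fintype.card κ = Fintype.card ι := by simpa using L.finrank_eq
  let e := Fintype.equivOfCardEq hc
  let P : Matrix ι ι F := LinearMap.toMatrix' ((LinearEquiv.funCongrLeft F F e).trans L).toLinearMap
  have hPv : ∀ v, P *ᵥ v = L (fun k => v (e k)) := fun v => by
    rw [← Matrix.toLin'_apply, Matrix.toLin'_toMatrix']; rfl
  have hP : P.det ≠ 0 := by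
    rw [← LinearMap.det_toLin', Matrix.toLin'_toMatrix']
    exact (LinearEquiv.isUnit_det' _).ne_zero
  refine (GLSimE.symm ⟨e, P, hP, ?_⟩)
  refine Matrix.ext_of_mulVec_single fun i => ?_
  rw [← Matrix.mulVec_mulVec, ← Matrix.mulVec_mulVec, hPv, hPv, hL]
  congr 1
  funext k
  rw [Matrix.reindex_apply, Matrix.submatrix_mulVec_equiv]
  simp [Function.comp_def]

/-- A basis adapted to an invariant complement of an invariant subspace. -/
theorem exists_glSimE_blocks (x : Matrix ι ι F) {A : Matrix κ κ F} (U : (κ → F) →ₗ[F] (ι → F))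
    (hU : ∀ w, x *ᵥ U w = U (A *ᵥ w)) (W : Submodule F (ι → F)) (hW : ∀ w ∈ W, x *ᵥ w ∈ W)
    (hinj : ∀ w, U w ∈ W → w = 0) (hsur : ∀ v, ∃ w, v - U w ∈ W) :
    ∃ (m : ℕ) (D : Matrix (Fin m) (Fin m) F), GLSimE x (Matrix.fromBlocks A 0 0 D) := by
  classical
  set m := Module.finrank F W
  let b := (Module.finBasis F W).equivFun.symm
  let fW : (Fin m → F) →ₗ[F] (Fin m → F) :=
    b.symm.toLinearMap.comp ((LinearMap.restrict x.mulVecLin hW).comp b.toLinearMap)
  refine ⟨m, LinearMap.toMatrix' fW, ?_⟩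
  let L0 : (κ ⊕ Fin m → F) →ₗ[F] (ι → F) :=
    (U.coprod (W.subtype.comp b.toLinearMap)).comp
      (LinearEquiv.sumArrowLequivProdArrow κ (Fin m) F F).toLinearMap
  have hL0 : ∀ w, L0 w = U (w ∘ Sum.inl) + (b (w ∘ Sum.inr) : ι → F) := fun w => by
    simp [L0, LinearEquiv.sumArrowLequivProdArrow, Equiv.sumArrowEquivProdArrow, Function.comp_def]
    try rfl
  have hbij : Function.Bijective L0 := by
    constructor
    · rw [← LinearMap.ker_eq_bot, LinearMap.ker_eq_bot']
      intro w hw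
      rw [hL0] at hw
      have h1 : w ∘ Sum.inl = 0 := hinj _ (by
        rw [eq_neg_of_add_eq_zero_left hw]; exact W.neg_mem (Submodule.coe_mem _))
      have h2 : w ∘ Sum.inr = 0 := by
        rw [h1, map_zero, zero_add] at hw
        exact b.map_eq_zero_iff.1 (Subtype.ext hw)
      funext i
      rcases i with i | i
      · exact congrFun h1 i
      · exact congrFun h2 i
    · intro v
      obtain ⟨w, hw⟩ := hsur v
      refine ⟨Sum.elim w (b.symm ⟨_, hw⟩), ?_⟩
      rw [hL0, Sum.elim_comp_inl, Sum.elim_comp_inr, LinearEquiv.apply_symm_apply]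
      simp
  refine glSimE_of_linearEquiv (LinearEquiv.ofBijective L0 hbij) fun w => ?_
  simp only [LinearEquiv.ofBijective_apply, hL0, Matrix.mulVec_add, hU, Matrix.fromBlocks_mulVec,
    Sum.elim_comp_inl, Sum.elim_comp_inr, Matrix.zero_mulVec, add_zero, zero_add]
  congr 1
  rw [← Matrix.toLin'_apply (LinearMap.toMatrix' fW), Matrix.toLin'_toMatrix']
  simp [fW, LinearMap.restrict_apply, Function.comp_def]
  try rfl

theorem exists_vec_ann (x : Matrix ι ι F) :
    ∃ v : ι → F, ∀ p : F[X], Polynomial.aeval x p *ᵥ v = 0 → Polynomial.aeval x p = 0 := by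
  obtain ⟨v, hv⟩ := Module.exists_ker_toSpanSingleton_eq_annihilator F[X]
    (Module.AEval' (Matrix.toLinAlgEquiv' x))
  refine ⟨(Module.AEval'.of (Matrix.toLinAlgEquiv' x)).symm v, fun p hp => ?_⟩
  have h1 : p ∈ Module.annihilator F[X] (Module.AEval' (Matrix.toLinAlgEquiv' x)) := by
    rw [← hv, LinearMap.mem_ker, LinearMap.toSpanSingleton_apply]
    refine (Module.AEval'.of (Matrix.toLinAlgEquiv' x)).symm.injective ?_
    rw [Module.AEval.of_symm_smul, map_zero, Polynomial.aeval_algEquiv]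
    simpa using hp
  rw [Module.AEval.annihilator_eq_ker_aeval, RingHom.mem_ker, Polynomial.aeval_algEquiv] at h1
  simpa using h1

/-- The companion block of the minimal polynomial splits off. -/
theorem exists_split_cyclic [Nonempty ι] (x : Matrix ι ι F) :
    ∃ (d m : ℕ) (a : Fin (d + 1) → F) (x2 : Matrix (Fin m) (Fin m) F),
      GLSimE x (Matrix.fromBlocks (comp a) 0 0 x2) ∧ Polynomial.aeval x2 (compPoly a) = 0 := by
  classical
  have hint := Matrix.isIntegral x
  obtain ⟨d, hd⟩ := Nat.exists_eq_succ_of_ne_zero (minpoly.natDegree_pos hint).ne'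
  rw [Nat.succ_eq_add_one] at hd
  obtain ⟨v, hv⟩ := exists_vec_ann x
  let a : Fin (d + 1) → F := fun i => -(minpoly F x).coeff i
  have hpoly : compPoly a = minpoly F x := by
    conv_rhs => rw [(minpoly.monic hint).as_sum, hd, ← Fin.sum_univ_eq_sum_range
      (fun i => C ((minpoly F x).coeff i) * X ^ i) (d + 1)]
    simp [compPoly, a]
  have hann : Polynomial.aeval x (compPoly a) = 0 := hpoly ▸ minpoly.aeval F x
  let u : ℕ → ι → F := fun i => x ^ i *ᵥ v
  have hu : ∀ i, x *ᵥ u i = u (i + 1) := fun i => by simp [u, Matrix.mulVec_mulVec, pow_succ']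
  have hrec : u (d + 1) = ∑ i : Fin (d + 1), a i • u i := by
    have := aeval_compPoly (x := x) a v
    rw [hann, Matrix.zero_mulVec] at this
    exact sub_eq_zero.1 this.symm
  have hli : LinearIndependent F fun i : Fin (d + 1) => u i := by
    rw [Fintype.linearIndependent_iff]
    intro g hg i
    have hdeg : (∑ i : Fin (d + 1), C (g i) * X ^ (i : ℕ)).degree < ((d + 1 : ℕ) : WithBot ℕ) := degree_compSum_lt g
    have h1 : Polynomial.aeval x (∑ i : Fin (d + 1), C (g i) * X ^ (i : ℕ)) = 0 := hv _ (by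
      simpa [Matrix.sum_mulVec, Matrix.smul_mulVec, Algebra.algebraMap_eq_smul_one] using hg)
    have h2 : (∑ i : Fin (d + 1), C (g i) * X ^ (i : ℕ)) = 0 := by
      by_contra h0
      have := Polynomial.degree_le_of_dvd (minpoly.dvd F x h1) h0
      rw [Polynomial.degree_eq_natDegree (minpoly.ne_zero hint), hd] at this
      exact absurd (lt_of_le_of_lt this hdeg) (lt_irrefl _)
    have h3 := congrArg (fun p : F[X] => p.coeff i) h2
    simpa [Polynomial.finsetSum_coeff, Polynomial.coeff_C_mul_X_pow, Fin.val_inj] using h3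
  let U : (Fin (d + 1) → F) →ₗ[F] (ι → F) := Fintype.linearCombination F fun i : Fin (d + 1) => u i
  have hUapply : ∀ w, U w = ∑ i, w i • u i := fun w => rfl
  have hUinj : Function.Injective U := hli.fintypeLinearCombination_injective
  obtain ⟨G, hG⟩ := U.exists_leftInverse_of_injective (LinearMap.ker_eq_bot.2 hUinj)
  let φ : (ι → F) →ₗ[F] F := (LinearMap.proj (Fin.last d)).comp G
  have hφ : ∀ i : Fin (d + 1), φ (u i) = if i = Fin.last d then 1 else 0 := by
    intro i
    have h1 : U (Pi.single i 1) = u i := by simp [hUapply, Pi.single_apply]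
    have h2 := LinearMap.congr_fun hG (Pi.single i 1)
    rw [LinearMap.comp_apply, h1, LinearMap.id_apply] at h2
    simp [φ, h2, Pi.single_apply, eq_comm]
  let K : (ι → F) →ₗ[F] (Fin (d + 1) → F) := LinearMap.pi fun i => φ.comp (x ^ (i : ℕ)).mulVecLin
  have hK : ∀ w i, K w i = φ (x ^ (i : ℕ) *ᵥ w) := fun w i => rfl
  have hKU : Function.Injective (K.comp U) := by
    rw [← LinearMap.ker_eq_bot, LinearMap.ker_eq_bot']
    intro w hw
    by_contra hne
    have hs : (Finset.univ.filter fun j => w j ≠ 0).Nonempty := by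
      obtain ⟨j, hj⟩ := Function.ne_iff.1 hne
      exact ⟨j, by simpa using hj⟩
    set j0 := Finset.max' _ hs
    have hj0 : w j0 ≠ 0 := (Finset.mem_filter.1 (Finset.max'_mem _ hs)).2
    have h1 := congrFun hw (⟨d - j0.val, by omega⟩ : Fin (d + 1))
    rw [LinearMap.comp_apply, hK, hUapply, Matrix.mulVec_sum, map_sum, Finset.sum_eq_single j0] at h1
    · rw [Matrix.mulVec_smul, map_smul, Matrix.mulVec_mulVec, ← pow_add] at h1
      have h2 : d - j0.val + j0.val = d := by omega
      rw [show x ^ (d - j0.val + j0.val) *ᵥ v = u (Fin.last d).val by simp [u, h2], hφ] at h1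
      simp at h1
      exact hj0 h1
    · intro j _ hj
      by_cases hwj : w j = 0
      · simp [hwj]
      have hlt : j < j0 := lt_of_le_of_ne (Finset.le_max' _ j (by simpa using hwj)) hj
      rw [Matrix.mulVec_smul, map_smul, Matrix.mulVec_mulVec, ← pow_add,
        show x ^ (d - j0.val + j.val) *ᵥ v = u (⟨d - j0.val + j.val, by omega⟩ : Fin (d + 1)).val from rfl, hφ,
        if_neg, smul_zero]
      intro h
      have := congrArg Fin.val h
      simp at this
      omega
    · simp
  have hU' : ∀ w, x *ᵥ U w = U (comp a *ᵥ w) := by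
    intro w
    have hc : ∀ i : Fin (d + 1), x *ᵥ u i = U (comp a *ᵥ Pi.single i 1) := by
      intro i
      rw [hu]
      by_cases hi : i = Fin.last d
      · subst hi
        rw [Fin.val_last, hrec, hUapply]
        refine Finset.sum_congr rfl fun j _ => ?_
        rw [Matrix.mulVec_single_one, Matrix.col_apply, comp_last]
      · have hlt : i.val < d := Fin.val_lt_last hi
        rw [comp_mulVec_single a hlt, hUapply]
        simp [Pi.single_apply]
    conv_rhs => rw [pi_eq_sum_univ' w, Matrix.mulVec_sum, map_sum]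
    rw [hUapply, Matrix.mulVec_sum]
    exact Finset.sum_congr rfl fun i _ => by rw [Matrix.mulVec_smul, Matrix.mulVec_smul, map_smul, hc]
  have hW : ∀ w ∈ LinearMap.ker K, x *ᵥ w ∈ LinearMap.ker K := by
    intro w hw
    rw [LinearMap.mem_ker] at hw ⊢
    have hz : ∀ i : Fin (d + 1), φ (x ^ (i : ℕ) *ᵥ w) = 0 := fun i => by rw [← hK, hw]; rfl
    funext i
    rw [hK, Matrix.mulVec_mulVec, ← pow_succ, Pi.zero_apply]
    by_cases hi : i.val + 1 < d + 1
    · exact hz ⟨i.val + 1, hi⟩
    · have h1 : x ^ (i.val + 1) *ᵥ w = ∑ j : Fin (d + 1), a j • (x ^ (j : ℕ) *ᵥ w) := by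
        have := aeval_compPoly (x := x) a w
        rw [hann, Matrix.zero_mulVec] at this
        rw [show i.val + 1 = d + 1 by omega]
        exact sub_eq_zero.1 this.symm
      rw [h1, map_sum]
      exact Finset.sum_eq_zero fun j _ => by rw [map_smul, hz, smul_zero]
  obtain ⟨m, D, hD⟩ := exists_glSimE_blocks x U hU' (LinearMap.ker K) hW
    (fun w hw => hKU (by simpa using LinearMap.mem_ker.1 hw)) (fun y => by
    obtain ⟨w, hw⟩ := (LinearMap.injective_iff_surjective.1 hKU) (K y)
    exact ⟨w, by rw [LinearMap.mem_ker, map_sub, ← LinearMap.comp_apply, hw, sub_self]⟩)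
  refine ⟨d, m, a, D, hD, ?_⟩
  have := hD.aeval_eq_zero hann
  rw [aeval_fromBlocks] at this
  ext i j
  simpa using congrFun (congrFun this (Sum.inr i)) (Sum.inr j)

/-- As `Chain`, with `l` a root of every factor. -/
inductive ChainRoot (l : F) : ∀ {n : ℕ}, Matrix (Fin n) (Fin n) F → Prop
  | one {n d : ℕ} {x : Matrix (Fin n) (Fin n) F} (a : Fin (d + 1) → F) (hd : 2 ≤ d + 1)
      (hl : (compPoly a).IsRoot l) (h : GLSimE x (comp a)) : ChainRoot l x
  | cons {n d m : ℕ} {x : Matrix (Fin n) (Fin n) F} (a : Fin (d + 1) → F) (hd : 2 ≤ d + 1)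
      (hl : (compPoly a).IsRoot l) (x2 : Matrix (Fin m) (Fin m) F)
      (h : GLSimE x (Matrix.fromBlocks (comp a) 0 0 x2)) (hc : ChainRoot l x2)
      (hann : Polynomial.aeval x2 (compPoly a) = 0) : ChainRoot l x

theorem ChainRoot.chain {l : F} {n : ℕ} {x : Matrix (Fin n) (Fin n) F} (h : ChainRoot l x) : Chain x := by
  induction h with
  | one a hd hl h => exact .one a hd h
  | cons a hd hl x2 h hc hann ih => exact .cons a hd x2 h ih hann

theorem comp_zero_eq (a : Fin (0 + 1) → F) : comp a = a 0 • 1 := by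
  ext i j
  obtain rfl : i = Fin.last 0 := Fin.ext (by have := i.isLt; simp)
  obtain rfl : j = Fin.last 0 := Fin.ext (by have := j.isLt; simp)
  rw [comp_last]
  simp

theorem isRoot_of_aeval_smul_one [Nonempty ι] {c : F} {p : F[X]}
    (h : Polynomial.aeval (c • (1 : Matrix ι ι F)) p = 0) : p.IsRoot c := by
  rw [← Algebra.algebraMap_eq_smul_one, Polynomial.aeval_algebraMap_apply_eq_algebraMap_eval] at h
  obtain ⟨i⟩ := ‹Nonempty ι›
  simpa [Matrix.algebraMap_matrix_apply] using congrFun (congrFun h i) i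

/-- (1) Every matrix is a chain, scalar, or a scalar block plus a chain sharing the eigenvalue. -/
theorem exists_chain_or_lambda {n : ℕ} (x : Matrix (Fin n) (Fin n) F) :
    Chain x ∨ (∃ c : F, x = c • 1) ∨ ∃ (l : F) (j m : ℕ) (x2 : Matrix (Fin m) (Fin m) F),
      1 ≤ j ∧ ChainRoot l x2 ∧
        GLSimE x (Matrix.fromBlocks (l • (1 : Matrix (Fin j) (Fin j) F)) 0 0 x2) := by
  induction n using Nat.strong_induction_on with
  | _ n ih =>
  rcases Nat.eq_zero_or_pos n with hn | hn
  · subst hn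
    exact Or.inr (Or.inl ⟨1, Subsingleton.elim _ _⟩)
  haveI : Nonempty (Fin n) := ⟨⟨0, hn⟩⟩
  obtain ⟨d, m, a, x2, hsim, hann⟩ := exists_split_cyclic x
  have hcard : n = d + 1 + m := by simpa using hsim.card
  rcases Nat.eq_zero_or_pos d with hd | hd
  · subst hd
    have hx2 : x2 = a 0 • 1 := by
      have h1 := hann
      simp only [compPoly, map_sub, map_pow, Polynomial.aeval_X, map_sum, map_mul, Polynomial.aeval_C,
        zero_add, pow_one, Fin.sum_univ_one, Fin.val_zero, pow_zero, mul_one] at h1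
      rw [sub_eq_zero.1 h1]
      simp [Algebra.algebraMap_eq_smul_one]
    refine Or.inr (Or.inl ⟨a 0, eq_smul_one_of_glSimE (κ := Fin (0 + 1) ⊕ Fin m) ?_⟩)
    rw [comp_zero_eq, hx2] at hsim
    simpa [← Matrix.fromBlocks_one, Matrix.fromBlocks_smul] using hsim
  rcases Nat.eq_zero_or_pos m with hm | hm
  · subst hm
    exact Or.inl (.one a (by omega) (hsim.trans (glSimE_fromBlocks_empty _ _)))
  haveI : Nonempty (Fin m) := ⟨⟨0, hm⟩⟩
  rcases ih m (by omega) x2 with hc | ⟨c, rfl⟩ | ⟨l, j, m3, x3, hj, hx3, hsim2⟩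
  · exact Or.inl (.cons a (by omega) x2 hsim hc hann)
  · exact Or.inr (Or.inr ⟨c, m, d + 1, comp a, hm,
      .one a (by omega) (isRoot_of_aeval_smul_one hann) (GLSimE.refl _),
      hsim.trans (glSimE_fromBlocks_comm _ _)⟩)
  · haveI : Nonempty (Fin j) := ⟨⟨0, hj⟩⟩
    have h0 := hsim2.aeval_eq_zero hann
    rw [aeval_fromBlocks] at h0
    have hl : (compPoly a).IsRoot l := isRoot_of_aeval_smul_one (ι := Fin j) (by
      ext u v; simpa using congrFun (congrFun h0 (Sum.inl u)) (Sum.inl v))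
    have hann3 : Polynomial.aeval x3 (compPoly a) = 0 := by
      ext u v; simpa using congrFun (congrFun h0 (Sum.inr u)) (Sum.inr v)
    have hre := GLSimE.of_reindex finSumFinEquiv (Matrix.fromBlocks (comp a) 0 0 x3)
    refine Or.inr (Or.inr ⟨l, j, d + 1 + m3, _, hj, .cons a (by omega) hl x3 hre.symm hx3 hann3, ?_⟩)
    exact (hsim.trans ((GLSimE.refl _).fromBlocks hsim2)).trans
      ((glSimE_fromBlocks_swap _ _ _).trans ((GLSimE.refl _).fromBlocks hre))

theorem ChainRoot.rank_bounds {l : F} {n : ℕ} {x : Matrix (Fin n) (Fin n) F} (h : ChainRoot l x) :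
    ∃ k : ℕ, 1 ≤ k ∧ 2 * k ≤ n ∧ (∀ c : F, n ≤ k + (x - c • 1).rank) ∧ (x - l • 1).rank + k ≤ n := by
  induction h with
  | @one n d x a hd hl h =>
    have hn : n = d + 1 := by simpa using h.card
    refine ⟨1, le_rfl, by omega, fun c => ?_, ?_⟩
    · have := rank_comp_sub_ge a c
      rw [h.sub_smul_rank c]; omega
    · have := rank_comp_sub_le a hl
      rw [h.sub_smul_rank l]; omega
  | @cons n d m x a hd hl x2 h hc hann ih =>
    obtain ⟨k, hk1, hk2, hk3, hk4⟩ := ih
    have hn : n = d + 1 + m := by simpa using h.card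
    refine ⟨k + 1, by omega, by omega, fun c => ?_, ?_⟩
    · have := rank_comp_sub_ge a c
      have := hk3 c
      rw [h.sub_smul_rank c, rank_fromBlocks_sub]; omega
    · have := rank_comp_sub_le a hl
      rw [h.sub_smul_rank l, rank_fromBlocks_sub]; omega

theorem rank_lambda_sub_self {n j m : ℕ} {x : Matrix (Fin n) (Fin n) F} {x2 : Matrix (Fin m) (Fin m) F} {l : F}
    (h : GLSimE x (Matrix.fromBlocks (l • (1 : Matrix (Fin j) (Fin j) F)) 0 0 x2)) :
    (x - l • 1).rank = (x2 - l • 1).rank := by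
  rw [h.sub_smul_rank l, rank_fromBlocks_sub, sub_self, Matrix.rank_zero, zero_add]

theorem Big.not_scalar {n : ℕ} {x : Matrix (Fin n) (Fin n) F} (hb : Big x) (c : F) : x ≠ c • 1 := by
  intro h
  have := hb c
  rw [h, sub_self, Matrix.rank_zero] at this
  omega

theorem chainRoot_one_of_lt {l : F} {n : ℕ} {x : Matrix (Fin n) (Fin n) F} (h : ChainRoot l x) (hn : n < 4) :
    ∃ (d : ℕ) (a : Fin (d + 1) → F), n = d + 1 ∧ (compPoly a).IsRoot l ∧ GLSimE x (comp a) := by
  cases h with
  | @one n d x a hd hl h => exact ⟨d, a, by simpa using h.card, hl, h⟩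
  | @cons n d m x a hd hl x2 h hc hann =>
    obtain ⟨k, hk1, hk2, -, -⟩ := hc.rank_bounds
    have : n = d + 1 + m := by simpa using h.card
    omega

theorem glSimE_comp_unit {n j m : ℕ} {x : Matrix (Fin n) (Fin n) F} {x2 : Matrix (Fin m) (Fin m) F} {l : F}
    {d : ℕ} {a : Fin (d + 1) → F} (hj : j = 1)
    (h : GLSimE x (Matrix.fromBlocks (l • (1 : Matrix (Fin j) (Fin j) F)) 0 0 x2)) (h2 : GLSimE x2 (comp a)) :
    GLSimE x (Matrix.fromBlocks (comp a) 0 0 (l • (1 : Matrix Unit Unit F))) := by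
  subst hj
  exact (h.trans ((glSimE_smul_one (Equiv.ofUnique (Fin 1) Unit) l).fromBlocks h2)).trans
    (glSimE_fromBlocks_comm _ _)

/-- (2) Size four. -/
theorem chain_or_four (x : Matrix (Fin 4) (Fin 4) F) (hr : ¬ IsRankOne x) :
    Chain x ∨ ∃ (a : Fin 3 → F) (l : F), (compPoly a).IsRoot l ∧
      GLSimE x (Matrix.fromBlocks (comp a) 0 0 (l • (1 : Matrix Unit Unit F))) := by
  rcases exists_chain_or_lambda x with hc | ⟨c, rfl⟩ | ⟨l, j, m, x2, hj, hx2, hsim⟩
  · exact Or.inl hc
  · exact absurd (isRankOne_of_rank (c := c) (by simp)) hr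
  obtain ⟨k, hk1, hk2, -, hk4⟩ := hx2.rank_bounds
  have hn : 4 = j + m := by simpa using hsim.card
  have h2 : ¬ (x - l • 1).rank ≤ 1 := fun h => hr (isRankOne_of_rank h)
  rw [rank_lambda_sub_self hsim] at h2
  obtain ⟨d, a, hd, hl, ha⟩ := chainRoot_one_of_lt hx2 (by omega)
  obtain rfl : d = 2 := by omega
  exact Or.inr ⟨a, l, hl, glSimE_comp_unit (by omega) hsim ha⟩

/-- (3) Size five. -/
theorem chain_or_five (x : Matrix (Fin 5) (Fin 5) F) (hb : Big x) :
    Chain x ∨ ∃ (a : Fin 4 → F) (l : F), (compPoly a).IsRoot l ∧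
      GLSimE x (Matrix.fromBlocks (comp a) 0 0 (l • (1 : Matrix Unit Unit F))) := by
  rcases exists_chain_or_lambda x with hc | ⟨c, hc⟩ | ⟨l, j, m, x2, hj, hx2, hsim⟩
  · exact Or.inl hc
  · exact absurd hc (hb.not_scalar c)
  obtain ⟨k, hk1, hk2, -, hk4⟩ := hx2.rank_bounds
  have hn : 5 = j + m := by simpa using hsim.card
  have h3 := hb l
  rw [rank_lambda_sub_self hsim] at h3
  cases hx2 with
  | @one n d x2 a hd hl h =>
    have : m = d + 1 := by simpa using h.card
    obtain rfl : d = 3 := by omega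
    exact Or.inr ⟨a, l, hl, glSimE_comp_unit (by omega) hsim h⟩
  | @cons n d m' x2 a hd hl x3 h hc hann =>
    obtain ⟨k', hk1', hk2', -, hk4'⟩ := hc.rank_bounds
    have hm : m = d + 1 + m' := by simpa using h.card
    have h5 := rank_comp_sub_le a hl
    rw [h.sub_smul_rank l, rank_fromBlocks_sub] at h3
    omega

/-- (4) Splitting off one eigenvalue block, keeping the translates large. -/
theorem chain_or_peel {n : ℕ} (x : Matrix (Fin n) (Fin n) F) (hb : Big x) (hd : x.det ≠ 0) :
    Chain x ∨ ∃ (l : F) (x2 : Matrix (Fin (n - 1)) (Fin (n - 1)) F),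
      GLSimE x (Matrix.fromBlocks (l • (1 : Matrix Unit Unit F)) 0 0 x2) ∧ Big x2 ∧ x2.det ≠ 0 ∧ l ≠ 0 := by
  rcases exists_chain_or_lambda x with hc | ⟨c, hc⟩ | ⟨l, j, m, x2, hj, hx2, hsim⟩
  · exact Or.inl hc
  · exact absurd hc (hb.not_scalar c)
  obtain ⟨k, hk1, hk2, hk3, hk4⟩ := hx2.rank_bounds
  have hn : n = j + m := by simpa using hsim.card
  obtain ⟨j', rfl⟩ := Nat.exists_eq_add_of_le hj
  have e1 : GLSimE (l • (1 : Matrix (Fin (1 + j')) (Fin (1 + j')) F))
      (Matrix.fromBlocks (l • (1 : Matrix Unit Unit F)) 0 0 (l • (1 : Matrix (Fin j') (Fin j') F))) :=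
    (glSimE_smul_one_add 1 j' l).trans
      ((glSimE_smul_one (Equiv.ofUnique (Fin 1) Unit) l).fromBlocks (GLSimE.refl _))
  let e : Fin j' ⊕ Fin m ≃ Fin (n - 1) := finSumFinEquiv.trans (finCongr (by omega))
  let y := (Matrix.fromBlocks (l • (1 : Matrix (Fin j') (Fin j') F)) 0 0 x2).reindex e e
  have hy : GLSimE x (Matrix.fromBlocks (l • (1 : Matrix Unit Unit F)) 0 0 y) :=
    (hsim.trans ((e1.fromBlocks (GLSimE.refl x2)).trans (glSimE_fromBlocks_assoc _ _ _))).trans
      ((GLSimE.refl _).fromBlocks (GLSimE.of_reindex e _))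
  have hdet : (l • (1 : Matrix Unit Unit F)).det * y.det ≠ 0 := by
    rw [← Matrix.det_fromBlocks_zero₂₁ _ (0 : Matrix Unit (Fin (n - 1)) F), ← hy.det_eq]
    exact hd
  refine Or.inr ⟨l, y, hy, fun c => ?_, right_ne_zero_of_mul hdet, ?_⟩
  · rw [← (GLSimE.of_reindex e (Matrix.fromBlocks (l • (1 : Matrix (Fin j') (Fin j') F)) 0 0 x2)).sub_smul_rank c,
      rank_fromBlocks_sub]
    have h3 := hb l
    rw [rank_lambda_sub_self hsim] at h3
    by_cases hcl : c = l
    · subst hcl; omega
    · have := hk3 c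
      rw [rank_smul_one_sub (Ne.symm hcl), Fintype.card_fin]
      omega
  · intro h0
    exact left_ne_zero_of_mul hdet (by simp [h0])

/-- (5) Small rank: split off an eigenvector with a complement. -/
theorem exists_peel_small {n : ℕ} (hn : 5 ≤ n) (x : Matrix (Fin n) (Fin n) F) (c : F)
    (h2 : (x - c • 1).rank ≤ 2) (hr : ¬ IsRankOne x) :
    ∃ x2 : Matrix (Fin (n - 1)) (Fin (n - 1)) F,
      GLSimE x (Matrix.fromBlocks (c • (1 : Matrix Unit Unit F)) 0 0 x2) ∧ ¬ IsRankOne x2 ∧
        (x2 - c • 1).rank ≤ 2 := by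
  classical
  set N := (x - c • 1).mulVecLin with hN
  have hrn := N.finrank_range_add_finrank_ker
  have hr2 : Module.finrank F (LinearMap.range N) ≤ 2 := h2
  rw [Module.finrank_fintype_fun_eq_card, Fintype.card_fin] at hrn
  have hnle : ¬ LinearMap.ker N ≤ LinearMap.range N := fun h => by
    have := Submodule.finrank_mono h
    omega
  obtain ⟨v, hv, hvr⟩ := SetLike.not_le_iff_exists.1 hnle
  obtain ⟨φ0, hφ0, hφr⟩ := Submodule.exists_dual_map_eq_bot_of_notMem hvr inferInstance
  have hφN : ∀ w, φ0 (N w) = 0 := fun w => by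
    have : φ0 (N w) ∈ (LinearMap.range N).map φ0 := ⟨_, ⟨w, rfl⟩, rfl⟩
    rwa [hφr, Submodule.mem_bot] at this
  have hxv : ∀ w, x *ᵥ w = N w + c • w := fun w => by
    simp [hN, Matrix.sub_mulVec, Matrix.smul_mulVec]
  let U : (Unit → F) →ₗ[F] (Fin n → F) := (LinearMap.proj ()).smulRight v
  obtain ⟨m, D, hD⟩ := exists_glSimE_blocks x (A := c • (1 : Matrix Unit Unit F)) U
    (fun w => by
      show x *ᵥ (w () • v) = ((c • (1 : Matrix Unit Unit F)) *ᵥ w) () • v
      rw [Matrix.mulVec_smul, hxv, LinearMap.mem_ker.1 hv, zero_add, Matrix.smul_mulVec, Matrix.one_mulVec,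
        Pi.smul_apply, smul_smul, smul_eq_mul, mul_comm])
    (LinearMap.ker φ0)
    (fun w hw => by
      rw [LinearMap.mem_ker] at hw ⊢
      rw [hxv, map_add, map_smul, hφN, hw, smul_zero, add_zero])
    (fun w hw => by
      have h1 : φ0 (w () • v) = 0 := LinearMap.mem_ker.1 hw
      rw [map_smul, smul_eq_mul] at h1
      funext u
      exact (mul_eq_zero.1 h1).resolve_right hφ0)
    (fun y => ⟨fun _ => φ0 y / φ0 v, by
      show y - (φ0 y / φ0 v) • v ∈ LinearMap.ker φ0
      rw [LinearMap.mem_ker, map_sub, map_smul, smul_eq_mul, div_mul_cancel₀ _ hφ0, sub_self]⟩)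
  have hm : n = 1 + m := by simpa using hD.card
  let e : Fin m ≃ Fin (n - 1) := finCongr (by omega)
  have hD' := hD.trans ((GLSimE.refl _).fromBlocks (GLSimE.of_reindex e D))
  have hrank : ((D.reindex e e) - c • 1).rank = (x - c • 1).rank := by
    rw [hD'.sub_smul_rank c, rank_fromBlocks_sub, sub_self, Matrix.rank_zero, zero_add]
  refine ⟨_, hD', ?_, hrank ▸ h2⟩
  rintro ⟨c', u, w, huw⟩
  by_cases hcc : c' = c
  · subst hcc
    refine hr (isRankOne_of_rank (c := c') ?_)
    rw [← hrank, huw, add_sub_cancel_left]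
    exact rank_le_one_of_vecMulVec u w
  · have h4 := rank_add_le' (D.reindex e e - c • 1) (-vecMulVec u w)
    have h5 : D.reindex e e - c • 1 + -vecMulVec u w = c' • 1 - c • 1 := by
      rw [huw]; abel
    have h6 : (-vecMulVec u w).rank ≤ 1 := by
      rw [← Matrix.neg_vecMulVec]
      exact rank_le_one_of_vecMulVec _ _
    rw [h5, rank_smul_one_sub hcc, Fintype.card_fin, hrank] at h4
    omega

end CfsgLib.PSLCover
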