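import Cfsg.Agent.Lib.PSLCover.ThreeField

/-!
Three by three: a matrix of determinant one which is not a scalar plus rank one has every non-scalar matrix
of determinant one, and the identity, as a product of three conjugates.

Every cyclic matrix with a simple eigenvalue is a product of two conjugates; the target is such a matrix
times an inverse conjugate, arranged with exact Krylov determinants.
-/

set_option autoImplicit false
set_option linter.unusedSectionVars false
set_option linter.unusedSimpArgs false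

namespace CfsgLib.PSLCover

open Matrix

variable {F : Type*} [Field F]

theorem InPow.conjBy {ι : Type*} [Fintype ι] [DecidableEq ι] {x g : Matrix ι ι F} {k : ℕ} (h : InPow x k g)
    {P : Matrix ι ι F} (hP : P.det ≠ 0) : InPow (PSLCover.conjBy P x) k (PSLCover.conjBy P g) := by
  obtain ⟨l, h1, h2, rfl⟩ := h
  refine ⟨l.map (PSLCover.conjBy P), by simpa using h1, fun y hy => ?_, (conjBy_prod hP l).symm⟩
  obtain ⟨z, hz, rfl⟩ := List.mem_map.1 hy
  obtain ⟨Q, hQ, e⟩ := h2 z hz
  refine ⟨PSLCover.conjBy P Q, ?_, by rw [← conjBy_mul hP, ← conjBy_mul hP, e]⟩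
  rw [PSLCover.conjBy, det_mul, det_mul, det_nonsing_inv, Ring.inverse_eq_inv', hQ, mul_one,
    mul_inv_cancel₀ hP]

theorem DetFull.of_glSim {ι : Type*} [Fintype ι] [DecidableEq ι] {x y : Matrix ι ι F} (hx : DetFull x)
    (h : GLSim x y) : DetFull y := fun d hd => by
  obtain ⟨P, hP, e⟩ := h
  obtain ⟨R, hR, eR⟩ := hx d hd
  refine ⟨PSLCover.conjBy P R, ?_, by rw [← conjBy_eq hP e, ← conjBy_mul hP, ← conjBy_mul hP, eR]⟩
  rw [PSLCover.conjBy, det_mul, det_mul, det_nonsing_inv, Ring.inverse_eq_inv', hR, mul_comm P.det,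
    mul_assoc, mul_inv_cancel₀ hP, mul_one]

theorem DetFull.smul {ι : Type*} [Fintype ι] [DecidableEq ι] {x : Matrix ι ι F} (hx : DetFull x) (c : F) :
    DetFull (c • x) := fun d hd => by
  obtain ⟨R, hR, eR⟩ := hx d hd
  exact ⟨R, hR, by rw [Matrix.mul_smul, Matrix.smul_mul, eR]⟩

namespace Three

/-- A member of the class of the companion of determinant one. -/
theorem slSim_comp {c1 c2 : F} {M : Matrix (Fin 3) (Fin 3) F} (h : SameInv M (comp 1 c1 c2)) {v : Fin 3 → F}
    {l : F} (hl : l ≠ 0) (hk : (kry M v).det = l ^ 3) : SLSim (comp 1 c1 c2) M := by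
  have h1 : (kry M (l⁻¹ • v)).det = 1 := by
    rw [kry_smul, hk, inv_pow, inv_mul_cancel₀ (pow_ne_zero _ hl)]
  exact slSim_of_inv h (v := l⁻¹ • v) (w := Pi.single 0 1) (by rw [h1]; exact one_ne_zero)
    (by rw [h1, kry_comp, det_one])

/-- The adjugate of a member of the inverse class. -/
theorem slSim_comp_adjugate {c1 c2 : F} {M : Matrix (Fin 3) (Fin 3) F} (ht : M.trace = -c1)
    (hs : sec M = c2) (hd : M.det = 1) {v : Fin 3 → F} {l : F} (hl : l ≠ 0) (hk : (kry M v).det = l ^ 3) :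
    SLSim (comp 1 c1 c2) M.adjugate := by
  obtain ⟨e1, e2, e3⟩ := comp_inv (1 : F) c1 c2
  refine slSim_comp ⟨?_, ?_, ?_⟩ (v := M *ᵥ (M *ᵥ v)) (l := -l) (neg_ne_zero.2 hl) ?_
  · rw [trace_adjugate, e1, hs]
  · rw [sec_adjugate, e2, hd, ht, one_mul]
  · rw [det_adjugate_three, e3, hd, one_pow]
  · rw [kry_adjugate, hd, hk]; ring

/-- Cyclic matrices of determinant one with a simple root are products of two conjugates. -/
theorem inPow_two {c1 c2 : F} {B : Matrix (Fin 3) (Fin 3) F} (hB : Cyc B) (hd : B.det = 1) {b : F}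
    (hr : b ^ 3 - B.trace * b ^ 2 + sec B * b - 1 = 0)
    (hs : 3 * b ^ 2 - 2 * B.trace * b + sec B ≠ 0) : InPow (comp 1 c1 c2) 2 B := by
  set τ := B.trace - b with hτ
  set ν := b ^ 2 - B.trace * b + sec B with hν
  have hb : b ≠ 0 := fun e => by rw [e] at hr; simp at hr
  obtain ⟨u, w, h1, h2, h3, h4⟩ := exists_tri (1 : F) (-c2) (-c1) b (t := b) hb (τ - b) ((τ - b) * b - ν) 1
    c2 (-c1)
  set B' := tri (τ - b) ((τ - b) * b - ν) 1 b b u w with hB'
  set A := comp (1 : F) (-c2) (-c1) with hA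
  have hB'c : Cyc B' := tri_cyc_block one_ne_zero (fun e => hs (by linear_combination e)) _ _
  have hinv : SameInv B B' := by
    refine ⟨?_, ?_, ?_⟩
    · simp [hB', tri, Matrix.trace_fin_three, hτ]
    · simp [hB', tri, sec, hτ, hν]
      ring
    · rw [hd, hB', Matrix.det_fin_three (tri (τ - b) ((τ - b) * b - ν) 1 b b u w)]
      simp [tri]
      linear_combination -hr
  have hfull : DetFull B := by
    refine DetFull.of_glSim (comp_detFull (c0 := 1) (c1 := -sec B) (c2 := B.trace) (r := b) ?_ ?_)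
      (hd ▸ hB.glSim_comp).symm
    · linear_combination hr
    · intro e; exact hs (by linear_combination e)
  obtain ⟨a1, a2, a3⟩ := comp_inv (1 : F) c1 c2
  have hM : SLSim (comp 1 c1 c2) (A * B') :=
    slSim_comp ⟨by rw [h1, a1], by rw [h2, a2], by rw [h3, a3]; linear_combination hr⟩ (l := b) hb
      (by rw [h4]; ring)
  obtain ⟨b1, b2, b3⟩ := comp_inv (1 : F) (-c2) (-c1)
  have hA' : SLSim (comp 1 c1 c2) A.adjugate :=
    slSim_comp_adjugate b1 (by rw [hA, b2, neg_neg]) b3 (v := Pi.single 0 1) one_ne_zero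
      (by rw [hA, kry_comp, det_one, one_pow])
  have h5 : InPow (comp 1 c1 c2) 2 B' := by
    have h6 := (inPow_one hA').append (inPow_one hM)
    rwa [← Matrix.mul_assoc, Matrix.adjugate_mul, hA, b3, one_smul, Matrix.one_mul] at h6
  exact h5.of_slSim ((glSim_of_inv hinv hB hB'c).slSim
    (hfull.of_glSim (glSim_of_inv hinv hB hB'c).symm))

/-- Cyclic matrices of determinant one are products of three conjugates. -/
theorem inPow_three_cyc {c1 c2 : F} {g : Matrix (Fin 3) (Fin 3) F} (hg : Cyc g) (hd : g.det = 1) :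
    InPow (comp 1 c1 c2) 3 g := by
  obtain ⟨v, hv⟩ := hg
  set δ := (kry g v).det with hδ
  set A := comp (1 : F) (-g.trace) (sec g) with hA
  obtain ⟨a1, a2, a3⟩ := comp_inv (1 : F) (-g.trace) (sec g)
  obtain ⟨u, w, h1, h2, h3, h4⟩ := exists_tri (1 : F) (-g.trace) (sec g) 1 (t := δ) hv (1 - δ)
    ((1 - δ) * δ - 1) 1 (-c1) c2
  set B := tri (1 - δ) ((1 - δ) * δ - 1) 1 δ 1 u w with hB
  set D : Matrix (Fin 3) (Fin 3) F := diagonal ![δ, 1, 1] with hD
  have hDd : D.det = δ := by rw [hD, det_diagonal, Fin.prod_univ_three]; simp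
  have hD0 : D.det ≠ 0 := hDd ▸ hv
  have hk : ∀ (N : Matrix (Fin 3) (Fin 3) F) (z : Fin 3 → F),
      (kry (conjBy D N) (D *ᵥ z)).det = δ * (kry N z).det := fun N z => by
    rw [kry_conj (N := N) (P := D) ?_ z, det_mul, hDd]
    rw [PSLCover.conjBy, Matrix.mul_assoc, Matrix.nonsing_inv_mul D (isUnit_iff_ne_zero.2 hD0),
      Matrix.mul_one]
  -- the matrix in the inverse class
  set M := conjBy D (A * B) with hM
  obtain ⟨m1, m2, m3⟩ := sameInv_of_glSim (glSim_conjBy hD0 (A * B))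
  have hdM : M.det = 1 := by rw [← m3, h3]; ring
  have hMc : SLSim (comp 1 c1 c2) M.adjugate :=
    slSim_comp_adjugate (by rw [← m1, h1]) (by rw [← m2, h2]) hdM (v := D *ᵥ Pi.single 1 1) (l := δ) hv
      (by rw [hk, h4]; ring)
  -- the middle factor
  obtain ⟨n1, n2, n3⟩ := sameInv_of_glSim (glSim_conjBy hD0 B)
  have e1 : B.trace = 2 := by
    simp [hB, tri, Matrix.trace_fin_three]
    norm_num
  have e2 : sec B = 2 := by
    simp [hB, tri, sec]
    ring
  have e3 : B.det = 1 := by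
    simp [hB, tri, Matrix.det_fin_three]
  have hBc : Cyc B := tri_cyc_block one_ne_zero (fun e => one_ne_zero (by linear_combination e)) _ _
  have hB2 : InPow (comp 1 c1 c2) 2 (conjBy D B) := by
    refine inPow_two (hBc.of_glSim (glSim_conjBy hD0 B)) (n3 ▸ e3) (b := 1) ?_ ?_
    · rw [← n1, ← n2, e1, e2]; ring
    · rw [← n1, ← n2, e1, e2]
      intro e
      exact one_ne_zero (by linear_combination e)
  have h5 := hB2.append (inPow_one hMc)
  have e : conjBy D B * M.adjugate = (conjBy D A).adjugate := by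
    rw [hM, conjBy_mul hD0, Matrix.adjugate_mul_distrib, ← Matrix.mul_assoc, Matrix.mul_adjugate, ← n3, e3,
      one_smul, Matrix.one_mul]
  rw [e] at h5
  obtain ⟨p1, p2, p3⟩ := sameInv_of_glSim (glSim_conjBy hD0 A)
  have hAd : (conjBy D A).det = 1 := by rw [← p3, hA, a3]
  refine h5.of_slSim (slSim_of_inv (M := g) ⟨?_, ?_, ?_⟩ (v := v)
    (w := (-1 : F) • (conjBy D A *ᵥ (conjBy D A *ᵥ (D *ᵥ Pi.single 0 1)))) hv ?_)
  · rw [trace_adjugate, ← p2, hA, a2, neg_neg]
  · rw [sec_adjugate, hAd, ← p1, hA, a1, one_mul]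
  · rw [det_adjugate_three, hAd, hd, one_pow]
  · rw [kry_smul, kry_adjugate, hAd, hk, hA, kry_comp, det_one, hδ]
    ring

/-- The standard row for the given pairing. -/
def stdRow [DecidableEq F] (δ : F) : Fin 3 → F := if δ = 0 then ![0, 1, 0] else ![δ, 0, 0]

/-- Rank one perturbations of the identity are classified by their pairing. -/
theorem row_glSim [DecidableEq F] {u w : Fin 3 → F} (hu : u ≠ 0) (hw : w ≠ 0) :
    GLSim (1 + vecMulVec u w) (1 + vecMulVec (Pi.single (0 : Fin 3) (1 : F)) (stdRow (w ⬝ᵥ u))) := by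
  obtain ⟨Q, hQ, hQe⟩ : ∃ Q : Matrix (Fin 3) (Fin 3) F, Q.det ≠ 0 ∧ Q *ᵥ Pi.single 0 1 = u := by
    by_cases h0 : u 0 = 0
    swap
    · refine ⟨!![u 0, 0, 0; u 1, 1, 0; u 2, 0, 1], by simpa [Matrix.det_fin_three] using h0, ?_⟩
      ext i; fin_cases i <;> simp
    by_cases h1 : u 1 = 0
    swap
    · refine ⟨!![u 0, 0, 1; u 1, 0, 0; u 2, 1, 0], by simpa [Matrix.det_fin_three] using h1, ?_⟩
      ext i; fin_cases i <;> simp
    have h2 : u 2 ≠ 0 := fun h2 => hu (by ext i; fin_cases i <;> assumption)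
    refine ⟨!![u 0, 1, 0; u 1, 0, 1; u 2, 0, 0], by simpa [Matrix.det_fin_three] using h2, ?_⟩
    ext i; fin_cases i <;> simp
  have hQu : IsUnit Q.det := isUnit_iff_ne_zero.2 hQ
  set w' := w ᵥ* Q with hw'
  set δ := w ⬝ᵥ u with hδ
  have hw0 : w' 0 = δ := by
    rw [hδ, ← hQe, Matrix.dotProduct_mulVec, ← hw', dotProduct_single, mul_one]
  obtain ⟨R, hR, hRe, hRs⟩ : ∃ R : Matrix (Fin 3) (Fin 3) F, R.det ≠ 0 ∧
      R *ᵥ Pi.single 0 1 = Pi.single 0 1 ∧ stdRow δ ᵥ* R = w' := by
    by_cases hd0 : δ = 0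
    swap
    · refine ⟨!![1, w' 1 / δ, w' 2 / δ; 0, 1, 0; 0, 0, 1], by simp [Matrix.det_fin_three], ?_, ?_⟩
      · ext i; fin_cases i <;> simp
      · rw [stdRow, if_neg hd0]
        ext i
        fin_cases i <;> simp [Matrix.vecMul, dotProduct, Fin.sum_univ_three, hw0, mul_div_cancel₀ _ hd0]
    by_cases h1 : w' 1 = 0
    swap
    · refine ⟨!![1, 0, 0; 0, w' 1, w' 2; 0, 0, 1], by simpa [Matrix.det_fin_three] using h1, ?_, ?_⟩
      · ext i; fin_cases i <;> simp
      · rw [stdRow, if_pos hd0]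
        ext i
        fin_cases i <;> simp [Matrix.vecMul, dotProduct, Fin.sum_univ_three, hw0, hd0]
    have h2 : w' 2 ≠ 0 := fun h2 => hw (by
      have hz : w' = 0 := by
        ext i
        fin_cases i
        · exact hw0.trans hd0
        · exact h1
        · exact h2
      have := congrArg (fun z => z ᵥ* Q⁻¹) hz
      simpa [hw', Matrix.vecMul_vecMul, Matrix.mul_nonsing_inv Q hQu] using this)
    refine ⟨!![1, 0, 0; 0, 0, w' 2; 0, 1, 0], by simpa [Matrix.det_fin_three] using h2, ?_, ?_⟩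
    · ext i; fin_cases i <;> simp
    · rw [stdRow, if_pos hd0]
      ext i
      fin_cases i <;> simp [Matrix.vecMul, dotProduct, Fin.sum_univ_three, hw0, hd0, h1]
  refine ⟨R * Q⁻¹, by rw [det_mul]; exact mul_ne_zero hR (Matrix.isUnit_nonsing_inv_det Q hQu).ne_zero, ?_⟩
  rw [Matrix.mul_add, Matrix.add_mul, Matrix.mul_one, Matrix.one_mul, Matrix.mul_vecMulVec,
    Matrix.vecMulVec_mul, ← Matrix.vecMul_vecMul, hRs, hw', Matrix.vecMul_vecMul,
    Matrix.mul_nonsing_inv Q hQu, Matrix.vecMul_one, ← hQe, ← Matrix.mulVec_mulVec,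
    Matrix.mulVec_mulVec _ Q⁻¹ Q, Matrix.nonsing_inv_mul Q hQu, Matrix.one_mulVec, hRe]

variable [Fintype F]

/-- Scalar plus rank one, not scalar. -/
theorem inPow_three_row (h4 : 4 ≤ Fintype.card F) {c1 c2 c : F} {u w : Fin 3 → F}
    (hns : Nonscalar (c • 1 + vecMulVec u w)) (hd : (c • 1 + vecMulVec u w).det = 1) :
    InPow (comp 1 c1 c2) 3 (c • 1 + vecMulVec u w) := by
  classical
  have hu : u ≠ 0 := fun e => hns c (by ext i j; simp [e, vecMulVec_apply])
  have hw : w ≠ 0 := fun e => hns c (by ext i j; simp [e, vecMulVec_apply])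
  have hdd : (c • 1 + vecMulVec u w).det = c ^ 3 + c ^ 2 * (w ⬝ᵥ u) := by
    simp [Matrix.det_fin_three, vecMulVec_apply, dotProduct, Fin.sum_univ_three]
    ring
  have hc : c ≠ 0 := fun e => by rw [e] at hdd; rw [e, hdd] at hd; simp at hd
  set u' := c⁻¹ • u with hu'
  have hg : c • 1 + vecMulVec u w = c • (1 + vecMulVec u' w) := by
    rw [smul_add, hu', ← Matrix.smul_vecMulVec, smul_smul, mul_inv_cancel₀ hc, one_smul]
  have hδ : w ⬝ᵥ u' = c⁻¹ ^ 3 - 1 := by
    rw [hu', dotProduct_smul, smul_eq_mul]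
    field_simp
    linear_combination hdd.symm.trans hd
  -- the middle class
  obtain ⟨τ, -, hτ⟩ : ∃ τ ∈ (Finset.univ : Finset F), τ ∉ ({2, -(c * c1) - 1} : Finset F) :=
    Finset.exists_mem_notMem_of_card_lt_card (lt_of_le_of_lt Finset.card_le_two (by
      rw [Finset.card_univ]; omega))
  simp only [Finset.mem_insert, Finset.mem_singleton, not_or] at hτ
  set A := comp (1 : F) (-c2) (-c1) with hA
  obtain ⟨f, f0, h1, h2, h3, hk⟩ := exists_row (1 : F) (-c2) (-c1) (c⁻¹ ^ 3) ((τ + 1) / c) ((τ + 1) / c ^ 2)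
  set N := 1 + vecMulVec (Pi.single (0 : Fin 3) (1 : F)) f with hN
  have hB : InPow (comp 1 c1 c2) 2 (c • (A * N)) := by
    have hb1 : (c • (A * N)).trace = τ + 1 := by
      rw [Matrix.trace_smul, h1, smul_eq_mul, mul_div_cancel₀ _ hc]
    have hb2 : sec (c • (A * N)) = τ + 1 := by
      rw [sec_smul, h2, mul_div_cancel₀ _ (pow_ne_zero _ hc)]
    refine inPow_two ⟨Pi.single 0 1, ?_⟩ ?_ (b := 1) ?_ ?_
    · rw [kry_smul_left, hk]
      exact mul_ne_zero (pow_ne_zero _ hc) (pow_ne_zero _ (pow_ne_zero _ (inv_ne_zero hc)))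
    · rw [Matrix.det_smul, h3, Fintype.card_fin, one_mul, ← mul_pow, mul_inv_cancel₀ hc, one_pow]
    · rw [hb1, hb2]; ring
    · rw [hb1, hb2]
      intro e
      exact hτ.1 (by linear_combination -e)
  have hf : f ≠ 0 := fun e => hτ.2 (by
    rw [hN, e, show vecMulVec (Pi.single (0 : Fin 3) (1 : F)) (0 : Fin 3 → F) = 0 by
      ext i j; simp [vecMulVec_apply], add_zero, Matrix.mul_one, (comp_inv _ _ _).1] at h1
    field_simp at h1
    linear_combination -h1)
  obtain ⟨b1, b2, b3⟩ := comp_inv (1 : F) (-c2) (-c1)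
  have hA' : SLSim (comp 1 c1 c2) A.adjugate :=
    slSim_comp_adjugate b1 (by rw [hA, b2, neg_neg]) b3 (v := Pi.single 0 1) one_ne_zero
      (by rw [hA, kry_comp, det_one, one_pow])
  have h5 : InPow (comp 1 c1 c2) 3 (c • N) := by
    have h6 := (inPow_one hA').append hB
    rwa [Matrix.mul_smul, ← Matrix.mul_assoc, Matrix.adjugate_mul, hA, b3, one_smul, Matrix.one_mul] at h6
  have hsim : GLSim (1 + vecMulVec u' w) N := by
    have h7 := row_glSim (u := u') (w := w) (by
      rw [hu']; exact smul_ne_zero (inv_ne_zero hc) hu) hw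
    have h8 := row_glSim (u := Pi.single (0 : Fin 3) (1 : F)) (w := f)
      (fun e => one_ne_zero (α := F) (by simpa using congrFun e 0)) hf
    rw [dotProduct_single, mul_one, f0] at h8
    rw [hδ] at h7
    exact h7.trans h8.symm
  rw [hg]
  exact h5.of_slSim (((hsim.smul c).symm).slSim ((row_detFull f).smul c))

theorem exists_ne_zero_neg_one (h4 : 4 ≤ Fintype.card F) : ∃ s : F, s ≠ 0 ∧ s ≠ -1 := by
  classical
  obtain ⟨s, -, hs⟩ : ∃ s ∈ (Finset.univ : Finset F), s ∉ ({0, -1} : Finset F) :=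
    Finset.exists_mem_notMem_of_card_lt_card (lt_of_le_of_lt Finset.card_le_two (by
      rw [Finset.card_univ]; omega))
  exact ⟨s, by simpa [not_or] using hs⟩

/-- The identity is a product of three conjugates. -/
theorem inPow_three_one (h4 : 4 ≤ Fintype.card F) (c1 c2 : F) : InPow (comp 1 c1 c2) 3 1 := by
  rcases root_cases (1 : F) c1 c2 with h | ⟨r, hr, hd⟩ | ⟨r, rfl, rfl, h1⟩
  · simpa using (irreducible_case h).2
  · obtain ⟨e1, e2, e3⟩ := comp_inv (1 : F) c1 c2
    have hfull := comp_detFull hr hd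
    obtain ⟨a, b, c, ha, hb, hc, habc⟩ := scalar_of_simple (comp_cyc 1 c1 c2) (by rw [e3]; exact one_ne_zero)
      (μ := r) (by rw [e1, e2, e3]; linear_combination hr)
      (by rw [e1, e2]; intro e; exact hd (by linear_combination e))
    refine ⟨[a, b, c], rfl, ?_, ?_⟩
    · simp [ha.slSim hfull, hb.slSim hfull, hc.slSim hfull]
    · rw [e3, one_smul] at habc
      simpa [Matrix.mul_assoc] using habc
  · obtain ⟨s, hs0, hs1⟩ := exists_ne_zero_neg_one h4
    have hr0 : r ≠ 0 := fun e => by rw [e] at h1; simp at h1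
    let U : F → F → Matrix (Fin 3) (Fin 3) F := fun l z => !![r, r * l, r * z; 0, r, r * l; 0, 0, r]
    have hU : ∀ l z : F, l ≠ 0 → SLSim (comp 1 (-(3 * r ^ 2)) (3 * r)) (U l z) := fun l z hl => by
      obtain ⟨e1, e2, e3⟩ := comp_inv (1 : F) (-(3 * r ^ 2)) (3 * r)
      refine slSim_comp ⟨?_, ?_, ?_⟩ (v := Pi.single 2 1) (neg_ne_zero.2 (mul_ne_zero hr0 hl)) ?_
      · rw [e1]; simp [U, Matrix.trace_fin_three]; ring
      · rw [e2]; simp [U, sec]; ring
      · rw [e3]; simp [U, Matrix.det_fin_three]; linear_combination -h1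
      · simp [U, kry, Matrix.det_fin_three, Matrix.mulVec, Matrix.mul_apply, dotProduct, Fin.sum_univ_three,
          Pi.single_apply]
        ring
    refine ⟨[U 1 (1 + s + s ^ 2), U s 0, U (-1 - s) 0], rfl, ?_, ?_⟩
    · simp [hU 1 _ one_ne_zero, hU s 0 hs0,
        hU (-1 - s) 0 (fun e => hs1 (by linear_combination -e))]
    · simp only [List.prod_cons, List.prod_nil, mul_one]
      ext i j
      fin_cases i <;> fin_cases j <;>
        simp [U, Matrix.mul_apply, Fin.sum_univ_three] <;>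
        first
          | ring1
          | linear_combination -h1

end Three

/-- Three by three: every non-scalar matrix of determinant one, and the identity, is a product of three
conjugates of a matrix of determinant one which is not a scalar plus rank one. -/
theorem inPow_three [Fintype F] (h4 : 4 ≤ Fintype.card F) {x : Matrix (Fin 3) (Fin 3) F} (hx : x.det = 1)
    (hr : ¬IsRankOne x) :
    (∀ g : Matrix (Fin 3) (Fin 3) F, Nonscalar g → g.det = 1 → InPow x 3 g) ∧ InPow x 3 1 := by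
  have hc : Three.Cyc x := (Three.cyc_or_rankOne x).resolve_right hr
  have hsim := hc.glSim_comp.symm
  rw [hx] at hsim
  obtain ⟨P, hP, e⟩ := hsim
  rw [← conjBy_eq hP e]
  refine ⟨fun g hg hd => ?_, ?_⟩
  · have hu : IsUnit P.det := isUnit_iff_ne_zero.2 hP
    set g' := P⁻¹ * g * P with hg'
    have hgg : conjBy P g' = g := conjBy_eq hP (by
      rw [hg', ← Matrix.mul_assoc, ← Matrix.mul_assoc, Matrix.mul_nonsing_inv P hu, Matrix.one_mul])
    have hs : GLSim g g' := (hgg ▸ glSim_conjBy hP g').symm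
    have hns : Nonscalar g' := hg.of_glSim hs
    have hd' : g'.det = 1 := hs.det_eq ▸ hd
    rw [← hgg]
    refine InPow.conjBy ?_ hP
    rcases Three.cyc_or_rankOne g' with h | ⟨c, u, w, e'⟩
    · exact Three.inPow_three_cyc h hd'
    · rw [e'] at hns hd' ⊢
      exact Three.inPow_three_row h4 hns hd'
  · rw [← conjBy_one hP]
    exact (Three.inPow_three_one h4 _ _).conjBy hP

/-- Three by three, up to scalars. -/
theorem inPow_three_smul [Fintype F] (h4 : 4 ≤ Fintype.card F) {x : Matrix (Fin 3) (Fin 3) F}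
    (hx : x.det = 1) (hr : ¬IsRankOne x) (g : Matrix (Fin 3) (Fin 3) F) (hg : g.det = 1) :
    ∃ z : F, InPow x 3 (z • g) := by
  obtain ⟨h1, h2⟩ := inPow_three h4 hx hr
  by_cases hns : Nonscalar g
  · exact ⟨1, by rw [one_smul]; exact h1 g hns hg⟩
  · simp only [Nonscalar, not_forall, not_not] at hns
    obtain ⟨c, rfl⟩ := hns
    refine ⟨c⁻¹, ?_⟩
    have hc : c ≠ 0 := fun e => by rw [e, zero_smul] at hg; simp at hg
    rwa [smul_smul, inv_mul_cancel₀ hc, one_smul]

end CfsgLib.PSLCover
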