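import Cfsg.Agent.Lib.PSLCover.Small

/-!
Transport along index equivalences, and determinants of centralizers of block matrices.
-/

set_option autoImplicit false
set_option linter.unusedSectionVars false

namespace CfsgLib.PSLCover

open Matrix Polynomial

variable {F : Type*} [Field F] {ι κ : Type*} [Fintype ι] [DecidableEq ι] [Fintype κ] [DecidableEq κ]

theorem reindex_mulVec' (e : ι ≃ κ) (A : Matrix ι ι F) (v : κ → F) :
    A.reindex e e *ᵥ v = (A *ᵥ (v ∘ e)) ∘ e.symm := by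
  rw [Matrix.reindex_apply, Matrix.submatrix_mulVec_equiv, Equiv.symm_symm]

theorem reindex_vecMul' (e : ι ≃ κ) (A : Matrix ι ι F) (v : κ → F) :
    v ᵥ* A.reindex e e = ((v ∘ e) ᵥ* A) ∘ e.symm := by
  rw [Matrix.reindex_apply, Matrix.submatrix_vecMul_equiv, Equiv.symm_symm]

theorem reindex_mul' (e : ι ≃ κ) (A B : Matrix ι ι F) :
    (A * B).reindex e e = A.reindex e e * B.reindex e e := by
  simp [Matrix.reindex_apply, Matrix.submatrix_mul_equiv]

theorem eigen_reindex (e : ι ≃ κ) {A : Matrix ι ι F} {v : κ → F} {c : F} :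
    A.reindex e e *ᵥ v = c • v ↔ A *ᵥ (v ∘ e) = c • (v ∘ e) := by
  rw [reindex_mulVec']
  constructor
  · intro h; funext i; simpa using congrFun h (e i)
  · intro h; funext i; simpa using congrFun h (e.symm i)

theorem leftEigen_reindex (e : ι ≃ κ) {A : Matrix ι ι F} {v : κ → F} {c : F} :
    v ᵥ* A.reindex e e = c • v ↔ (v ∘ e) ᵥ* A = c • (v ∘ e) := by
  rw [reindex_vecMul']
  constructor
  · intro h; funext i; simpa using congrFun h (e i)
  · intro h; funext i; simpa using congrFun h (e.symm i)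

theorem comp_equiv_ne_zero (e : ι ≃ κ) {v : κ → F} (hv : v ≠ 0) : v ∘ e ≠ 0 := fun h => hv (funext fun i => by
  simpa using congrFun h (e.symm i))

theorem SplitCyclic.reindexE (e : ι ≃ κ) {T : Matrix ι ι F} (h : SplitCyclic T) :
    SplitCyclic (T.reindex e e) := by
  obtain ⟨⟨S, hS⟩, h2⟩ := h
  refine ⟨⟨S, (Matrix.charpoly_reindex e T).trans hS⟩, fun c u v hu hv hu0 => ?_⟩
  obtain ⟨a, ha⟩ := h2 c _ _ ((eigen_reindex e).1 hu) ((eigen_reindex e).1 hv) (comp_equiv_ne_zero e hu0)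
  exact ⟨a, funext fun i => by simpa using congrFun ha (e.symm i)⟩

theorem IsPair.reindex (e : ι ≃ κ) {y1 y2 : Matrix ι ι F} {S : Multiset F} {R L : Set (F × F)}
    (h : IsPair y1 y2 S R L) : IsPair (y1.reindex e e) (y2.reindex e e) S R L := by
  refine ⟨?_, ?_, fun l hl => ?_, fun l hl => ?_⟩
  · rw [← reindex_mul']; exact h.cyc.reindexE e
  · rw [← reindex_mul', Matrix.charpoly_reindex]; exact h.poly
  · obtain ⟨v, hv, e1, e2⟩ := hl
    exact h.right l ⟨_, comp_equiv_ne_zero e hv, (eigen_reindex e).1 e1, (eigen_reindex e).1 e2⟩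
  · obtain ⟨v, hv, e1, e2⟩ := hl
    exact h.left l ⟨_, comp_equiv_ne_zero e hv, (leftEigen_reindex e).1 e1, (leftEigen_reindex e).1 e2⟩

theorem HasPair.reindex (e : ι ≃ κ) {x : Matrix ι ι F} {S : Multiset F} {R L : Set (F × F)}
    (h : HasPair x S R L) : HasPair (x.reindex e e) S R L := by
  obtain ⟨y1, y2, h1, h2, hp⟩ := h
  exact ⟨_, _, h1.reindex e, h2.reindex e, hp.reindex e⟩

theorem NoCommon.reindex (e : ι ≃ κ) {l : List (Matrix ι ι F)} (h : NoCommon l) :
    NoCommon (l.map (Matrix.reindexAlgEquiv F F e)) := by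
  intro v hv c
  obtain ⟨y, hy, hne⟩ := h _ (comp_equiv_ne_zero e hv) c
  exact ⟨_, List.mem_map.2 ⟨y, hy, rfl⟩, fun h' => hne ((eigen_reindex e).1 (by simpa using h'))⟩

theorem InPowNC.reindex (e : ι ≃ κ) {x g : Matrix ι ι F} {k : ℕ} (h : InPowNC x k g) :
    InPowNC (x.reindex e e) k (g.reindex e e) := by
  obtain ⟨l, h1, h2, rfl, h4⟩ := h
  refine ⟨l.map (Matrix.reindexAlgEquiv F F e), by simpa using h1, fun y hy => ?_, ?_, h4.reindex e⟩
  · obtain ⟨z, hz, rfl⟩ := List.mem_map.1 hy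
    simpa using (h2 z hz).reindex e
  · rw [← map_list_prod]; rfl

theorem DetFull.reindex (e : ι ≃ κ) {x : Matrix ι ι F} (h : DetFull x) : DetFull (x.reindex e e) := by
  intro d hd
  obtain ⟨P, hP, eP⟩ := h d hd
  exact ⟨P.reindex e e, by rw [Matrix.det_reindex_self, hP], by rw [← reindex_mul', eP, reindex_mul']⟩

theorem detFull_blocks_scalar [Nonempty ι] (c : F) (x : Matrix κ κ F) :
    DetFull (fromBlocks (c • (1 : Matrix ι ι F)) 0 0 x) := by
  intro d hd
  obtain ⟨i⟩ := ‹Nonempty ι›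
  refine ⟨fromBlocks (Matrix.diagonal (Function.update 1 i d)) 0 0 1, ?_, ?_⟩
  · rw [Matrix.det_fromBlocks_zero₂₁, det_one, mul_one, Matrix.det_diagonal,
      Finset.prod_update_of_mem (Finset.mem_univ i)]
    simp
  · simp [Matrix.fromBlocks_multiply]

theorem Nonscalar.reindex (e : ι ≃ κ) {x : Matrix ι ι F} (h : Nonscalar x) : Nonscalar (x.reindex e e) := by
  intro c hc
  refine h c ?_
  ext i j
  simpa [Matrix.one_apply] using congrFun (congrFun hc (e i)) (e j)

end CfsgLib.PSLCover
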