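import Cfsg.Agent.Lib.PSLCover.Block

/-!
Shapes of matrices: chains of companion blocks of size at least two.
-/

set_option autoImplicit false
set_option linter.unusedSectionVars false

namespace CfsgLib.PSLCover

open Matrix Polynomial

variable {F : Type*} [Field F]

/-- Similar up to renaming the indices. -/
def GLSimE {ι κ : Type*} [Fintype ι] [DecidableEq ι] [Fintype κ] [DecidableEq κ]
    (x : Matrix ι ι F) (y : Matrix κ κ F) : Prop :=
  ∃ e : ι ≃ κ, GLSim (x.reindex e e) y

/-- The polynomial of a companion matrix. -/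
noncomputable def compPoly {d : ℕ} (a : Fin (d + 1) → F) : F[X] :=
  X ^ (d + 1) - ∑ i, C (a i) * X ^ (i : ℕ)

/-- Direct sums of companion blocks of size at least two, each polynomial annihilating the following blocks. -/
inductive Chain : ∀ {n : ℕ}, Matrix (Fin n) (Fin n) F → Prop
  | one {n d : ℕ} {x : Matrix (Fin n) (Fin n) F} (a : Fin (d + 1) → F) (hd : 2 ≤ d + 1)
      (h : GLSimE x (comp a)) : Chain x
  | cons {n d m : ℕ} {x : Matrix (Fin n) (Fin n) F} (a : Fin (d + 1) → F) (hd : 2 ≤ d + 1)
      (x2 : Matrix (Fin m) (Fin m) F) (h : GLSimE x (fromBlocks (comp a) 0 0 x2)) (hc : Chain x2)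
      (hann : aeval x2 (compPoly a) = 0) : Chain x

/-- No translate has rank at most two. -/
def Big {ι : Type*} [Fintype ι] [DecidableEq ι] (x : Matrix ι ι F) : Prop :=
  ∀ c : F, 3 ≤ (x - c • 1).rank

end CfsgLib.PSLCover
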