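import Cfsg.Agent.Lib.PSLCover.Small
import Cfsg.Agent.Lib.PSLCover.Shape
import Cfsg.Agent.Lib.PSLCover.CompAnn
import Cfsg.Agent.Lib.PSLCover.Reindex
import Cfsg.Agent.Lib.PSLCover.N3
import Cfsg.Agent.Lib.Classical.SemisimpleDet

/-!
Characteristic polynomials of companion blocks, their splitting along a factorisation, and centralizers with all
determinants.
-/

set_option autoImplicit false
set_option linter.unusedSectionVars false

namespace CfsgLib.PSLCover

open Matrix Polynomial

variable {F : Type*} [Field F] {ι κ : Type*} [Fintype ι] [DecidableEq ι] [Fintype κ] [DecidableEq κ]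

theorem comp_pow_e0 {d : ℕ} (a : Fin (d + 1) → F) :
    ∀ (j : ℕ) (hj : j < d + 1), comp a ^ j *ᵥ Pi.single (0 : Fin (d + 1)) 1 = Pi.single (⟨j, hj⟩ : Fin (d + 1)) 1
  | 0, hj => by rw [pow_zero, Matrix.one_mulVec]; rfl
  | j + 1, hj => by
    rw [pow_succ', ← Matrix.mulVec_mulVec, comp_pow_e0 a j (by omega),
      comp_mulVec_single a (j := j) (by omega)]

theorem comp_e0_cyclic {d : ℕ} (a : Fin (d + 1) → F) :
    IsCyclicVec (comp a) (Pi.single (0 : Fin (d + 1)) 1) := by
  refine isCyclicVec_of_det ?_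
  have h : kry (comp a) (Pi.single (0 : Fin (d + 1)) 1) = 1 := by
    ext i j
    rw [kry, Matrix.of_apply, comp_pow_e0 a j j.isLt, Matrix.one_apply, Pi.single_apply]
  rw [h, det_one]
  exact one_ne_zero

theorem charpoly_comp' {d : ℕ} (a : Fin (d + 1) → F) : (comp a).charpoly = compPoly a := by
  have hdeg : (∑ i : Fin (d + 1), C (a i) * X ^ (i : ℕ)).degree < ((d + 1 : ℕ) : WithBot ℕ) :=
    (degree_sum_fin_lt a)
  have hm : (compPoly a).Monic := by
    rw [compPoly]; exact monic_X_pow_sub hdeg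
  have hn : (compPoly a).natDegree = d + 1 := by
    rw [compPoly, sub_eq_add_neg]
    refine natDegree_eq_of_degree_eq_some ?_
    rw [degree_add_eq_left_of_degree_lt (by rw [degree_neg, degree_X_pow]; exact hdeg), degree_X_pow]
  refine (comp_e0_cyclic a).charpoly_eq hm hn ?_
  have hterm : ∀ j : Fin (d + 1), aeval (comp a) (C (a j) * X ^ (j : ℕ)) *ᵥ Pi.single (0 : Fin (d + 1)) (1 : F) =
      a j • Pi.single j (1 : F) := fun j => by
    rw [map_mul, aeval_C, map_pow, aeval_X, ← Algebra.smul_def, Matrix.smul_mulVec, comp_pow_e0 a j j.isLt]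
  rw [compPoly, map_sub, Matrix.sub_mulVec, map_pow, aeval_X, sub_eq_zero, map_sum, Matrix.sum_mulVec,
    pow_succ', ← Matrix.mulVec_mulVec, comp_pow_e0 a d (by omega), Matrix.mulVec_single_one]
  funext i
  rw [Matrix.col_apply, show (⟨d, by omega⟩ : Fin (d + 1)) = Fin.last d from rfl, comp_last,
    Finset.sum_apply, Finset.sum_eq_single i]
  · rw [hterm]; simp
  · intro j _ hj
    rw [hterm]; simp [Ne.symm hj]
  · simp

theorem exists_comp {d : ℕ} {p : F[X]} (hp : p.Monic) (hd : p.natDegree = d + 1) :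
    ∃ a : Fin (d + 1) → F, (comp a).charpoly = p := by
  refine ⟨fun i => -p.coeff i, ?_⟩
  rw [charpoly_comp', compPoly]
  conv_rhs => rw [hp.as_sum, hd]
  rw [← Fin.sum_univ_eq_sum_range (fun i => C (p.coeff i) * X ^ i) (d + 1)]
  simp [Finset.sum_neg_distrib]

/-- A companion block splits along every factorisation of its polynomial. -/
theorem exists_split {d : ℕ} (a : Fin (d + 1) → F) {p h : F[X]} (hp : p.Monic) (hh : h.Monic)
    (hf : (comp a).charpoly = p * h) {e m : ℕ} (he : p.natDegree = e + 1) (hm : h.natDegree = m + 1) :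
    ∃ (ap : Fin (e + 1) → F) (ah : Fin (m + 1) → F) (X0 : Matrix (Fin (e + 1)) (Fin (m + 1)) F),
      (comp ap).charpoly = p ∧ (comp ah).charpoly = h ∧
        GLSimE (comp a) (fromBlocks (comp ap) X0 0 (comp ah)) := by
  obtain ⟨ap, hap⟩ := exists_comp hp he
  obtain ⟨ah, hah⟩ := exists_comp hh hm
  have hN : d + 1 = (e + 1) + (m + 1) := by
    have := congrArg Polynomial.natDegree hf
    rwa [Matrix.charpoly_natDegree_eq_dim, Fintype.card_fin, hp.natDegree_mul hh, he, hm] at this
  let σ : Fin (d + 1) ≃ Fin (e + 1) ⊕ Fin (m + 1) := (finCongr hN).trans finSumFinEquiv.symm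
  set C' := comp a with hC'
  set v : Fin (d + 1) → F := Pi.single 0 1 with hv
  refine ⟨ap, ah, Matrix.of fun i j => if i.val = 0 ∧ j.val = m then 1 else 0, hap, hah, σ, ?_⟩
  -- the new basis
  set col : Fin (e + 1) ⊕ Fin (m + 1) → F[X] := Sum.elim (fun i => X ^ (i : ℕ) * h) fun j => X ^ (j : ℕ)
    with hcol
  set P : Matrix (Fin (e + 1) ⊕ Fin (m + 1)) (Fin (e + 1) ⊕ Fin (m + 1)) F :=
    Matrix.of fun r c => (aeval C' (col c) *ᵥ v) (σ.symm r) with hP
  have hcyc := comp_e0_cyclic a
  have hPmul : ∀ z, (P *ᵥ z) = fun r => (aeval C' (∑ c, C (z c) * col c) *ᵥ v) (σ.symm r) := by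
    intro z
    funext r
    rw [map_sum, Matrix.sum_mulVec, Finset.sum_apply, Matrix.mulVec, dotProduct]
    refine Finset.sum_congr rfl fun c _ => ?_
    simp [hP, ← Algebra.smul_def, Matrix.smul_mulVec, mul_comm]
  have hPd : P.det ≠ 0 := by
    intro h0
    obtain ⟨z, hz, e0⟩ := Matrix.exists_mulVec_eq_zero_iff.2 h0
    rw [hPmul] at e0
    set u : F[X] := ∑ i : Fin (e + 1), C (z (Sum.inl i)) * X ^ (i : ℕ) with hu
    set w : F[X] := ∑ j : Fin (m + 1), C (z (Sum.inr j)) * X ^ (j : ℕ) with hw
    have hsum : ∑ c, C (z c) * col c = u * h + w := by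
      rw [Fintype.sum_sum_type, hu, hw, Finset.sum_mul]
      simp [hcol, mul_assoc]
    have hw' : w.degree < ((m + 1 : ℕ) : WithBot ℕ) := degree_sum_fin_lt _
    have hu' : u.degree < ((e + 1 : ℕ) : WithBot ℕ) := degree_sum_fin_lt _
    have hzero : u * h + w = 0 := by
      refine hcyc _ (fun l hl => ?_) ?_
      · rw [coeff_add, coeff_eq_zero_of_degree_lt (lt_of_lt_of_le hw' (by exact_mod_cast (by omega : m + 1 ≤ l))),
          add_zero]
        refine coeff_eq_zero_of_degree_lt ?_
        rcases eq_or_ne u 0 with h' | h'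
        · rw [h', zero_mul, degree_zero]; exact WithBot.bot_lt_coe _
        · rw [degree_eq_natDegree (mul_ne_zero h' hh.ne_zero), natDegree_mul h' hh.ne_zero, hm]
          have := (natDegree_lt_iff_degree_lt h').2 hu'
          exact_mod_cast (by omega : u.natDegree + (m + 1) < l)
      · rw [← hsum]
        funext r
        have := congrFun e0 (σ r)
        simp only [Equiv.symm_apply_apply, Pi.zero_apply] at this
        exact this
    have hu0 : u = 0 := by
      by_contra h'
      have h1 : (u * h).degree = w.degree := by rw [eq_neg_of_add_eq_zero_left hzero, degree_neg]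
      rw [degree_mul, degree_eq_natDegree hh.ne_zero, hm, degree_eq_natDegree h'] at h1
      rw [← h1] at hw'
      have h2 : u.natDegree + (m + 1) < m + 1 := by exact_mod_cast hw'
      omega
    rw [hu0, zero_mul, zero_add] at hzero
    refine hz (funext fun c => ?_)
    rcases c with i | j
    · have := congrArg (fun q => Polynomial.coeff q (i : ℕ)) hu0
      simpa [hu, coeff_X_pow, Fin.val_inj] using this
    · have := congrArg (fun q => Polynomial.coeff q (j : ℕ)) hzero
      simpa [hw, coeff_X_pow, Fin.val_inj] using this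
  refine GLSim.symm ⟨P, hPd, ?_⟩
  ext r c
  have hR : (C'.reindex σ σ * P) r c = (aeval C' (X * col c) *ᵥ v) (σ.symm r) := by
    rw [map_mul, aeval_X, ← Matrix.mulVec_mulVec, Matrix.mul_apply, Matrix.mulVec, dotProduct]
    exact Fintype.sum_equiv σ.symm _ _ fun k => by simp [hP]
  rw [hR]
  have hL : ∀ z : Fin (e + 1) ⊕ Fin (m + 1) → F, (∑ k, C (z k) * col k) - X * col c = 0 ∨
      (∑ k, C (z k) * col k) - X * col c = -(p * h) →
      (fun k => (fromBlocks (comp ap) (Matrix.of fun (i : Fin (e + 1)) (j : Fin (m + 1)) =>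
        if i.val = 0 ∧ j.val = m then (1 : F) else 0) 0 (comp ah)) k c) = z →
      (P * fromBlocks (comp ap) (Matrix.of fun (i : Fin (e + 1)) (j : Fin (m + 1)) =>
        if i.val = 0 ∧ j.val = m then (1 : F) else 0) 0 (comp ah)) r c = (aeval C' (X * col c) *ᵥ v) (σ.symm r) := by
    intro z hz hzc
    rw [Matrix.mul_apply]
    have h1 := congrFun (hPmul z) r
    rw [Matrix.mulVec, dotProduct] at h1
    rw [← hzc] at h1
    rw [h1]
    have h2 : aeval C' ((∑ k, C (z k) * col k) - X * col c) = 0 := by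
      rcases hz with hz | hz
      · rw [hz, map_zero]
      · rw [hz, ← hf, map_neg, Matrix.aeval_self_charpoly, neg_zero]
    rw [map_sub, sub_eq_zero] at h2
    rw [← hzc] at h2
    rw [h2]
  rcases c with i | j
  · by_cases hi : i = Fin.last e
    · subst hi
      refine hL (Sum.elim ap 0) (Or.inr ?_) (funext fun k => ?_)
      · rw [Fintype.sum_sum_type, ← hap, charpoly_comp', compPoly]
        simp [hcol, sub_mul, Finset.sum_mul, mul_assoc]
        ring
      · rcases k with k | k <;> simp [comp_last]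
    · have hlt : i.val < e := lt_of_le_of_ne (Nat.lt_succ_iff.1 i.isLt) fun h' => hi (Fin.ext h')
      refine hL (Pi.single (Sum.inl ⟨i.val + 1, by omega⟩) 1) (Or.inl ?_) (funext fun k => ?_)
      · simp [Pi.single_apply, hcol, pow_succ']
        ring
      · rcases k with k | k
        · simp only [Matrix.fromBlocks_apply₁₁, comp_lt _ hi, Pi.single_apply, Sum.inl.injEq, Fin.ext_iff]
        · simp only [Matrix.fromBlocks_apply₂₁, Matrix.zero_apply, Pi.single_apply, reduceCtorEq, if_false]
  · by_cases hj : j = Fin.last m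
    · subst hj
      refine hL (Sum.elim (Pi.single 0 1) ah) (Or.inl ?_) (funext fun k => ?_)
      · rw [Fintype.sum_sum_type]
        simp only [Sum.elim_inl, Sum.elim_inr, hcol, Fin.val_last]
        rw [Finset.sum_eq_single (0 : Fin (e + 1)) (fun b _ hb => by simp [hb]) (by simp)]
        conv_lhs => rw [← hah, charpoly_comp', compPoly]
        simp [pow_succ']
      · rcases k with k | k
        · simp only [Matrix.fromBlocks_apply₁₂, Matrix.of_apply, Fin.val_last, and_true, Pi.single_apply, Sum.elim_inl, Fin.ext_iff, Fin.val_zero]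
        · simp only [Matrix.fromBlocks_apply₂₂, comp_last, Sum.elim_inr]
    · have hlt : j.val < m := lt_of_le_of_ne (Nat.lt_succ_iff.1 j.isLt) fun h' => hj (Fin.ext h')
      refine hL (Pi.single (Sum.inr ⟨j.val + 1, by omega⟩) 1) (Or.inl ?_) (funext fun k => ?_)
      · simp [Pi.single_apply, hcol, pow_succ']
      · rcases k with k | k
        · simp only [Matrix.fromBlocks_apply₁₂, Matrix.of_apply, hlt.ne, and_false, Pi.single_apply, reduceCtorEq, if_false]
        · simp only [Matrix.fromBlocks_apply₂₂, comp_lt _ hj, Pi.single_apply, Sum.inr.injEq, Fin.ext_iff]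

theorem DetFull.blocks_left {A : Matrix ι ι F} (h : DetFull A) (B : Matrix κ κ F) :
    DetFull (fromBlocks A 0 0 B) := by
  intro d hd
  obtain ⟨P, hP, e⟩ := h d hd
  exact ⟨fromBlocks P 0 0 1, by rw [Matrix.det_fromBlocks_zero₂₁, hP, det_one, mul_one],
    by simp [Matrix.fromBlocks_multiply, e]⟩

theorem DetFull.blocks_right (A : Matrix ι ι F) {B : Matrix κ κ F} (h : DetFull B) :
    DetFull (fromBlocks A 0 0 B) := by
  intro d hd
  obtain ⟨P, hP, e⟩ := h d hd
  exact ⟨fromBlocks 1 0 0 P, by rw [Matrix.det_fromBlocks_zero₂₁, hP, det_one, one_mul],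
    by simp [Matrix.fromBlocks_multiply, e]⟩

theorem DetFull.of_glSimE {x : Matrix ι ι F} {y : Matrix κ κ F} (h : DetFull y) (hs : GLSimE x y) :
    DetFull x := by
  obtain ⟨e, he⟩ := hs
  simpa using (h.of_glSim he.symm).reindex e.symm

/-- Scalars already give all determinants when the power map of the dimension is onto. -/
theorem detFull_of_pow (x : Matrix ι ι F) (h : ∀ δ : F, δ ≠ 0 → ∃ c : F, c ^ Fintype.card ι = δ) :
    DetFull x := by
  intro d hd
  obtain ⟨c, hc⟩ := h d hd
  exact ⟨c • 1, by rw [det_smul, det_one, mul_one, hc], by simp⟩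

theorem detFull_split_scalar (μ : F) {B : Matrix κ κ F} (hB : (B - μ • 1).det ≠ 0) (X0 : Matrix Unit κ F) :
    DetFull (fromBlocks (μ • (1 : Matrix Unit Unit F)) X0 0 B) := by
  intro δ _
  set W := (1 - δ) • (X0 * (B - μ • 1)⁻¹) with hW
  have h1 : W * (B - μ • 1) = (1 - δ) • X0 := by
    rw [hW, Matrix.smul_mul, Matrix.mul_assoc, Matrix.nonsing_inv_mul _ (isUnit_iff_ne_zero.2 hB), Matrix.mul_one]
  rw [Matrix.mul_sub, sub_eq_iff_eq_add] at h1
  refine ⟨fromBlocks (δ • 1) W 0 1, by
    rw [Matrix.det_fromBlocks_zero₂₁, det_one, det_smul, det_one, Fintype.card_unit, pow_one, mul_one, mul_one], ?_⟩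
  simp only [Matrix.fromBlocks_multiply, Matrix.mul_zero, Matrix.zero_mul, add_zero, zero_add, Matrix.one_mul,
    Matrix.mul_one, h1, Matrix.smul_mul, Matrix.mul_smul]
  congr 1
  · rw [smul_smul, smul_smul, mul_comm]
  · module
  · simp

theorem detFull_comp_irreducible [Fintype F] {d : ℕ} (a : Fin (d + 1) → F)
    (h : Irreducible (comp a).charpoly) : DetFull (comp a) := by
  intro δ _
  have hs : Module.End.IsSemisimple (Matrix.toLinAlgEquiv' (comp a)) :=
    Module.End.isSemisimple_of_squarefree_aeval_eq_zero h.squarefree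
      ((Polynomial.aeval_algHom_apply (Matrix.toLinAlgEquiv' : Matrix (Fin (d + 1)) (Fin (d + 1)) F ≃ₐ[F] _).toAlgHom
        (comp a) _).trans (by rw [Matrix.aeval_self_charpoly, map_zero]))
  obtain ⟨Z, hZ, hd⟩ := Classical.SemisimpleDet.exists_commute_det _ hs δ
  refine ⟨Matrix.toLinAlgEquiv'.symm Z, ?_, ?_⟩
  · rw [← hd]
    exact LinearMap.det_toMatrix' _
  · have := congrArg Matrix.toLinAlgEquiv'.symm hZ.eq
    simpa using this

theorem isRoot_iff_eigen {d : ℕ} (a : Fin (d + 1) → F) (μ : F) :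
    (comp a - μ • 1).det = 0 ↔ (comp a).charpoly.IsRoot μ := by
  rw [Polynomial.IsRoot, Matrix.eval_charpoly,
    show Matrix.scalar (Fin (d + 1)) μ - comp a = -(comp a - μ • 1) by
      rw [neg_sub, scalar_apply, smul_one_eq_diagonal], Matrix.det_neg]
  simp

theorem comp_fin_one (a : Fin 1 → F) {μ : F} (h : (comp a).charpoly = X - C μ) : comp a = μ • 1 := by
  have h1 := congrArg (fun q => Polynomial.eval 0 q) h
  simp [Matrix.eval_charpoly] at h1
  ext i j
  fin_cases i; fin_cases j
  simp [← h1]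

/-- A companion block with a linear factor, the first coordinate carrying the root. -/
theorem exists_split_root {d : ℕ} (a : Fin (d + 2) → F) {μ : F} {h : F[X]}
    (hf : (comp a).charpoly = (X - C μ) * h) :
    ∃ (ah : Fin (d + 1) → F) (X0 : Matrix Unit (Fin (d + 1)) F),
      (comp ah).charpoly = h ∧ GLSimE (comp a) (fromBlocks (μ • (1 : Matrix Unit Unit F)) X0 0 (comp ah)) := by
  have hh : h.Monic := (monic_X_sub_C μ).of_mul_monic_left (hf ▸ Matrix.charpoly_monic _)
  have hm : h.natDegree = d + 1 := by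
    have := congrArg Polynomial.natDegree hf
    rw [Matrix.charpoly_natDegree_eq_dim, Fintype.card_fin, (monic_X_sub_C μ).natDegree_mul hh,
      natDegree_X_sub_C] at this
    omega
  obtain ⟨ap, ah, X0, hp, hq, e, he⟩ := exists_split a (monic_X_sub_C μ) hh hf (e := 0) (natDegree_X_sub_C μ) hm
  let ε : Fin (0 + 1) ≃ Unit := finOneEquiv.trans (Equiv.equivPUnit Unit)
  let σ : Fin (0 + 1) ⊕ Fin (d + 1) ≃ Unit ⊕ Fin (d + 1) := Equiv.sumCongr ε (Equiv.refl _)
  refine ⟨ah, X0.reindex ε (Equiv.refl _), hq, e.trans σ, ?_⟩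
  have := he.reindex σ
  rw [comp_fin_one ap hp] at this
  convert this using 1
  all_goals ext (i | i) (j | j) <;> simp [σ]

/-- A simple root gives all determinants. -/
theorem detFull_comp_simple_root {d : ℕ} (a : Fin (d + 2) → F) {μ : F} {h : F[X]}
    (hf : (comp a).charpoly = (X - C μ) * h) (hμ : ¬ h.IsRoot μ) : DetFull (comp a) := by
  obtain ⟨ah, X0, hah, hs⟩ := exists_split_root a hf
  exact (detFull_split_scalar μ (fun e => hμ (hah ▸ (isRoot_iff_eigen ah μ).1 e)) X0).of_glSimE hs

end CfsgLib.PSLCover
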