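import Mathlib

/-!
Counting in an affine chart: a vector with prescribed functional value that is no eigenvector of an
endomorphism and avoids a few small subspaces.
-/

set_option autoImplicit false
set_option linter.unusedSectionVars false
set_option maxRecDepth 2000

namespace CfsgLib.PSLCover

open Module

variable {K V W : Type*} [Field K] [Fintype K] [AddCommGroup V] [Module K V] [Fintype V]
  [AddCommGroup W] [Module K W]

local notation "q" => Fintype.card K

/-- A proper affine condition holds on at most the fraction `1/q` of the space. -/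
theorem card_affine_mul_le (f : V →ₗ[K] W) (U : Submodule K W) (c : W) (h : ∃ v, f v + c ∉ U)
    (s : Finset V) (hs : ∀ v ∈ s, f v + c ∈ U) : s.card * q ≤ Fintype.card V := by
  classical
  obtain ⟨v0, hv0⟩ := h
  rcases s.eq_empty_or_nonempty with rfl | ⟨t1, ht1⟩
  · simp
  have hd : f (v0 - t1) ∉ U := fun hd => hv0 (by
    have := U.add_mem hd (hs t1 ht1)
    rwa [map_sub, show f v0 - f t1 + (f t1 + c) = f v0 + c by abel] at this)
  rw [← Finset.card_univ (α := K), ← Finset.card_univ (α := V), ← Finset.card_product]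
  refine Finset.card_le_card_of_injOn (fun x => x.1 + x.2 • (v0 - t1)) (fun _ _ => Finset.mem_univ _) ?_
  rintro ⟨x, l⟩ hx ⟨y, m⟩ hy e
  simp only [Finset.coe_product, Set.mem_prod, Finset.mem_coe] at hx hy
  simp only at e
  have h1 : f x - f y = (m - l) • f (v0 - t1) := by
    have := congrArg f e
    simp only [map_add, map_smul] at this
    rw [sub_smul, sub_eq_sub_iff_add_eq_add, this]; abel
  have h2 : (m - l) • f (v0 - t1) ∈ U := by
    rw [← h1]
    have := U.sub_mem (hs x hx.1) (hs y hy.1)
    rwa [show f x + c - (f y + c) = f x - f y by abel] at this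
  by_cases hml : m = l
  · subst hml
    exact Prod.ext (add_right_cancel e) rfl
  · exact absurd ((U.smul_mem_iff (sub_ne_zero.mpr hml)).mp h2) hd

open Classical in
/-- The part of a subspace in an affine chart. -/
theorem card_chart_mul_le (f : V →ₗ[K] K) (S : Submodule K V) {d : ℕ} (hd : finrank K S ≤ d)
    (s : Finset V) (hs : ∀ v ∈ s, v ∈ S ∧ f v = 1) : s.card * q ≤ q ^ d := by
  refine le_trans ?_ (Nat.pow_le_pow_right Fintype.card_pos hd)
  rw [← Module.card_eq_pow_finrank (K := K) (V := S)]
  let s' : Finset S := Finset.univ.filter fun x => (x : V) ∈ s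
  have hcard : s'.card = s.card :=
    Finset.card_bij (fun x _ => (x : V)) (fun x hx => (Finset.mem_filter.mp hx).2)
      (fun x _ y _ e => Subtype.ext e) fun v hv => ⟨⟨v, (hs v hv).1⟩, by simp [s', hv], rfl⟩
  rw [← hcard]
  have hex : ∃ x : S, LinearMap.comp f S.subtype x + (-1 : K) ∉ Submodule.span K ({0} : Set K) :=
    ⟨0, fun h => one_ne_zero (α := K) (by
      obtain ⟨c, hc⟩ := Submodule.mem_span_singleton.mp h
      rw [smul_zero, map_zero, zero_add] at hc
      exact neg_eq_zero.mp hc.symm)⟩
  refine card_affine_mul_le _ _ _ hex s' fun x hx => ?_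
  have h1 := (hs x (Finset.mem_filter.mp hx).2).2
  rw [LinearMap.comp_apply, Submodule.subtype_apply, h1, add_neg_cancel]
  exact zero_mem _

open Classical in
theorem le_card_chart (f : V →ₗ[K] K) (hf : f ≠ 0) :
    q ^ finrank K V ≤ (Finset.univ.filter fun v => f v = 1).card * q := by
  obtain ⟨w, hw⟩ : ∃ w, f w ≠ 0 := by
    by_contra hc
    push Not at hc
    exact hf (LinearMap.ext hc)
  set u := (f w)⁻¹ • w
  have hu : f u = 1 := by simp [u, hw]
  rw [← Module.card_eq_pow_finrank (K := K) (V := V), ← Finset.card_univ (α := K), ← Finset.card_product,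
    ← Finset.card_univ (α := V)]
  refine Finset.card_le_card_of_injOn (fun v => (v + (1 - f v) • u, f v))
    (fun v _ => by simp [hu]) ?_
  intro x _ y _ e
  simp only [Prod.mk.injEq] at e
  rw [e.2] at e
  exact add_right_cancel e.1

variable (T : V →ₗ[K] V)

/-- The eigenspace of `m`. -/
abbrev eig (m : K) : Submodule K V := LinearMap.ker (T - m • LinearMap.id)

theorem mem_eig {m : K} {v : V} : v ∈ eig T m ↔ T v = m • v := by simp [sub_eq_zero]

theorem eig_inf {l m : K} (h : l ≠ m) : eig T l ⊓ eig T m = ⊥ := by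
  rw [Submodule.eq_bot_iff]
  rintro v ⟨h1, h2⟩
  rw [SetLike.mem_coe, mem_eig] at h1 h2
  have : (l - m) • v = 0 := by rw [sub_smul, ← h1, ← h2, sub_self]
  exact (smul_eq_zero.mp this).resolve_left (sub_ne_zero.mpr h)

theorem eig_two {l m : K} (h : l ≠ m) : finrank K (eig T l) + finrank K (eig T m) ≤ finrank K V := by
  have := Submodule.finrank_sup_add_finrank_inf_eq (eig T l) (eig T m)
  rw [eig_inf T h, finrank_bot, add_zero] at this
  rw [← this]
  exact Submodule.finrank_le _

theorem eig_three {l m n : K} (hlm : l ≠ m) (hln : l ≠ n) (hmn : m ≠ n) :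
    finrank K (eig T l) + finrank K (eig T m) + finrank K (eig T n) ≤ finrank K V := by
  have h1 := Submodule.finrank_sup_add_finrank_inf_eq (eig T l) (eig T m)
  rw [eig_inf T hlm, finrank_bot, add_zero] at h1
  have h2 := Submodule.finrank_sup_add_finrank_inf_eq (eig T l ⊔ eig T m) (eig T n)
  have hz : (eig T l ⊔ eig T m) ⊓ eig T n = ⊥ := by
    rw [Submodule.eq_bot_iff]
    rintro v ⟨hv, hn⟩
    obtain ⟨x, hx, y, hy, rfl⟩ := Submodule.mem_sup.mp hv
    rw [mem_eig] at hx hy
    rw [SetLike.mem_coe, mem_eig, map_add, hx, hy] at hn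
    have e : (l - n) • x + (m - n) • y = 0 := by
      rw [sub_smul, sub_smul, show l • x - n • x + (m • y - n • y) = l • x + m • y - (n • x + n • y) by abel,
        hn, smul_add, sub_self]
    have e2 := congrArg T e
    simp only [map_add, map_smul, hx, hy, map_zero, smul_smul] at e2
    have e3 : ((m - n) * (m - l)) • y = 0 := by
      rw [show ((m - n) * (m - l)) • y = ((l - n) * l) • x + ((m - n) * m) • y
        - l • ((l - n) • x + (m - n) • y) by module, e2, e, smul_zero, sub_zero]
    have hy0 : y = 0 := (smul_eq_zero.mp e3).resolve_left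
      (mul_ne_zero (sub_ne_zero.mpr hmn) (sub_ne_zero.mpr hlm.symm))
    rw [hy0, smul_zero, add_zero] at e
    rw [hy0, (smul_eq_zero.mp e).resolve_left (sub_ne_zero.mpr hln), add_zero]
  rw [hz, finrank_bot, add_zero, h1] at h2
  rw [← h2]
  exact Submodule.finrank_le _

theorem card_union3_le {α : Type*} [DecidableEq α] (A B C : Finset α) :
    (A ∪ B ∪ C).card ≤ A.card + B.card + C.card :=
  (Finset.card_union_le _ _).trans (Nat.add_le_add_right (Finset.card_union_le _ _) _)

/-- The vector to start a factorisation step with. -/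
theorem exists_start (hq : 4 ≤ q) {n : ℕ} (hn : finrank K V = n) (h2 : 2 ≤ n)
    (hT : LinearMap.ker T = ⊥) (f : V →ₗ[K] K) (hf : f ≠ 0) (c0 : V) (a : K)
    (As : Finset K) (hA0 : (0 : K) ∉ As) (hA3 : n = 3 → As.card ≤ 2)
    (hns : ∀ m : K, finrank K (eig T m) ≠ n)
    (ha : 2 ≤ finrank K (LinearMap.range (T - a • LinearMap.id)))
    (hA : ∀ s ∈ As, 2 ≤ finrank K (LinearMap.range (T - s • LinearMap.id))) :
    ∃ u, f u = 1 ∧ (∀ m : K, T u ≠ m • u) ∧ T u - a • u ∉ Submodule.span K {c0} ∧
      (3 ≤ n → ∀ s ∈ As, finrank K (LinearMap.range (T - s • LinearMap.id)) ≤ 2 →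
        u ∉ LinearMap.range (T - s • LinearMap.id)) := by
  classical
  by_contra hall
  push Not at hall
  set g : K → V →ₗ[K] V := fun s => T - s • LinearMap.id with hg
  have hrk : ∀ s, finrank K (LinearMap.range (g s)) + finrank K (eig T s) = n := fun s => by
    rw [← hn]; exact LinearMap.finrank_range_add_finrank_ker (g s)
  set U := (Submodule.span K {c0}).comap (g a) with hUdef
  have hU : finrank K U ≤ n - 1 := by
    have h := LinearMap.finrank_range_add_finrank_ker ((g a).domRestrict U)
    have h1 : finrank K (LinearMap.range ((g a).domRestrict U)) ≤ 1 := by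
      refine (Submodule.finrank_mono (t := Submodule.span K {c0}) ?_).trans
        ((finrank_span_le_card _).trans (by simp))
      rintro _ ⟨⟨v, hv⟩, rfl⟩
      exact hv
    have h2' : finrank K (LinearMap.ker ((g a).domRestrict U)) ≤ finrank K (eig T a) := by
      refine LinearMap.finrank_le_finrank_of_injective
        (f := (U.subtype ∘ₗ (LinearMap.ker ((g a).domRestrict U)).subtype).codRestrict (eig T a)
          fun x => x.2) ?_
      intro x y e
      apply Subtype.ext
      apply Subtype.ext
      exact congrArg (fun z : eig T a => (z : V)) e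
    have := hrk a
    have : 2 ≤ finrank K (LinearMap.range (g a)) := ha
    omega
  set Ef : Finset K := Finset.univ.filter fun m => eig T m ≠ ⊥ with hEf
  set As' : Finset K := if 3 ≤ n then As.filter fun s => finrank K (LinearMap.range (g s)) ≤ 2 else ∅
    with hAs'
  set ch : Finset V := Finset.univ.filter fun v => f v = 1 with hch
  set SU : Finset V := ch.filter (· ∈ U)
  set SE : K → Finset V := fun m => ch.filter (· ∈ eig T m)
  set SI : K → Finset V := fun s => ch.filter (· ∈ LinearMap.range (g s))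
  have hcov : ch ⊆ SU ∪ Ef.biUnion SE ∪ As'.biUnion SI := by
    intro v hv
    have hv1 : f v = 1 := (Finset.mem_filter.mp hv).2
    simp only [Finset.mem_union, Finset.mem_biUnion]
    by_cases hU' : v ∈ U
    · exact Or.inl (Or.inl (Finset.mem_filter.mpr ⟨hv, hU'⟩))
    by_cases hE : ∃ m : K, T v = m • v
    · obtain ⟨m, hm⟩ := hE
      refine Or.inl (Or.inr ⟨m, Finset.mem_filter.mpr ⟨Finset.mem_univ _, fun hb => ?_⟩,
        Finset.mem_filter.mpr ⟨hv, (mem_eig T).mpr hm⟩⟩)
      have : v ∈ eig T m := (mem_eig T).mpr hm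
      rw [hb, Submodule.mem_bot] at this
      rw [this, map_zero] at hv1
      exact zero_ne_one hv1
    push Not at hE
    obtain ⟨h3, s, hs, hs2, hsu⟩ := hall v hv1 hE hU'
    exact Or.inr ⟨s, by rw [hAs', if_pos h3]; exact Finset.mem_filter.mpr ⟨hs, hs2⟩,
      Finset.mem_filter.mpr ⟨hv, hsu⟩⟩
  have hmain : q ^ n ≤ SU.card * q + (∑ m ∈ Ef, (SE m).card * q) + ∑ s ∈ As', (SI s).card * q := by
    rw [← hn]
    refine (le_card_chart f hf).trans ?_
    rw [← Finset.sum_mul, ← Finset.sum_mul, ← add_mul, ← add_mul]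
    refine Nat.mul_le_mul_right _ ((Finset.card_le_card hcov).trans ((card_union3_le _ _ _).trans ?_))
    gcongr <;> exact Finset.card_biUnion_le
  have bU : SU.card * q ≤ q ^ (n - 1) :=
    card_chart_mul_le f U hU SU fun v hv =>
      ⟨(Finset.mem_filter.mp hv).2, (Finset.mem_filter.mp (Finset.mem_filter.mp hv).1).2⟩
  have bE : ∀ m d, finrank K (eig T m) ≤ d → (SE m).card * q ≤ q ^ d := fun m d hd =>
    card_chart_mul_le f _ hd (SE m) fun v hv =>
      ⟨(Finset.mem_filter.mp hv).2, (Finset.mem_filter.mp (Finset.mem_filter.mp hv).1).2⟩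
  have bI : ∀ s ∈ As', (SI s).card * q ≤ q ^ 2 := fun s hs => by
    refine card_chart_mul_le f (LinearMap.range (g s)) ?_ (SI s) fun v hv =>
      ⟨(Finset.mem_filter.mp hv).2, (Finset.mem_filter.mp (Finset.mem_filter.mp hv).1).2⟩
    rw [hAs'] at hs
    split_ifs at hs with h
    · exact (Finset.mem_filter.mp hs).2
    · simp at hs
  have hd1 : ∀ m, finrank K (eig T m) ≤ n - 1 := fun m => by
    have := hns m; have := hrk m; omega
  have hE0 : (0 : K) ∉ Ef := fun h => (Finset.mem_filter.mp h).2 (by show LinearMap.ker (T - (0 : K) • (LinearMap.id : V →ₗ[K] V)) = ⊥; simp [hT])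
  have hEc : Ef.card + 1 ≤ q := by
    have := Finset.card_le_univ (insert (0 : K) Ef)
    rwa [Finset.card_insert_of_notMem hE0] at this
  have hAc : As'.card + 1 ≤ q := by
    have h0 : (0 : K) ∉ As' := fun h => by
      rw [hAs'] at h; split_ifs at h
      · exact hA0 (Finset.mem_filter.mp h).1
      · simp at h
    have := Finset.card_le_univ (insert (0 : K) As')
    rwa [Finset.card_insert_of_notMem h0] at this
  have hpos : ∀ m ∈ Ef, 1 ≤ finrank K (eig T m) := fun m hm =>
    Submodule.one_le_finrank_iff.mpr (Finset.mem_filter.mp hm).2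
  have sumI : ∑ s ∈ As', (SI s).card * q ≤ As'.card * q ^ 2 := by
    rw [← smul_eq_mul (a := As'.card), ← Finset.sum_const]; exact Finset.sum_le_sum bI
  rcases Nat.lt_or_ge n 3 with h3 | h3
  · -- the plane
    obtain rfl : n = 2 := by omega
    have hAs0 : As' = ∅ := by rw [hAs', if_neg (by omega)]
    have hE2 : Ef.card ≤ 2 := by
      by_contra hc
      obtain ⟨l, hl, m, hm, p, hp, hlm, hlp, hmp⟩ := Finset.two_lt_card.mp (not_le.mp hc)
      have := eig_three T hlm hlp hmp
      have := hpos l hl; have := hpos m hm; have := hpos p hp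
      omega
    have sumE : ∑ m ∈ Ef, (SE m).card * q ≤ Ef.card * q ^ 1 := by
      rw [← smul_eq_mul (a := Ef.card), ← Finset.sum_const]
      exact Finset.sum_le_sum fun m _ => bE m 1 (hd1 m)
    rw [hAs0, Finset.sum_empty, add_zero] at hmain
    simp only [pow_one, Nat.add_one_sub_one] at sumE bU
    nlinarith [Nat.mul_le_mul_right q hE2]
  obtain ⟨N, rfl⟩ : ∃ N, n = N + 3 := ⟨n - 3, by omega⟩
  have sumSmall : (∀ m ∈ Ef, finrank K (eig T m) ≤ N + 1) →
      ∑ m ∈ Ef, (SE m).card * q ≤ Ef.card * q ^ (N + 1) := fun h => by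
    rw [← smul_eq_mul (a := Ef.card), ← Finset.sum_const]
    exact Finset.sum_le_sum fun m hm => bE m _ (h m hm)
  have sumE : ∑ m ∈ Ef, (SE m).card * q ≤ q ^ (N + 2) + Ef.card * q ^ (N + 1) := by
    by_cases h : ∃ m ∈ Ef, N + 2 ≤ finrank K (eig T m)
    · obtain ⟨m, hm, hmd⟩ := h
      rw [← Finset.add_sum_erase _ _ hm]
      refine add_le_add (bE m _ (by have := hd1 m; omega)) ?_
      refine le_trans ?_ (Nat.mul_le_mul_right _ (Finset.card_le_card (Finset.erase_subset m Ef)))
      rw [← smul_eq_mul (a := (Ef.erase m).card), ← Finset.sum_const]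
      refine Finset.sum_le_sum fun p hp => bE p _ ?_
      obtain ⟨hpm, -⟩ := Finset.mem_erase.mp hp
      have := eig_two T hpm
      omega
    · push Not at h
      exact (sumSmall fun m hm => by have := h m hm; omega).trans (Nat.le_add_left _ _)
  rw [show N + 3 - 1 = N + 2 by omega] at bU
  rcases N with _ | N
  · have hA2 : As'.card ≤ 2 := by
      refine le_trans ?_ (hA3 rfl)
      rw [hAs', if_pos (by omega)]
      exact Finset.card_filter_le _ _
    by_cases hA1 : As'.card ≤ 1
    · simp only [zero_add, pow_one] at sumE bU hmain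
      nlinarith [Nat.mul_le_mul_right (q ^ 2) hA1, Nat.mul_le_mul_right q hEc,
        Nat.mul_le_mul_right (q ^ 2) hq]
    · obtain ⟨s, hs, t, ht, hst⟩ := Finset.one_lt_card.mp (not_le.mp hA1)
      have hdeg : ∀ x ∈ As', finrank K (eig T x) = 1 := fun x hx => by
        rw [hAs', if_pos (by omega)] at hx
        obtain ⟨hxA, hx2⟩ := Finset.mem_filter.mp hx
        have : 2 ≤ finrank K (LinearMap.range (g x)) := hA x hxA
        have := hrk x
        omega
      have hsum := sumSmall fun m _ => by
        by_cases hms : m = s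
        · rw [hms, hdeg s hs]
        by_cases hmt : m = t
        · rw [hmt, hdeg t ht]
        have := eig_three T hms hmt hst
        rw [hdeg s hs, hdeg t ht] at this
        omega
      simp only [zero_add, pow_one] at hsum bU hmain
      nlinarith [Nat.mul_le_mul_right (q ^ 2) hA2, Nat.mul_le_mul_right q hEc,
        Nat.mul_le_mul_right (q ^ 2) hq]
  · have e1 : q ^ (N + 1 + 3) = q ^ N * q ^ 4 := by rw [← pow_add]
    have e2 : q ^ (N + 1 + 2) = q ^ N * q ^ 3 := by rw [← pow_add]
    have e3 : q ^ (N + 1 + 1) = q ^ N * q ^ 2 := by rw [← pow_add]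
    rw [e1] at hmain; rw [e2] at bU sumE; rw [e3] at sumE
    have hp : 1 ≤ q ^ N := Nat.one_le_pow _ _ Fintype.card_pos
    nlinarith [Nat.mul_le_mul_right (q ^ N * q ^ 2) hEc, Nat.mul_le_mul_right (q ^ 2) hAc,
      Nat.mul_le_mul_right (q ^ N * q ^ 3) hq, Nat.mul_le_mul_right (q ^ 3) hp]

end CfsgLib.PSLCover
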