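import Cfsg.Agent.Lib.PSLCover.Basic
import Cfsg.Agent.Lib.PSLCover.LuCount
import Cfsg.Agent.Lib.SpPres.Mat

/-!
Cyclic vectors: split cyclic matrices with equal characteristic polynomial are similar, and a rank one
update in the direction of a cyclic vector prescribes the characteristic polynomial.
-/

set_option autoImplicit false
set_option linter.unusedSectionVars false

namespace CfsgLib.PSLCover

open Matrix Polynomial

variable {K : Type*} [Field K] {n : ℕ}

/-- No nonzero polynomial of degree less than `n` kills `v`. -/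
def IsCyclicVec (A : Matrix (Fin n) (Fin n) K) (v : Fin n → K) : Prop :=
  ∀ f : K[X], (∀ l, n ≤ l → f.coeff l = 0) → aeval A f *ᵥ v = 0 → f = 0

/-- The Krylov matrix. -/
def kry (A : Matrix (Fin n) (Fin n) K) (v : Fin n → K) : Matrix (Fin n) (Fin n) K :=
  Matrix.of fun i j => (A ^ (j : ℕ) *ᵥ v) i

/-- The polynomial with the given coefficients. -/
noncomputable def ofCoeffs (c : Fin n → K) : K[X] := ∑ j : Fin n, monomial (j : ℕ) (c j)

theorem coeff_ofCoeffs (c : Fin n → K) (j : Fin n) : (ofCoeffs c).coeff j = c j := by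
  simp [ofCoeffs, coeff_monomial, Fin.val_inj]

theorem coeff_ofCoeffs_high (c : Fin n → K) {l : ℕ} (hl : n ≤ l) : (ofCoeffs c).coeff l = 0 := by
  simp only [ofCoeffs, finsetSum_coeff, coeff_monomial]
  exact Finset.sum_eq_zero fun j _ => if_neg (by omega)

theorem ofCoeffs_coeff {f : K[X]} (hf : ∀ l, n ≤ l → f.coeff l = 0) :
    ofCoeffs (fun j : Fin n => f.coeff j) = f := by
  ext l
  rcases lt_or_ge l n with hl | hl
  · exact coeff_ofCoeffs (fun j : Fin n => f.coeff j) ⟨l, hl⟩
  · rw [coeff_ofCoeffs_high _ hl, hf l hl]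

theorem kry_mulVec (A : Matrix (Fin n) (Fin n) K) (v c : Fin n → K) :
    kry A v *ᵥ c = aeval A (ofCoeffs c) *ᵥ v := by
  rw [ofCoeffs, map_sum, Matrix.sum_mulVec]
  funext i
  rw [Finset.sum_apply, Matrix.mulVec, dotProduct]
  refine Finset.sum_congr rfl fun j _ => ?_
  simp [kry, aeval_monomial, ← Algebra.smul_def, Matrix.smul_mulVec, mul_comm]

theorem kry_det_ne {A : Matrix (Fin n) (Fin n) K} {v : Fin n → K} (h : IsCyclicVec A v) :
    (kry A v).det ≠ 0 := by
  intro hd
  obtain ⟨c, hc, hc'⟩ := Matrix.exists_mulVec_eq_zero_iff.mpr hd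
  rw [kry_mulVec] at hc'
  have := h _ (fun l hl => coeff_ofCoeffs_high c hl) hc'
  exact hc (funext fun j => by rw [← coeff_ofCoeffs c j, this, coeff_zero, Pi.zero_apply])

theorem isCyclicVec_of_det {A : Matrix (Fin n) (Fin n) K} {v : Fin n → K} (h : (kry A v).det ≠ 0) :
    IsCyclicVec A v := by
  intro f hf hfv
  by_contra h0
  refine h (Matrix.exists_mulVec_eq_zero_iff.mp ⟨fun j => f.coeff j, fun hc => h0 ?_, ?_⟩)
  · rw [← ofCoeffs_coeff hf]
    simp [ofCoeffs, congrFun hc]
  · rw [kry_mulVec, ofCoeffs_coeff hf, hfv]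

theorem aeval_charpoly_mulVec (A : Matrix (Fin n) (Fin n) K) (v : Fin n → K) :
    aeval A A.charpoly *ᵥ v = 0 := by
  rw [Matrix.aeval_self_charpoly, Matrix.zero_mulVec]

theorem charpoly_monic_deg (A : Matrix (Fin n) (Fin n) K) :
    A.charpoly.Monic ∧ A.charpoly.natDegree = n :=
  ⟨A.charpoly_monic, by rw [Matrix.charpoly_natDegree_eq_dim, Fintype.card_fin]⟩

theorem IsCyclicVec.charpoly_eq {A : Matrix (Fin n) (Fin n) K} {v : Fin n → K} (h : IsCyclicVec A v)
    {p : K[X]} (hp : p.Monic) (hd : p.natDegree = n) (hv : aeval A p *ᵥ v = 0) : A.charpoly = p := by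
  obtain ⟨hm, hn⟩ := charpoly_monic_deg A
  refine sub_eq_zero.mp (h _ (fun l hl => ?_) ?_)
  · rcases hl.eq_or_lt with rfl | hl'
    · have h1 := hm.coeff_natDegree
      have h2 := hp.coeff_natDegree
      rw [hn] at h1; rw [hd] at h2
      rw [coeff_sub, h1, h2, sub_self]
    · rw [coeff_sub, coeff_eq_zero_of_natDegree_lt (by omega), coeff_eq_zero_of_natDegree_lt (by omega),
        sub_self]
  · rw [map_sub, Matrix.sub_mulVec, hv, aeval_charpoly_mulVec, sub_self]

theorem pow_mulVec_top (A : Matrix (Fin n) (Fin n) K) (v : Fin n → K) :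
    A ^ n *ᵥ v = - (kry A v *ᵥ fun j : Fin n => A.charpoly.coeff j) := by
  obtain ⟨hm, hn⟩ := charpoly_monic_deg A
  have hsplit : A.charpoly = X ^ n + ofCoeffs (fun j : Fin n => A.charpoly.coeff j) := by
    ext l
    rw [coeff_add, coeff_X_pow]
    rcases lt_trichotomy l n with hl | rfl | hl
    · rw [if_neg hl.ne, zero_add]
      exact (coeff_ofCoeffs (fun j : Fin n => A.charpoly.coeff j) ⟨l, hl⟩).symm
    · rw [if_pos rfl, coeff_ofCoeffs_high _ le_rfl, add_zero]
      have := hm.coeff_natDegree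
      rwa [hn] at this
    · rw [if_neg hl.ne', coeff_ofCoeffs_high _ hl.le, add_zero, coeff_eq_zero_of_natDegree_lt (by omega)]
  have h := aeval_charpoly_mulVec A v
  rw [hsplit, map_add, map_pow, aeval_X, Matrix.add_mulVec, ← kry_mulVec] at h
  exact eq_neg_of_add_eq_zero_left h

theorem glSim_of_cyclicVec {A B : Matrix (Fin n) (Fin n) K} {v w : Fin n → K} (hv : IsCyclicVec A v)
    (hw : IsCyclicVec B w) (h : A.charpoly = B.charpoly) : GLSim A B := by
  have hA : IsUnit (kry A v).det := isUnit_iff_ne_zero.mpr (kry_det_ne hv)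
  obtain ⟨P, hPdef⟩ : ∃ P, P = kry B w * (kry A v)⁻¹ := ⟨_, rfl⟩
  have hPK : P * kry A v = kry B w := hPdef ▸ Matrix.nonsing_inv_mul_cancel_right _ _ hA
  have hcol : ∀ j : Fin n, P *ᵥ (A ^ (j : ℕ) *ᵥ v) = B ^ (j : ℕ) *ᵥ w := fun j => funext fun i => by
    have := congrFun (congrFun hPK i) j
    simpa [kry, Matrix.mul_apply, Matrix.mulVec, dotProduct] using this
  have hcol' : ∀ j ≤ n, P *ᵥ (A ^ j *ᵥ v) = B ^ j *ᵥ w := by
    intro j hj
    rcases hj.eq_or_lt with rfl | hj
    · rw [pow_mulVec_top, pow_mulVec_top, Matrix.mulVec_neg, Matrix.mulVec_mulVec, hPK, h]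
    · exact hcol ⟨j, hj⟩
  refine ⟨P, ?_, ?_⟩
  · rw [hPdef, Matrix.det_mul]
    exact mul_ne_zero (kry_det_ne hw) (Matrix.isUnit_nonsing_inv_det _ hA).ne_zero
  · have e : P * A * kry A v = B * P * kry A v := by
      rw [Matrix.mul_assoc B P, hPK]
      ext i j
      have h1 := congrFun (hcol' ((j : ℕ) + 1) j.is_lt) i
      simp only [pow_succ', ← Matrix.mulVec_mulVec] at h1
      change ((P * A) *ᵥ (A ^ (j : ℕ) *ᵥ v)) i = (B *ᵥ (B ^ (j : ℕ) *ᵥ w)) i
      rw [← Matrix.mulVec_mulVec]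
      exact h1
    have := congrArg (fun M => M * (kry A v)⁻¹) e
    simpa [Matrix.mul_nonsing_inv_cancel_right _ _ hA] using this

/-- Cyclic with split characteristic polynomial is split cyclic. -/
theorem splitCyclic_of_cyclicVec {A : Matrix (Fin n) (Fin n) K} {v : Fin n → K} (hv : IsCyclicVec A v)
    (hs : ∃ S : Multiset K, A.charpoly = (S.map fun s => X - C s).prod) : SplitCyclic A := by
  obtain ⟨hm, hn⟩ := charpoly_monic_deg A
  refine ⟨hs, fun c x y hx hy hx0 => ?_⟩
  -- every eigenvector is a multiple of one polynomial at `v`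
  have hU : IsUnit (kry A v).det := isUnit_iff_ne_zero.mpr (kry_det_ne hv)
  have key : ∀ z : Fin n → K, A *ᵥ z = c • z → ∃ (l : K) (f : K[X]),
      z = aeval A f *ᵥ v ∧ (X - C c) * f = C l * A.charpoly := by
    intro z hz
    set b := (kry A v)⁻¹ *ᵥ z with hb
    have hzb : z = aeval A (ofCoeffs b) *ᵥ v := by
      rw [← kry_mulVec, hb, Matrix.mulVec_mulVec, Matrix.mul_nonsing_inv _ hU, Matrix.one_mulVec]
    set f := ofCoeffs b with hf
    refine ⟨((X - C c) * f).coeff n, f, hzb, sub_eq_zero.mp (hv _ (fun l hl => ?_) ?_)⟩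
    · rw [coeff_sub, coeff_C_mul]
      rcases hl.eq_or_lt with rfl | hl'
      · have := hm.coeff_natDegree; rw [hn] at this; rw [this, mul_one, sub_self]
      · obtain ⟨l, rfl⟩ : ∃ l', l = l' + 1 := ⟨l - 1, by omega⟩
        rw [coeff_eq_zero_of_natDegree_lt (p := A.charpoly) (by omega), mul_zero, sub_zero, sub_mul,
          coeff_sub, coeff_X_mul, coeff_C_mul, coeff_ofCoeffs_high _ (by omega),
          coeff_ofCoeffs_high _ (by omega), mul_zero, sub_zero]
    · rw [map_sub, Matrix.sub_mulVec, map_mul, map_mul, ← Matrix.mulVec_mulVec, ← Matrix.mulVec_mulVec, ← hzb,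
        aeval_charpoly_mulVec, Matrix.mulVec_zero, sub_zero, map_sub, aeval_X, aeval_C, Matrix.sub_mulVec, hz,
        Algebra.algebraMap_eq_smul_one, Matrix.smul_mulVec, Matrix.one_mulVec, sub_self]
  obtain ⟨l, f, hxf, hfl⟩ := key x hx
  obtain ⟨l', f', hyf, hfl'⟩ := key y hy
  have hl : l ≠ 0 := by
    rintro rfl
    rw [map_zero, zero_mul] at hfl
    rw [(mul_eq_zero.mp hfl).resolve_left (X_sub_C_ne_zero c), map_zero, Matrix.zero_mulVec] at hxf
    exact hx0 hxf
  have hff : f' = C (l' / l) * f := by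
    apply mul_left_cancel₀ (X_sub_C_ne_zero c)
    rw [hfl', mul_left_comm, hfl, ← mul_assoc, ← map_mul, div_mul_cancel₀ _ hl]
  refine ⟨l' / l, ?_⟩
  rw [hyf, hff, map_mul, aeval_C, hxf, Algebra.algebraMap_eq_smul_one, Matrix.smul_mul, Matrix.one_mul,
    Matrix.smul_mulVec]

theorem finrank_ker_aeval_le {A : Matrix (Fin n) (Fin n) K}
    (h : ∀ c : K, Module.finrank K (LinearMap.ker (A - c • 1).mulVecLin) ≤ 1) (S : Multiset K) :
    Module.finrank K (LinearMap.ker (aeval A (S.map fun s => X - C s).prod).mulVecLin) ≤ S.card := by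
  induction S using Multiset.induction_on with
  | empty =>
    have key : ∀ M : Matrix (Fin n) (Fin n) K, M = 1 →
        Module.finrank K (LinearMap.ker M.mulVecLin) ≤ 0 := fun M e => by
      subst e
      rw [Matrix.mulVecLin_one, LinearMap.ker_id, finrank_bot]
    exact key _ (by simp)
  | cons s S ih =>
    rw [Multiset.map_cons, Multiset.prod_cons, map_mul, Matrix.mulVecLin_mul, Multiset.card_cons]
    set f := (aeval A (S.map fun s => X - C s).prod).mulVecLin
    set g := (aeval A (X - C s)).mulVecLin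
    have hr := LinearMap.finrank_range_add_finrank_ker (f.domRestrict (LinearMap.ker (g ∘ₗ f)))
    have h1 : Module.finrank K (LinearMap.range (f.domRestrict (LinearMap.ker (g ∘ₗ f)))) ≤ 1 := by
      refine (Submodule.finrank_mono (t := LinearMap.ker g) ?_).trans ?_
      · rintro _ ⟨⟨z, hz⟩, rfl⟩
        exact hz
      · have key : ∀ M : Matrix (Fin n) (Fin n) K, M = A - s • 1 →
            Module.finrank K (LinearMap.ker M.mulVecLin) ≤ 1 := fun M e => by
          subst e; exact h s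
        exact key _ (by simp [Algebra.algebraMap_eq_smul_one])
    have h2 : Module.finrank K (LinearMap.ker (f.domRestrict (LinearMap.ker (g ∘ₗ f)))) ≤
        Module.finrank K (LinearMap.ker f) := by
      refine LinearMap.finrank_le_finrank_of_injective
        (f := ((LinearMap.ker (g ∘ₗ f)).subtype ∘ₗ
          (LinearMap.ker (f.domRestrict (LinearMap.ker (g ∘ₗ f)))).subtype).codRestrict (LinearMap.ker f)
          fun z => z.2) ?_
      intro z z' e
      apply Subtype.ext
      apply Subtype.ext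
      exact congrArg (fun w : LinearMap.ker f => (w : Fin n → K)) e
    omega

variable [Fintype K]

/-- A split cyclic invertible matrix has a cyclic vector. -/
theorem SplitCyclic.exists_cyclicVec {A : Matrix (Fin n) (Fin n) K} (h : SplitCyclic A) (hd : A.det ≠ 0) :
    ∃ v, IsCyclicVec A v := by
  classical
  obtain ⟨⟨S, hS⟩, hline⟩ := h
  obtain ⟨hm, hn⟩ := charpoly_monic_deg A
  have hScard : S.card = n := by
    rw [← hn, hS, natDegree_multiset_prod_X_sub_C_eq_card]
  rcases Nat.eq_zero_or_pos n with rfl | hpos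
  · exact ⟨0, fun f hf _ => Polynomial.ext fun l => by rw [hf l (Nat.zero_le _), coeff_zero]⟩
  have hk1 : ∀ c : K, Module.finrank K (LinearMap.ker (A - c • 1).mulVecLin) ≤ 1 := by
    intro c
    set E := LinearMap.ker (A - c • 1).mulVecLin
    have hmem : ∀ z : Fin n → K, z ∈ E → A *ᵥ z = c • z := fun z hz => by
      simpa [E, Matrix.sub_mulVec, Matrix.smul_mulVec, sub_eq_zero] using hz
    rcases eq_or_ne E ⊥ with hE | hE
    · rw [hE, finrank_bot]; exact Nat.zero_le _
    obtain ⟨x, hx, hx0⟩ := E.ne_bot_iff.mp hE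
    refine (Submodule.finrank_mono (t := Submodule.span K {x}) fun z hz => ?_).trans
      ((finrank_span_le_card _).trans (by simp))
    obtain ⟨a, rfl⟩ := hline c x z (hmem x hx) (hmem z hz) hx0
    exact Submodule.smul_mem _ a (Submodule.mem_span_singleton_self x)
  -- avoid the kernels of the maximal divisors
  set R := S.toFinset
  have h0S : (0 : K) ∉ R := fun h0 => hd (by
    rw [Matrix.det_eq_sign_charpoly_coeff, coeff_zero_eq_eval_zero, hS, eval_multiset_prod, Multiset.map_map,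
      Multiset.prod_eq_zero (Multiset.mem_map.mpr ⟨0, Multiset.mem_toFinset.mp h0, by simp⟩), mul_zero])
  set W : K → Submodule K (Fin n → K) := fun c =>
    LinearMap.ker (aeval A ((S.erase c).map fun s => X - C s).prod).mulVecLin
  have hW : ∀ c ∈ R, Fintype.card (W c) * Fintype.card K ≤ Fintype.card K ^ n := fun c hc => by
    rw [Module.card_eq_pow_finrank (K := K), ← pow_succ]
    refine Nat.pow_le_pow_right Fintype.card_pos ?_
    have := finrank_ker_aeval_le hk1 (S.erase c)
    rw [Multiset.card_erase_of_mem (Multiset.mem_toFinset.mp hc), hScard] at this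
    change Module.finrank K (W c) + 1 ≤ n
    have : Module.finrank K (W c) ≤ n - 1 := this
    omega
  obtain ⟨v, hv⟩ : ∃ v, ∀ c ∈ R, v ∉ W c := by
    by_contra hall
    push Not at hall
    set F : K → Finset (Fin n → K) := fun c => Finset.univ.filter fun v => v ∈ W c
    have hcov : (Finset.univ : Finset (Fin n → K)) ⊆ R.biUnion F := fun v _ => by
      obtain ⟨c, hc, hvc⟩ := hall v
      exact Finset.mem_biUnion.mpr ⟨c, hc, Finset.mem_filter.mpr ⟨Finset.mem_univ _, hvc⟩⟩
    have h1 := (Finset.card_le_card hcov).trans Finset.card_biUnion_le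
    rw [Finset.card_univ, Fintype.card_fun, Fintype.card_fin] at h1
    have h2 : ∀ c ∈ R, (F c).card * Fintype.card K ≤ Fintype.card K ^ n := fun c hc => by
      rw [show (F c).card = Fintype.card (W c) from (Fintype.card_subtype _).symm]
      exact hW c hc
    have h3 : (∑ c ∈ R, (F c).card) * Fintype.card K ≤ R.card * Fintype.card K ^ n := by
      rw [Finset.sum_mul, ← smul_eq_mul (a := R.card), ← Finset.sum_const]
      exact Finset.sum_le_sum h2
    have h4 : R.card + 1 ≤ Fintype.card K := by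
      have := Finset.card_le_univ (insert (0 : K) R)
      rwa [Finset.card_insert_of_notMem h0S] at this
    have hp : 0 < Fintype.card K ^ n := pow_pos Fintype.card_pos _
    nlinarith
  refine ⟨v, fun f hf hfv => ?_⟩
  by_contra hf0
  have hfd : f.natDegree < n := by
    by_contra hle
    exact hf0 (leadingCoeff_eq_zero.mp (hf _ (not_lt.mp hle)))
  set d := EuclideanDomain.gcd f A.charpoly
  have hdv : aeval A d *ᵥ v = 0 := by
    rw [show d = f * EuclideanDomain.gcdA f A.charpoly + A.charpoly * EuclideanDomain.gcdB f A.charpoly from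
      EuclideanDomain.gcd_eq_gcd_ab _ _, mul_comm f, mul_comm A.charpoly, map_add, map_mul, map_mul,
      Matrix.add_mulVec, ← Matrix.mulVec_mulVec, ← Matrix.mulVec_mulVec, hfv, aeval_charpoly_mulVec,
      Matrix.mulVec_zero, Matrix.mulVec_zero, add_zero]
  obtain ⟨e, he⟩ := EuclideanDomain.gcd_dvd_right f A.charpoly
  have hd0 : d ≠ 0 := fun h => hm.ne_zero (by rw [he]; change d * e = 0; rw [h, zero_mul])
  have hne : ¬ IsUnit e := fun hu => by
    have h1 := congrArg natDegree he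
    rw [hn, natDegree_mul hd0 hu.ne_zero, natDegree_eq_zero_of_isUnit hu, add_zero] at h1
    have h2 := natDegree_le_of_dvd (EuclideanDomain.gcd_dvd_left f A.charpoly) hf0
    change d.natDegree ≤ f.natDegree at h2
    change n = d.natDegree at h1
    omega
  have he0 : e ≠ 0 := fun h => hm.ne_zero (by rw [he, h, mul_zero])
  obtain ⟨c, hc⟩ : ∃ c, c ∈ R ∧ (X - C c) ∣ e := by
    obtain ⟨π, hπ, hπe⟩ := WfDvdMonoid.exists_irreducible_factor hne he0
    have hdvd : π ∣ (S.map fun s => X - C s).prod := hS ▸ hπe.trans ⟨d, by rw [he, mul_comm]⟩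
    obtain ⟨t, ht, htd⟩ := hπ.prime.exists_mem_multiset_dvd hdvd
    obtain ⟨c, hc, rfl⟩ := Multiset.mem_map.mp ht
    exact ⟨c, Multiset.mem_toFinset.mpr hc, (hπ.associated_of_dvd (irreducible_X_sub_C c) htd).symm.dvd.trans hπe⟩
  obtain ⟨hcR, e', rfl⟩ := hc
  refine hv c hcR ?_
  have hS' : A.charpoly = (X - C c) * ((S.erase c).map fun s => X - C s).prod := by
    rw [hS, ← Multiset.prod_cons, ← Multiset.map_cons (fun s => X - C s),
      Multiset.cons_erase (Multiset.mem_toFinset.mp hcR)]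
  have hquot : ((S.erase c).map fun s => X - C s).prod = e' * d := by
    apply mul_left_cancel₀ (X_sub_C_ne_zero c)
    rw [← hS', he]; change d * _ = _; ring
  show _ = (0 : Fin n → K)
  rw [Matrix.mulVecLin_apply, hquot, map_mul, ← Matrix.mulVec_mulVec, hdv, Matrix.mulVec_zero]

theorem glSim_of_splitCyclic {A B : Matrix (Fin n) (Fin n) K} (hA : SplitCyclic A) (hB : SplitCyclic B)
    (hd : A.det ≠ 0) (h : A.charpoly = B.charpoly) : GLSim A B := by
  have hB' : B.det ≠ 0 := by
    rwa [Matrix.det_eq_sign_charpoly_coeff, ← h, ← Matrix.det_eq_sign_charpoly_coeff]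
  obtain ⟨v, hv⟩ := hA.exists_cyclicVec hd
  obtain ⟨w, hw⟩ := hB.exists_cyclicVec hB'
  exact glSim_of_cyclicVec hv hw h

/-- A rank one update in the direction of a cyclic vector gives any characteristic polynomial. -/
theorem exists_update {B : Matrix (Fin n) (Fin n) K} {v : Fin n → K} (hv : IsCyclicVec B v) {p : K[X]}
    (hp : p.Monic) (hd : p.natDegree = n) :
    ∃ φ : Fin n → K, IsCyclicVec (B + vecMulVec v φ) v ∧ (B + vecMulVec v φ).charpoly = p := by
  obtain ⟨hm, hn⟩ := charpoly_monic_deg B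
  set q : ℕ → K[X] := fun m => divX^[m] B.charpoly with hqdef
  set r : ℕ → K[X] := fun m => divX^[m] p with hrdef
  have hco : ∀ (f : K[X]) (m l : ℕ), (divX^[m] f).coeff l = f.coeff (l + m) := by
    intro f m
    induction m with
    | zero => simp
    | succ m ih => intro l; rw [Function.iterate_succ_apply', coeff_divX, ih, add_right_comm, add_assoc]
  have hstep : ∀ (f : K[X]) (m : ℕ), X * divX^[m + 1] f + C (f.coeff m) = divX^[m] f := fun f m => by
    rw [Function.iterate_succ_apply', show f.coeff m = (divX^[m] f).coeff 0 by rw [hco, zero_add],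
      X_mul_divX_add]
  have htop : ∀ f : K[X], f.Monic → f.natDegree = n → divX^[n] f = 1 := fun f hf hfn => by
    ext l
    rw [hco, coeff_one]
    rcases Nat.eq_zero_or_pos l with rfl | hl
    · have := hf.coeff_natDegree; rw [hfn] at this; rw [zero_add, this, if_pos rfl]
    · rw [if_neg hl.ne', coeff_eq_zero_of_natDegree_lt (by omega)]
  set W : Matrix (Fin n) (Fin n) K := Matrix.of fun i j => (aeval B (q ((j : ℕ) + 1)) *ᵥ v) i with hW
  have hWdet : W.det ≠ 0 := by
    intro h0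
    obtain ⟨c, hc, hc'⟩ := Matrix.exists_mulVec_eq_zero_iff.mpr h0
    have hWc : W *ᵥ c = aeval B (∑ j : Fin n, C (c j) * q ((j : ℕ) + 1)) *ᵥ v := by
      rw [map_sum, Matrix.sum_mulVec]
      funext i
      rw [Finset.sum_apply, Matrix.mulVec, dotProduct]
      refine Finset.sum_congr rfl fun j _ => ?_
      simp [hW, Algebra.algebraMap_eq_smul_one, Matrix.smul_mulVec, mul_comm]
    rw [hWc] at hc'
    have hz := hv _ (fun l hl => by
      simp only [finsetSum_coeff, coeff_C_mul, hqdef, hco]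
      exact Finset.sum_eq_zero fun j _ => by rw [coeff_eq_zero_of_natDegree_lt (by omega), mul_zero]) hc'
    obtain ⟨j, hj, hjmin⟩ : ∃ j, c j ≠ 0 ∧ ∀ i, i < j → c i = 0 := by
      classical
      have hne : (Finset.univ.filter fun i => c i ≠ 0).Nonempty := by
        obtain ⟨i, hi⟩ := Function.ne_iff.mp hc
        exact ⟨i, by simpa using hi⟩
      refine ⟨_, (Finset.mem_filter.mp (Finset.min'_mem _ hne)).2, fun l hl => ?_⟩
      by_contra hl0
      exact absurd (Finset.min'_le _ l (Finset.mem_filter.mpr ⟨Finset.mem_univ _, hl0⟩)) (not_le.mpr hl)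
    have hz' := congrArg (fun f => coeff f (n - 1 - (j : ℕ))) hz
    simp only [finsetSum_coeff, coeff_C_mul, hqdef, hco, coeff_zero] at hz'
    rw [Finset.sum_eq_single j] at hz'
    · have := hm.coeff_natDegree
      rw [hn] at this
      rw [show n - 1 - (j : ℕ) + ((j : ℕ) + 1) = n by omega, this, mul_one] at hz'
      exact hj hz'
    · intro i _ hij
      rcases lt_or_gt_of_ne hij with h | h
      · rw [hjmin i h, zero_mul]
      · rw [coeff_eq_zero_of_natDegree_lt (by rw [Fin.lt_def] at h; omega), mul_zero]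
    · simp
  set φ := (fun i : Fin n => B.charpoly.coeff i - p.coeff i) ᵥ* W⁻¹ with hφ
  refine ⟨φ, ?_⟩
  set B' := B + vecMulVec v φ
  have hφW : ∀ j : Fin n, φ ⬝ᵥ (aeval B (q ((j : ℕ) + 1)) *ᵥ v) = B.charpoly.coeff j - p.coeff j := by
    intro j
    have : φ ᵥ* W = fun i : Fin n => B.charpoly.coeff i - p.coeff i := by
      rw [hφ, Matrix.vecMul_vecMul, Matrix.nonsing_inv_mul _ (isUnit_iff_ne_zero.mpr hWdet), Matrix.vecMul_one]
    exact congrFun this j
  have hmain : ∀ m, m ≤ n → aeval B' (r (n - m)) *ᵥ v = aeval B (q (n - m)) *ᵥ v := by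
    intro m
    induction m with
    | zero => intro _; simp [hqdef, hrdef, htop _ hm hn, htop _ hp hd]
    | succ m ih =>
      intro hle
      obtain ⟨j, hj⟩ : ∃ j : Fin n, (j : ℕ) = n - (m + 1) := ⟨⟨n - (m + 1), by omega⟩, rfl⟩
      have hnm : n - m = (j : ℕ) + 1 := by omega
      have ih' := ih (by omega)
      rw [hnm] at ih'
      rw [← hj]
      have e1 : r (j : ℕ) = X * r ((j : ℕ) + 1) + C (p.coeff j) := (hstep p j).symm
      have e2 : q (j : ℕ) = X * q ((j : ℕ) + 1) + C (B.charpoly.coeff j) := (hstep _ j).symm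
      rw [e1, e2, map_add, map_add, map_mul, map_mul, aeval_X, aeval_X, aeval_C, aeval_C, Matrix.add_mulVec,
        Matrix.add_mulVec, ← Matrix.mulVec_mulVec, ← Matrix.mulVec_mulVec, ih', Algebra.algebraMap_eq_smul_one,
        Algebra.algebraMap_eq_smul_one, Matrix.smul_mulVec, Matrix.smul_mulVec, Matrix.one_mulVec]
      simp only [B', Matrix.add_mulVec, Matrix.vecMulVec_mulVec, op_smul_eq_smul, hφW]
      rw [sub_smul]
      abel
  have hpv : aeval B' p *ᵥ v = 0 := by
    have := hmain n le_rfl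
    rw [Nat.sub_self] at this
    simpa [hqdef, hrdef, aeval_charpoly_mulVec] using this
  have hcyc : IsCyclicVec B' v := by
    refine isCyclicVec_of_det fun h0 => hWdet ?_
    set C' : Matrix (Fin n) (Fin n) K := Matrix.of fun l j => (r ((j : ℕ) + 1)).coeff l
    have : W = kry B' v * C' := by
      ext i j
      have h1 := congrFun (hmain (n - ((j : ℕ) + 1)) (by omega)) i
      rw [show n - (n - ((j : ℕ) + 1)) = (j : ℕ) + 1 by omega] at h1
      have h2 : ofCoeffs (fun l : Fin n => (r ((j : ℕ) + 1)).coeff l) = r ((j : ℕ) + 1) :=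
        ofCoeffs_coeff fun l hl => by
          simp only [hrdef, hco]
          exact coeff_eq_zero_of_natDegree_lt (by omega)
      rw [← h2, ← kry_mulVec] at h1
      rw [Matrix.mul_apply]
      exact h1.symm
    rw [this, Matrix.det_mul, h0, zero_mul]
  exact ⟨hcyc, hcyc.charpoly_eq hp hd hpv⟩

theorem det_one_add_vecMulVec' (x φ : Fin n → K) :
    ((1 : Matrix (Fin n) (Fin n) K) + vecMulVec x φ).det = 1 + φ ⬝ᵥ x := by
  rw [Matrix.vecMulVec_eq Unit, Matrix.det_one_add_replicateCol_mul_replicateRow]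

theorem glSim_rankOne {s : K} {x x' φ φ' : Fin n → K} (hn : 2 ≤ n) (hx : x ≠ 0) (hx' : x' ≠ 0)
    (hφ : φ ≠ 0) (hφ' : φ' ≠ 0) (h : φ ⬝ᵥ x = φ' ⬝ᵥ x') :
    GLSim (s • 1 + vecMulVec x φ) (s • 1 + vecMulVec x' φ') := by
  obtain ⟨k, rfl⟩ : ∃ k, n = k + 2 := ⟨n - 2, by omega⟩
  have hfirst : ∀ y : Fin (k + 2) → K, y ≠ 0 → ∃ P : Matrix (Fin (k + 2)) (Fin (k + 2)) K,
      P.det ≠ 0 ∧ P *ᵥ Pi.single 0 1 = y := by
    intro y hy
    obtain ⟨w, hw⟩ : ∃ w, ∀ c : K, w ≠ c • y := by
      by_contra hall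
      push Not at hall
      obtain ⟨a, ha⟩ := hall (Pi.single 0 1)
      obtain ⟨b, hb⟩ := hall (Pi.single 1 1)
      have h1 := congrFun ha 0
      have h2 := congrFun hb 1
      have h3 := congrFun ha 1
      simp [Fin.ext_iff] at h1 h2 h3
      rcases h3 with h3 | h3
      · simp [h3] at h1
      · simp [h3] at h2
    obtain ⟨P, hP, -⟩ := CfsgLib.SpPres.exists_two_col (i := (0 : Fin (k + 2))) (j := 1)
      (by simp [Fin.ext_iff]) hy (w := w) hw
    exact ⟨P, CfsgLib.SpPres.det_ne P, hP⟩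
  obtain ⟨Q, hQ, hQe⟩ := hfirst x hx
  obtain ⟨Q', hQ', hQe'⟩ := hfirst x' hx'
  have hQu : IsUnit Q.det := isUnit_iff_ne_zero.mpr hQ
  set P0 := Q' * Q⁻¹
  have hP0x : P0 *ᵥ x = x' := by
    rw [← hQe, Matrix.mulVec_mulVec, Matrix.nonsing_inv_mul_cancel_right _ _ hQu, hQe']
  have hP0d : P0.det ≠ 0 := by
    rw [Matrix.det_mul]
    exact mul_ne_zero hQ' (Matrix.isUnit_nonsing_inv_det _ hQu).ne_zero
  set ψ := φ' ᵥ* P0 with hψdef
  have hψ : ψ ≠ 0 := fun h0 => by
    obtain ⟨z, hz⟩ := Function.ne_iff.mp hφ'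
    refine hz ?_
    have := congrArg (fun y => y ᵥ* P0⁻¹) h0
    simp only [hψdef, Matrix.vecMul_vecMul, Matrix.mul_nonsing_inv _ (isUnit_iff_ne_zero.mpr hP0d),
      Matrix.vecMul_one, Matrix.zero_vecMul] at this
    exact congrFun this z
  have hψx : ψ ⬝ᵥ x = φ ⬝ᵥ x := by rw [hψdef, ← Matrix.dotProduct_mulVec, hP0x, h]
  obtain ⟨w, hw1, hw2⟩ : ∃ w, ψ ⬝ᵥ w = 1 ∧ φ ⬝ᵥ w ≠ 0 := by
    suffices ∃ w, ψ ⬝ᵥ w ≠ 0 ∧ φ ⬝ᵥ w ≠ 0 by
      obtain ⟨w, h1, h2⟩ := this
      exact ⟨(ψ ⬝ᵥ w)⁻¹ • w, by simp [dotProduct_smul, h1], by simp [dotProduct_smul, h1, h2]⟩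
    obtain ⟨i, hi⟩ := Function.ne_iff.mp hψ
    obtain ⟨j, hj⟩ := Function.ne_iff.mp hφ
    by_cases h1 : φ i = 0
    · by_cases h2 : ψ j = 0
      · exact ⟨Pi.single i 1 + Pi.single j 1, by simpa [dotProduct_add, h2] using hi,
          by simpa [dotProduct_add, h1] using hj⟩
      · exact ⟨Pi.single j 1, by simpa using h2, by simpa using hj⟩
    · exact ⟨Pi.single i 1, by simpa using hi, by simpa using h1⟩
  set P1 : Matrix (Fin (k + 2)) (Fin (k + 2)) K := 1 + vecMulVec w (φ - ψ)
  have hP1x : P1 *ᵥ x = x := by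
    simp [P1, Matrix.add_mulVec, Matrix.vecMulVec_mulVec, sub_dotProduct, hψx]
  have hP1φ : ψ ᵥ* P1 = φ := by
    simp [P1, Matrix.vecMul_add, Matrix.vecMul_vecMulVec, hw1]
  have hP1d : P1.det ≠ 0 := by
    simp only [P1]
    rw [det_one_add_vecMulVec', sub_dotProduct, hw1, add_sub_cancel]
    exact hw2
  refine ⟨P0 * P1, by rw [Matrix.det_mul]; exact mul_ne_zero hP0d hP1d, ?_⟩
  rw [Matrix.mul_add, Matrix.add_mul, Matrix.mul_smul, Matrix.smul_mul, Matrix.mul_one, Matrix.one_mul,
    Matrix.mul_vecMulVec, Matrix.vecMulVec_mul, ← Matrix.mulVec_mulVec, hP1x, hP0x, ← Matrix.vecMul_vecMul,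
    ← hψdef, hP1φ]

/-- For `g` a scalar plus rank one: a conjugate `g2` with `T⁻¹ g2` split cyclic of prescribed spectrum. -/
theorem exists_rankone_split {T g : Matrix (Fin n) (Fin n) K} (hT : SplitCyclic T) (hTd : T.det ≠ 0)
    (hg : Nonscalar g) (hgd : g.det ≠ 0) {s : K} {u0 w0 : Fin n → K}
    (hgs : g = s • 1 + vecMulVec u0 w0) (S : Multiset K) (hS : S.card = n)
    (hdet : (T⁻¹ * g).det = S.prod) (hne : (s • T⁻¹).charpoly ≠ (S.map fun c => X - C c).prod) :
    ∃ g2, GLSim g g2 ∧ SplitCyclic (T⁻¹ * g2) ∧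
      (T⁻¹ * g2).charpoly = (S.map fun c => X - C c).prod := by
  have hn : 2 ≤ n := by
    by_contra hlt
    rcases Nat.eq_zero_or_pos n with rfl | hp
    · exact hg 0 (Subsingleton.elim _ _)
    · obtain rfl : n = 1 := by omega
      exact hg (g 0 0) (Matrix.ext fun i j => by simp [Fin.fin_one_eq_zero i, Fin.fin_one_eq_zero j])
  have hu0 : u0 ≠ 0 := fun h => hg s (by rw [hgs, h, Matrix.zero_vecMulVec, add_zero])
  have hw0 : w0 ≠ 0 := fun h => hg s (by rw [hgs, h, Matrix.vecMulVec_zero, add_zero])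
  have hdet1 : ∀ x φ : Fin n → K, ∀ c : K, c ≠ 0 →
      (c • (1 : Matrix (Fin n) (Fin n) K) + vecMulVec x φ).det = c ^ n * (1 + c⁻¹ * (φ ⬝ᵥ x)) := by
    intro x φ c hc
    rw [show c • (1 : Matrix (Fin n) (Fin n) K) + vecMulVec x φ = c • (1 + vecMulVec (c⁻¹ • x) φ) by
      rw [smul_add, Matrix.smul_vecMulVec, smul_smul, mul_inv_cancel₀ hc, one_smul], Matrix.det_smul,
      Fintype.card_fin, det_one_add_vecMulVec', dotProduct_smul, smul_eq_mul]
  haveI : Nontrivial (Fin n) := Fin.nontrivial_iff_two_le.mpr hn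
  have hs : s ≠ 0 := by
    rintro rfl
    apply hgd
    rw [hgs, zero_smul, zero_add, Matrix.det_vecMulVec]
  have hTu : IsUnit T.det := isUnit_iff_ne_zero.mpr hTd
  obtain ⟨v, hv⟩ := hT.exists_cyclicVec hTd
  -- `v` is cyclic for `s • T⁻¹`
  have hvB : IsCyclicVec (s • T⁻¹) v := by
    intro f hf hfv
    let f' : Fin n → K := fun j => f.coeff (n - 1 - (j : ℕ)) * s ^ (n - 1 - (j : ℕ))
    have hpow : ∀ l, l < n → T ^ (n - 1) * (s • T⁻¹) ^ l = s ^ l • T ^ (n - 1 - l) := by
      intro l hl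
      rw [_root_.smul_pow, Matrix.mul_smul, show n - 1 = n - 1 - l + l by omega, pow_add, Nat.add_sub_cancel,
        Matrix.inv_pow', Matrix.mul_assoc, Matrix.mul_nonsing_inv _ (by rw [Matrix.det_pow]; exact hTu.pow l),
        Matrix.mul_one]
    have hrev : aeval T (ofCoeffs f') = T ^ (n - 1) * aeval (s • T⁻¹) f := by
      conv_rhs => rw [← ofCoeffs_coeff hf]
      simp only [ofCoeffs, map_sum, Finset.mul_sum, aeval_monomial, ← Algebra.smul_def, Matrix.mul_smul]
      refine Fintype.sum_equiv Fin.revPerm _ _ fun j => ?_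
      rw [hpow _ (Fin.is_lt _), smul_smul]
      simp only [f', Fin.revPerm_apply, Fin.val_rev]
      rw [show n - 1 - (n - ((j : ℕ) + 1)) = (j : ℕ) by omega, show n - 1 - (j : ℕ) = n - ((j : ℕ) + 1) by omega]
    have := hv _ (fun l hl => coeff_ofCoeffs_high f' hl) (by rw [hrev, ← Matrix.mulVec_mulVec, hfv, Matrix.mulVec_zero])
    rw [← ofCoeffs_coeff hf]
    ext l
    rcases lt_or_ge l n with hl | hl
    · rw [coeff_zero, show l = ((⟨l, hl⟩ : Fin n) : ℕ) from rfl, coeff_ofCoeffs]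
      have h2 := congrArg (fun q => coeff q (n - 1 - l)) this
      simp only [coeff_zero] at h2
      rw [show n - 1 - l = ((⟨n - 1 - l, by omega⟩ : Fin n) : ℕ) from rfl, coeff_ofCoeffs] at h2
      simp only [f'] at h2
      rw [show n - 1 - (n - 1 - l) = l by omega] at h2
      exact (mul_eq_zero.mp h2).resolve_right (pow_ne_zero _ hs)
    · rw [coeff_ofCoeffs_high _ hl, coeff_zero]
  set p := (S.map fun c => X - C c).prod with hp
  have hpm : p.Monic := monic_multiset_prod_of_monic _ _ fun c _ => monic_X_sub_C c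
  obtain ⟨φ, hcyc, hchar⟩ := exists_update hvB hpm (by rw [hp, natDegree_multiset_prod_X_sub_C_eq_card, hS])
  set g2 := s • (1 : Matrix (Fin n) (Fin n) K) + vecMulVec (T *ᵥ v) φ
  have hTg : T⁻¹ * g2 = s • T⁻¹ + vecMulVec v φ := by
    rw [Matrix.mul_add, Matrix.mul_smul, Matrix.mul_one, Matrix.mul_vecMulVec, Matrix.mulVec_mulVec,
      Matrix.nonsing_inv_mul _ hTu, Matrix.one_mulVec]
  have hφ : φ ≠ 0 := fun h => hne (by rw [← hchar, h, Matrix.vecMulVec_zero, add_zero])
  have hv0 : v ≠ 0 := fun h => one_ne_zero (α := K[X]) (hv 1 (fun l hl => by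
    rw [coeff_one, if_neg (by omega)]) (by rw [h, Matrix.mulVec_zero]))
  have hTv : T *ᵥ v ≠ 0 := fun h => hv0 (by
    have := congrArg (fun z => T⁻¹ *ᵥ z) h
    simpa [Matrix.mulVec_mulVec, Matrix.nonsing_inv_mul _ hTu] using this)
  have hp0 : (-1 : K) ^ n * p.coeff 0 = S.prod := by
    rw [hp, Polynomial.coeff_zero_eq_eval_zero, Polynomial.eval_multiset_prod, Multiset.map_map]
    simp only [Function.comp_def, eval_sub, eval_X, eval_C, zero_sub]
    rw [Multiset.prod_map_neg, hS, ← mul_assoc, ← mul_pow, neg_one_mul, neg_neg, one_pow, one_mul]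
  have hdd : (T⁻¹ * g2).det = (T⁻¹ * g).det := by
    rw [hdet, Matrix.det_eq_sign_charpoly_coeff, hTg, hchar, Fintype.card_fin, hp0]
  have hdd' : g2.det = g.det := by
    rw [Matrix.det_mul, Matrix.det_mul] at hdd
    exact mul_left_cancel₀ (Matrix.isUnit_nonsing_inv_det _ hTu).ne_zero hdd
  have hdot : w0 ⬝ᵥ u0 = φ ⬝ᵥ (T *ᵥ v) := by
    rw [hdet1 _ _ _ hs, hgs, hdet1 _ _ _ hs] at hdd'
    exact (mul_left_cancel₀ (inv_ne_zero hs) (add_left_cancel (mul_left_cancel₀ (pow_ne_zero _ hs) hdd'))).symm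
  refine ⟨g2, hgs ▸ glSim_rankOne hn hu0 hTv hw0 hφ hdot, ?_, ?_⟩
  · rw [hTg]; exact splitCyclic_of_cyclicVec hcyc ⟨S, hchar⟩
  · rw [hTg, hchar]

end CfsgLib.PSLCover
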