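import Mathlib

/-!
Conjugacy relations and products of conjugates for the covering number of `PSL_n` (S2483).
-/

set_option autoImplicit false
set_option linter.unusedSectionVars false

namespace CfsgLib.PSLCover

open Matrix Polynomial

variable {F : Type*} [Field F] {ι κ : Type*} [Fintype ι] [DecidableEq ι] [Fintype κ] [DecidableEq κ]

/-- Not a scalar matrix. -/
def Nonscalar (x : Matrix ι ι F) : Prop := ∀ c : F, x ≠ c • 1

/-- Conjugate by an invertible matrix. -/
def GLSim (x y : Matrix ι ι F) : Prop := ∃ P : Matrix ι ι F, P.det ≠ 0 ∧ P * x = y * P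

/-- Conjugate by a matrix of determinant one. -/
def SLSim (x y : Matrix ι ι F) : Prop := ∃ P : Matrix ι ι F, P.det = 1 ∧ P * x = y * P

/-- The centralizer meets every determinant. -/
def DetFull (x : Matrix ι ι F) : Prop := ∀ d : F, d ≠ 0 → ∃ P : Matrix ι ι F, P.det = d ∧ P * x = x * P

/-- No vector is an eigenvector of all the matrices with one common eigenvalue. -/
def NoCommon (l : List (Matrix ι ι F)) : Prop :=
  ∀ v : ι → F, v ≠ 0 → ∀ c : F, ∃ y ∈ l, y *ᵥ v ≠ c • v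

/-- Product of `k` conjugates of `x` under matrices of determinant one. -/
def InPow (x : Matrix ι ι F) (k : ℕ) (g : Matrix ι ι F) : Prop :=
  ∃ l : List (Matrix ι ι F), l.length = k ∧ (∀ y ∈ l, SLSim x y) ∧ l.prod = g

/-- As `InPow`, with factors having no common eigenvector for a common eigenvalue. -/
def InPowNC (x : Matrix ι ι F) (k : ℕ) (g : Matrix ι ι F) : Prop :=
  ∃ l : List (Matrix ι ι F), l.length = k ∧ (∀ y ∈ l, SLSim x y) ∧ l.prod = g ∧ NoCommon l

/-- A scalar plus a matrix of rank at most one. -/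
def IsRankOne (x : Matrix ι ι F) : Prop := ∃ (c : F) (u w : ι → F), x = c • 1 + vecMulVec u w

/-- All eigenvalues lie in the field and all eigenspaces are lines. -/
def SplitCyclic (T : Matrix ι ι F) : Prop :=
  (∃ S : Multiset F, T.charpoly = (S.map fun s => Polynomial.X - Polynomial.C s).prod) ∧
    ∀ (c : F) (u v : ι → F), T *ᵥ u = c • u → T *ᵥ v = c • v → u ≠ 0 → ∃ a : F, v = a • u

theorem InPowNC.inPow {x : Matrix ι ι F} {k : ℕ} {g : Matrix ι ι F} (h : InPowNC x k g) : InPow x k g := by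
  obtain ⟨l, h1, h2, h3, -⟩ := h
  exact ⟨l, h1, h2, h3⟩

theorem GLSim.refl (x : Matrix ι ι F) : GLSim x x := ⟨1, by simp, by simp⟩

theorem SLSim.refl (x : Matrix ι ι F) : SLSim x x := ⟨1, by simp, by simp⟩

theorem GLSim.trans {x y z : Matrix ι ι F} (h : GLSim x y) (h' : GLSim y z) : GLSim x z := by
  obtain ⟨P, hP, e⟩ := h
  obtain ⟨Q, hQ, e'⟩ := h'
  refine ⟨Q * P, by rw [det_mul]; exact mul_ne_zero hQ hP, ?_⟩
  rw [mul_assoc, e, ← mul_assoc, e', mul_assoc]

theorem SLSim.trans {x y z : Matrix ι ι F} (h : SLSim x y) (h' : SLSim y z) : SLSim x z := by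
  obtain ⟨P, hP, e⟩ := h
  obtain ⟨Q, hQ, e'⟩ := h'
  refine ⟨Q * P, by rw [det_mul, hP, hQ, one_mul], ?_⟩
  rw [mul_assoc, e, ← mul_assoc, e', mul_assoc]

theorem GLSim.symm {x y : Matrix ι ι F} (h : GLSim x y) : GLSim y x := by
  obtain ⟨P, hP, e⟩ := h
  have hu : IsUnit P.det := isUnit_iff_ne_zero.2 hP
  refine ⟨P⁻¹, (Matrix.isUnit_nonsing_inv_det P hu).ne_zero, ?_⟩
  calc P⁻¹ * y = P⁻¹ * (y * P) * P⁻¹ := by
        rw [mul_assoc, mul_assoc, Matrix.mul_nonsing_inv P hu, mul_one]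
    _ = P⁻¹ * (P * x) * P⁻¹ := by rw [e]
    _ = x * P⁻¹ := by rw [← mul_assoc P⁻¹, Matrix.nonsing_inv_mul P hu, one_mul]

theorem SLSim.glSim {x y : Matrix ι ι F} (h : SLSim x y) : GLSim x y := by
  obtain ⟨P, hP, e⟩ := h
  exact ⟨P, by rw [hP]; exact one_ne_zero, e⟩

theorem GLSim.slSim {x y : Matrix ι ι F} (h : GLSim x y) (hx : DetFull x) : SLSim x y := by
  obtain ⟨P, hP, e⟩ := h
  obtain ⟨C, hC, eC⟩ := hx P.det⁻¹ (inv_ne_zero hP)
  refine ⟨P * C, by rw [det_mul, hC, mul_inv_cancel₀ hP], ?_⟩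
  rw [mul_assoc, eC, ← mul_assoc, e, mul_assoc]

theorem GLSim.det_eq {x y : Matrix ι ι F} (h : GLSim x y) : x.det = y.det := by
  obtain ⟨P, hP, e⟩ := h
  have := congrArg Matrix.det e
  rw [det_mul, det_mul, mul_comm y.det] at this
  exact mul_left_cancel₀ hP this

theorem GLSim.smul {x y : Matrix ι ι F} (h : GLSim x y) (c : F) : GLSim (c • x) (c • y) := by
  obtain ⟨P, hP, e⟩ := h
  exact ⟨P, hP, by rw [Matrix.mul_smul, Matrix.smul_mul, e]⟩

theorem SLSim.smul {x y : Matrix ι ι F} (h : SLSim x y) (c : F) : SLSim (c • x) (c • y) := by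
  obtain ⟨P, hP, e⟩ := h
  exact ⟨P, hP, by rw [Matrix.mul_smul, Matrix.smul_mul, e]⟩

/-- Conjugation by an invertible matrix. -/
noncomputable def conjBy (P y : Matrix ι ι F) : Matrix ι ι F := P * y * P⁻¹

theorem conjBy_mul {P : Matrix ι ι F} (hP : P.det ≠ 0) (y z : Matrix ι ι F) :
    conjBy P (y * z) = conjBy P y * conjBy P z := by
  simp only [conjBy, Matrix.mul_assoc,
    Matrix.nonsing_inv_mul_cancel_left P _ (isUnit_iff_ne_zero.2 hP)]

theorem conjBy_one {P : Matrix ι ι F} (hP : P.det ≠ 0) : conjBy P 1 = 1 := by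
  rw [conjBy, mul_one, Matrix.mul_nonsing_inv P (isUnit_iff_ne_zero.2 hP)]

theorem conjBy_prod {P : Matrix ι ι F} (hP : P.det ≠ 0) (l : List (Matrix ι ι F)) :
    conjBy P l.prod = (l.map (conjBy P)).prod := by
  induction l with
  | nil => simp [conjBy_one hP]
  | cons a l ih => rw [List.prod_cons, conjBy_mul hP, ih, List.map_cons, List.prod_cons]

theorem glSim_conjBy {P : Matrix ι ι F} (hP : P.det ≠ 0) (y : Matrix ι ι F) : GLSim y (conjBy P y) :=
  ⟨P, hP, by rw [conjBy, mul_assoc, Matrix.nonsing_inv_mul P (isUnit_iff_ne_zero.2 hP), mul_one]⟩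

theorem conjBy_eq {P x y : Matrix ι ι F} (hP : P.det ≠ 0) (e : P * x = y * P) : conjBy P x = y := by
  rw [conjBy, e, mul_assoc, Matrix.mul_nonsing_inv P (isUnit_iff_ne_zero.2 hP), mul_one]

theorem NoCommon.conjBy {P : Matrix ι ι F} (hP : P.det ≠ 0) {l : List (Matrix ι ι F)} (h : NoCommon l) :
    NoCommon (l.map (PSLCover.conjBy P)) := by
  intro v hv c
  have hu : IsUnit P.det := isUnit_iff_ne_zero.2 hP
  have hw : P⁻¹ *ᵥ v ≠ 0 := fun e => hv (by
    have := congrArg (fun z => P *ᵥ z) e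
    simpa [Matrix.mulVec_mulVec, Matrix.mul_nonsing_inv P hu] using this)
  obtain ⟨y, hy, hne⟩ := h _ hw c
  refine ⟨_, List.mem_map.2 ⟨y, hy, rfl⟩, fun e => hne ?_⟩
  have h2 := congrArg (fun z => P⁻¹ *ᵥ z) e
  simpa [PSLCover.conjBy, Matrix.mulVec_mulVec, Matrix.mulVec_smul, ← Matrix.mul_assoc,
    Matrix.nonsing_inv_mul P hu] using h2

/-- Move a product of conjugates to a conjugate of the target (full determinant centralizer). -/
theorem InPowNC.of_glSim {x g g' : Matrix ι ι F} {k : ℕ} (hx : DetFull x) (h : InPowNC x k g)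
    (hg : GLSim g g') : InPowNC x k g' := by
  obtain ⟨P, hP, e⟩ := hg
  obtain ⟨l, h1, h2, h3, h4⟩ := h
  refine ⟨l.map (conjBy P), by simpa using h1, fun y hy => ?_, ?_, h4.conjBy hP⟩
  · obtain ⟨z, hz, rfl⟩ := List.mem_map.1 hy
    exact ((h2 z hz).glSim.trans (glSim_conjBy hP z)).slSim hx
  · rw [← conjBy_prod hP, h3, conjBy_eq hP e]

theorem InPow.of_slSim {x g g' : Matrix ι ι F} {k : ℕ} (h : InPow x k g) (hg : SLSim g g') :
    InPow x k g' := by
  obtain ⟨P, hP, e⟩ := hg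
  have hP0 : P.det ≠ 0 := by rw [hP]; exact one_ne_zero
  obtain ⟨l, h1, h2, h3⟩ := h
  refine ⟨l.map (conjBy P), by simpa using h1, fun y hy => ?_, ?_⟩
  · obtain ⟨z, hz, rfl⟩ := List.mem_map.1 hy
    refine (h2 z hz).trans ⟨P, hP, ?_⟩
    rw [conjBy, mul_assoc, Matrix.nonsing_inv_mul P (isUnit_iff_ne_zero.2 hP0), mul_one]
  · rw [← conjBy_prod hP0, h3, conjBy_eq hP0 e]

theorem InPow.of_glSim {x g g' : Matrix ι ι F} {k : ℕ} (hx : DetFull x) (h : InPow x k g)
    (hg : GLSim g g') : InPow x k g' := by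
  obtain ⟨P, hP, e⟩ := hg
  obtain ⟨l, h1, h2, h3⟩ := h
  refine ⟨l.map (conjBy P), by simpa using h1, fun y hy => ?_, ?_⟩
  · obtain ⟨z, hz, rfl⟩ := List.mem_map.1 hy
    exact ((h2 z hz).glSim.trans (glSim_conjBy hP z)).slSim hx
  · rw [← conjBy_prod hP, h3, conjBy_eq hP e]

theorem InPow.append {x g h : Matrix ι ι F} {k m : ℕ} (h1 : InPow x k g) (h2 : InPow x m h) :
    InPow x (k + m) (g * h) := by
  obtain ⟨l, a1, a2, a3⟩ := h1
  obtain ⟨l', b1, b2, b3⟩ := h2
  exact ⟨l ++ l', by simp [a1, b1], fun y hy => (List.mem_append.1 hy).elim (a2 y) (b2 y),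
    by simp [a3, b3]⟩

theorem inPow_one {x y : Matrix ι ι F} (h : SLSim x y) : InPow x 1 y := ⟨[y], by simp, by simpa using h, by simp⟩

theorem InPow.det {x g : Matrix ι ι F} {k : ℕ} (h : InPow x k g) : g.det = x.det ^ k := by
  obtain ⟨l, rfl, h2, rfl⟩ := h
  induction l with
  | nil => simp
  | cons a l ih =>
    rw [List.prod_cons, det_mul, ih (fun y hy => h2 y (List.mem_cons_of_mem _ hy)),
      ← (h2 a List.mem_cons_self).glSim.det_eq, List.length_cons, pow_succ']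

theorem InPow.replace {x x' g : Matrix ι ι F} {k : ℕ} (h : InPow x k g) (hs : SLSim x' x) : InPow x' k g := by
  obtain ⟨l, h1, h2, h3⟩ := h
  exact ⟨l, h1, fun y hy => hs.trans (h2 y hy), h3⟩

theorem InPowNC.replace {x x' g : Matrix ι ι F} {k : ℕ} (h : InPowNC x k g) (hs : SLSim x' x) :
    InPowNC x' k g := by
  obtain ⟨l, h1, h2, h3, h4⟩ := h
  exact ⟨l, h1, fun y hy => hs.trans (h2 y hy), h3, h4⟩

theorem InPow.smul {x g : Matrix ι ι F} {k : ℕ} (h : InPow x k g) (c : F) :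
    InPow (c • x) k (c ^ k • g) := by
  obtain ⟨l, rfl, h2, rfl⟩ := h
  refine ⟨l.map (c • ·), by simp, fun y hy => ?_, ?_⟩
  · obtain ⟨z, hz, rfl⟩ := List.mem_map.1 hy
    exact (h2 z hz).smul c
  · clear h2
    induction l with
    | nil => simp
    | cons a l ih =>
      rw [List.map_cons, List.prod_cons, ih, List.length_cons, List.prod_cons, Matrix.smul_mul,
        Matrix.mul_smul, smul_smul, pow_succ']

theorem Nonscalar.of_glSim {x y : Matrix ι ι F} (h : Nonscalar x) (hs : GLSim x y) : Nonscalar y := by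
  intro c e
  obtain ⟨P, hP, e'⟩ := hs
  subst e
  refine h c ?_
  have hu : IsUnit P.det := isUnit_iff_ne_zero.2 hP
  have := congrArg (fun z => P⁻¹ * z) e'
  simpa [← Matrix.mul_assoc, Matrix.nonsing_inv_mul P hu] using this

section Reindex

variable (e : ι ≃ κ)

theorem GLSim.reindex {x y : Matrix ι ι F} (h : GLSim x y) :
    GLSim (x.reindex e e) (y.reindex e e) := by
  obtain ⟨P, hP, h'⟩ := h
  refine ⟨P.reindex e e, by rwa [Matrix.det_reindex_self], ?_⟩
  simp only [Matrix.reindex_apply, Matrix.submatrix_mul_equiv, h']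

theorem SLSim.reindex {x y : Matrix ι ι F} (h : SLSim x y) :
    SLSim (x.reindex e e) (y.reindex e e) := by
  obtain ⟨P, hP, h'⟩ := h
  refine ⟨P.reindex e e, by rwa [Matrix.det_reindex_self], ?_⟩
  simp only [Matrix.reindex_apply, Matrix.submatrix_mul_equiv, h']

theorem InPow.reindex {x g : Matrix ι ι F} {k : ℕ} (h : InPow x k g) :
    InPow (x.reindex e e) k (g.reindex e e) := by
  obtain ⟨l, h1, h2, rfl⟩ := h
  refine ⟨l.map (Matrix.reindexAlgEquiv F F e), by simpa using h1, fun y hy => ?_, ?_⟩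
  · obtain ⟨z, hz, rfl⟩ := List.mem_map.1 hy
    simpa using (h2 z hz).reindex e
  · rw [← map_list_prod]; rfl

end Reindex

end CfsgLib.PSLCover
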