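import Cfsg.Agent.Lib.PSLCover.Pair

/-!
Two conjugates of a companion matrix with a prescribed triangular product (Hessenberg bijection).
-/

set_option autoImplicit false
set_option linter.unusedSectionVars false

namespace CfsgLib.PSLCover

open Matrix Polynomial

variable {F : Type*} [Field F]

/-- The companion matrix with last column `a`. -/
def comp {n : ℕ} (a : Fin (n + 1) → F) : Matrix (Fin (n + 1)) (Fin (n + 1)) F :=
  Matrix.of fun i j => if j = Fin.last n then a i else if i.val = j.val + 1 then 1 else 0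

theorem comp_last {n : ℕ} (a : Fin (n + 1) → F) (i : Fin (n + 1)) : comp a i (Fin.last n) = a i := by
  simp [comp]

theorem comp_lt {n : ℕ} (a : Fin (n + 1) → F) {i j : Fin (n + 1)} (hj : j ≠ Fin.last n) :
    comp a i j = if i.val = j.val + 1 then 1 else 0 := by
  simp [comp, hj]

theorem trace_comp {n : ℕ} (a : Fin (n + 1) → F) : (comp a).trace = a (Fin.last n) := by
  rw [Matrix.trace, Finset.sum_eq_single (Fin.last n)]
  · simp [Matrix.diag, comp_last]
  · intro j _ hj
    simp [Matrix.diag, comp_lt a hj]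
  · simp

theorem updateCol_mulVec' {n : ℕ} (M : Matrix (Fin n) (Fin n) F) (j : Fin n) (L v : Fin n → F) :
    M.updateCol j L *ᵥ v = M *ᵥ v + v j • (L - M.col j) := by
  have h : M.updateCol j L = M + vecMulVec (L - M.col j) (Pi.single j 1) := by
    ext i k
    by_cases hk : k = j
    · subst hk; simp [vecMulVec]
    · simp [vecMulVec, Matrix.updateCol_ne hk, Pi.single_eq_of_ne hk]
  rw [h, Matrix.add_mulVec, Matrix.vecMulVec_mulVec]
  simp [single_dotProduct]

/-- With the first columns unreduced Hessenberg, the last column reaches every companion class. -/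
theorem exists_last_col {n : ℕ} (M0 : Matrix (Fin (n + 1)) (Fin (n + 1)) F)
    (hz : ∀ i j : Fin (n + 1), j ≠ Fin.last n → j.val + 1 < i.val → M0 i j = 0)
    (hs : ∀ i j : Fin (n + 1), j ≠ Fin.last n → i.val = j.val + 1 → M0 i j ≠ 0) (a : Fin (n + 1) → F) :
    ∃ L, GLSim (comp a) (M0.updateCol (Fin.last n) L) := by
  let p : ℕ → Fin (n + 1) → F := fun k => (M0 ^ k) *ᵥ Pi.single 0 1
  have hp : ∀ k, p (k + 1) = M0 *ᵥ p k := fun k => by
    simp only [p, pow_succ', Matrix.mulVec_mulVec]
  have hsup : ∀ k, (hk : k < n + 1) →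
      (∀ i : Fin (n + 1), k < i.val → p k i = 0) ∧ p k ⟨k, hk⟩ ≠ 0 := by
    intro k
    induction k with
    | zero =>
      intro hk
      refine ⟨fun i hi => ?_, by simp [p]⟩
      have : i ≠ 0 := fun h => by simp [h] at hi
      simp [p, this]
    | succ k ih =>
      intro hk
      obtain ⟨h0, h1⟩ := ih (by omega)
      have hne : ∀ j : Fin (n + 1), j.val ≤ k → j ≠ Fin.last n := fun j hj h => by
        rw [h, Fin.val_last] at hj; omega
      refine ⟨fun i hi => ?_, ?_⟩
      · rw [hp, Matrix.mulVec, dotProduct]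
        refine Finset.sum_eq_zero fun j _ => ?_
        rcases lt_or_ge k j.val with hj | hj
        · rw [h0 j hj, mul_zero]
        · rw [hz i j (hne j hj) (by omega), zero_mul]
      · rw [hp, Matrix.mulVec, dotProduct, Finset.sum_eq_single ⟨k, by omega⟩]
        · exact mul_ne_zero (hs _ _ (hne _ le_rfl) rfl) h1
        · intro j _ hj
          rcases lt_or_ge k j.val with hj' | hj'
          · rw [h0 j hj', mul_zero]
          · have hjk : j.val ≠ k := fun e => hj (Fin.ext e)
            rw [hz ⟨k + 1, hk⟩ j (hne j hj') (by simp only; omega), zero_mul]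
        · simp
  let P : Matrix (Fin (n + 1)) (Fin (n + 1)) F := Matrix.of fun i j => p j.val i
  have hπ : p n (Fin.last n) ≠ 0 := (hsup n (by omega)).2
  have hP : P.det ≠ 0 := by
    have htriP : P.BlockTriangular id := fun i j hij => (hsup j.val j.isLt).1 i hij
    rw [Matrix.det_of_isUpperTriangular htriP]
    exact Finset.prod_ne_zero_iff.2 fun i _ => (hsup i.val i.isLt).2
  refine ⟨M0.col (Fin.last n) + (p n (Fin.last n))⁻¹ • (P *ᵥ a - M0 *ᵥ p n), P, hP, ?_⟩
  ext i j
  rw [Matrix.mul_apply, Matrix.mul_apply]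
  show _ = (M0.updateCol (Fin.last n) _ *ᵥ p j.val) i
  rw [updateCol_mulVec']
  by_cases hj : j = Fin.last n
  · subst hj
    simp only [comp_last, Fin.val_last]
    rw [add_sub_cancel_left, smul_smul, mul_inv_cancel₀ hπ, one_smul]
    simp [P, Matrix.mulVec, dotProduct]
  · have hlt : j.val < n := lt_of_le_of_ne (Nat.lt_succ_iff.1 j.isLt) fun e => hj (Fin.ext (by simpa using e))
    rw [(hsup j.val j.isLt).1 (Fin.last n) (by simpa using hlt), zero_smul, add_zero, ← hp,
      Finset.sum_eq_single (⟨j.val + 1, by omega⟩ : Fin (n + 1))]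
    · simp [comp_lt a hj, P]
    · intro k _ hk
      have : k.val ≠ j.val + 1 := fun e => hk (Fin.ext e)
      simp [comp_lt a hj, this]
    · simp

/-- The reversed companion. -/
def revComp {n : ℕ} (a : Fin (n + 1) → F) : Matrix (Fin (n + 1)) (Fin (n + 1)) F :=
  (comp a).submatrix Fin.revPerm Fin.revPerm

theorem glSim_revComp {n : ℕ} (a : Fin (n + 1) → F) : GLSim (comp a) (revComp a) := by
  refine ⟨(1 : Matrix (Fin (n + 1)) (Fin (n + 1)) F).submatrix Fin.revPerm id, ?_, ?_⟩
  · rw [Matrix.det_permute, Matrix.det_one, mul_one]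
    rcases Int.units_eq_one_or (Equiv.Perm.sign (Fin.revPerm : Equiv.Perm (Fin (n + 1)))) with h | h <;>
      simp [h]
  · ext i j
    simp only [Matrix.mul_apply, revComp, Matrix.submatrix_apply, Matrix.one_apply, id_eq]
    rw [Finset.sum_eq_single (Fin.revPerm i), Finset.sum_eq_single (Fin.revPerm j)]
    · simp [Fin.revPerm_apply]
    · intro k _ hk
      rw [if_neg (fun e => hk (by rw [← e]; simp [Fin.revPerm_apply])), mul_zero]
    · simp
    · intro k _ hk
      rw [if_neg (fun e => hk e.symm), zero_mul]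
    · simp

theorem revComp_inv_col {n : ℕ} (a : Fin (n + 1) → F) (ha : (comp a).det ≠ 0) (i j : Fin (n + 1))
    (hj : j ≠ Fin.last n) : (revComp a)⁻¹ i j = if i.val = j.val + 1 then 1 else 0 := by
  have hYu : IsUnit (revComp a).det := isUnit_iff_ne_zero.2 ((glSim_revComp a).det_eq ▸ ha)
  have hHY : (revComp a)⁻¹ * revComp a = 1 := Matrix.nonsing_inv_mul _ hYu
  set Y := revComp a with hY
  set H := Y⁻¹ with hH
  have hlt : j.val < n := lt_of_le_of_ne (Nat.lt_succ_iff.1 j.isLt) fun e => hj (Fin.ext (by simpa using e))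
  have hcol : Y *ᵥ Pi.single (⟨j.val + 1, by omega⟩ : Fin (n + 1)) 1 = Pi.single j 1 := by
    ext k
    rw [Matrix.mulVec_single_one]
    simp only [hY, revComp, Matrix.col_apply, Matrix.submatrix_apply, Fin.revPerm_apply]
    have hne : Fin.rev (⟨j.val + 1, by omega⟩ : Fin (n + 1)) ≠ Fin.last n := fun e => by
      have := congrArg Fin.val e
      simp [Fin.val_rev] at this
      omega
    rw [comp_lt a hne, Pi.single_apply]
    simp only [Fin.val_rev, Fin.ext_iff]
    have := k.isLt
    split_ifs <;> first | rfl | omega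
  have := congrArg (fun v => H *ᵥ v) hcol
  simp only [Matrix.mulVec_mulVec, hHY, Matrix.one_mulVec] at this
  have := congrFun this i
  rw [Matrix.mulVec_single_one, Matrix.col_apply] at this
  rw [← this, Pi.single_apply]
  simp only [Fin.ext_iff]

/-- The data of a pair inside a companion class: the product `T` is triangular, `y * M = T`. -/
theorem exists_hess_pair {n : ℕ} (a : Fin (n + 1) → F) (ha : (comp a).det ≠ 0)
    (T0 : Matrix (Fin (n + 1)) (Fin (n + 1)) F)
    (hT0 : ∀ i j, j < i → T0 i j = 0) (hd : ∀ i, T0 i i ≠ 0)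
    (hprod : ∏ i, T0 i i = (comp a).det ^ 2) :
    ∃ y M T : Matrix (Fin (n + 1)) (Fin (n + 1)) F,
      GLSim (comp a) y ∧ GLSim (comp a) M ∧ y * M = T ∧
      (∀ i j, j < i → T i j = 0) ∧ (∀ i, T i i = T0 i i) ∧
      (∀ i j, j ≠ Fin.last n → T i j = T0 i j) ∧
      y = revComp a ∧
      a (Fin.last n) =
        ((∑ i : Fin n, if h : i.val + 1 < n then T0 i.castSucc ⟨i.val + 1, by omega⟩ else 0) +
          (∑ k, (revComp a)⁻¹ (Fin.last n) k * T k (Fin.last n))) := by
  set Y := revComp a with hY
  have hYdet : Y.det = (comp a).det := (glSim_revComp a).det_eq.symm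
  have hYu : IsUnit Y.det := isUnit_iff_ne_zero.2 (hYdet ▸ ha)
  set H := Y⁻¹ with hH
  have hYH : Y * H = 1 := Matrix.mul_nonsing_inv Y hYu
  have hHY : H * Y = 1 := Matrix.nonsing_inv_mul Y hYu
  have hHcol : ∀ i j : Fin (n + 1), j ≠ Fin.last n → H i j = if i.val = j.val + 1 then 1 else 0 :=
    fun i j hj => revComp_inv_col a ha i j hj
  have hmulT : ∀ i j : Fin (n + 1), j ≠ Fin.last n → (H * T0) i j =
      ∑ k, if i.val = k.val + 1 then T0 k j else 0 := by
    intro i j hj
    rw [Matrix.mul_apply]
    refine Finset.sum_congr rfl fun k _ => ?_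
    rcases lt_or_ge j k with h | h
    · simp [hT0 k j h]
    · rw [hHcol i k (fun e => hj (le_antisymm (Fin.le_last j) (e ▸ h)))]
      split_ifs <;> simp
  have hz : ∀ i j : Fin (n + 1), j ≠ Fin.last n → j.val + 1 < i.val → (H * T0) i j = 0 := by
    intro i j hj hij
    rw [hmulT i j hj]
    refine Finset.sum_eq_zero fun k _ => ?_
    split_ifs with h
    · exact hT0 k j (Fin.lt_def.2 (by omega))
    · rfl
  have hs : ∀ i j : Fin (n + 1), j ≠ Fin.last n → i.val = j.val + 1 → (H * T0) i j ≠ 0 := by
    intro i j hj hij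
    rw [hmulT i j hj, Finset.sum_eq_single j]
    · simp [hij, hd j]
    · intro k _ hk
      have : k.val ≠ j.val := fun e => hk (Fin.ext e)
      rw [if_neg (by omega)]
    · simp
  obtain ⟨L, hL⟩ := exists_last_col (H * T0) hz hs a
  set M := (H * T0).updateCol (Fin.last n) L with hM
  set T := Y * M with hT
  have hTcol : ∀ i j, j ≠ Fin.last n → T i j = T0 i j := by
    intro i j hj
    have : T i j = (Y * (H * T0)) i j := by
      simp only [hT, Matrix.mul_apply (M := Y)]
      refine Finset.sum_congr rfl fun k _ => ?_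
      rw [hM, Matrix.updateCol_ne hj]
    rw [this, ← Matrix.mul_assoc, hYH, Matrix.one_mul]
  have htri : ∀ i j, j < i → T i j = 0 := fun i j hij => by
    rw [hTcol i j (fun e => absurd (Fin.le_last i) (not_le.2 (e ▸ hij)))]
    exact hT0 i j hij
  have hdiag : ∀ i, T i i = T0 i i := by
    intro i
    by_cases hi : i = Fin.last n
    · subst hi
      have h1 : T.det = (comp a).det ^ 2 := by
        rw [hT, det_mul, hYdet, ← hL.det_eq, sq]
      rw [Matrix.det_of_isUpperTriangular htri, ← hprod, Fin.prod_univ_castSucc, Fin.prod_univ_castSucc,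
        Finset.prod_congr rfl (fun k _ => hTcol k.castSucc k.castSucc (Fin.castSucc_lt_last k).ne)] at h1
      exact mul_left_cancel₀ (Finset.prod_ne_zero_iff.2 fun k _ => hd _) h1
    · exact hTcol i i hi
  refine ⟨Y, M, T, glSim_revComp a, hL, rfl, htri, hdiag, hTcol, rfl, ?_⟩
  have hHT : H * T = M := by rw [hT, ← Matrix.mul_assoc, hHY, Matrix.one_mul]
  have htr := trace_eq_of_glSim hL
  rw [trace_comp, Matrix.trace, Fin.sum_univ_castSucc] at htr
  rw [htr]
  simp only [Matrix.diag_apply]
  congr 1
  · -- the diagonal of the first columns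
    have hstep : ∀ i : Fin n, M i.castSucc i.castSucc =
        ∑ k : Fin (n + 1), if i.val = k.val + 1 then T0 k i.castSucc else 0 := fun i => by
      rw [hM, Matrix.updateCol_ne (Fin.castSucc_lt_last i).ne, hmulT _ _ (Fin.castSucc_lt_last i).ne]
      simp
    simp only [hstep]
    rw [Finset.sum_comm, Fin.sum_univ_castSucc]
    have hlast : (∑ i : Fin n, if i.val = (Fin.last n).val + 1 then T0 (Fin.last n) i.castSucc else 0) = 0 :=
      Finset.sum_eq_zero fun i _ => by
        rw [if_neg]; simp only [Fin.val_last]; omega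
    rw [hlast, add_zero]
    refine Finset.sum_congr rfl fun k _ => ?_
    split_ifs with h
    · rw [Finset.sum_eq_single (⟨k.val + 1, h⟩ : Fin n)]
      · simp
      · intro i _ hi
        rw [if_neg]
        intro e
        exact hi (Fin.ext (by simpa using e))
      · simp
    · exact Finset.sum_eq_zero fun i _ => if_neg fun e => h (by
        simp only [Fin.val_castSucc] at e; have := i.isLt; omega)
  · rw [← hHT, Matrix.mul_apply]

end CfsgLib.PSLCover
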