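import Cfsg.Agent.Lib.PSLCover.Block

/-!
Split cyclic pairs in companion classes: spectrum `b, s, …, s` (size at least three) or `b ≠ c` (size two).
-/

set_option autoImplicit false
set_option linter.unusedSectionVars false

namespace CfsgLib.PSLCover

open Matrix Polynomial

variable {F : Type*} [Field F]

theorem exists_ne_pair [Fintype F] (hq : 3 ≤ Fintype.card F) (c : F) : ∃ u : F, u ≠ 0 ∧ u ≠ c := by
  classical
  by_contra h
  push Not at h
  have h2 : (Finset.univ : Finset F) ⊆ {0, c} := fun u _ => by
    by_cases hu : u = 0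
    · simp [hu]
    · simp [h u hu]
  have h3 := (Finset.card_le_card h2).trans (Finset.card_le_two)
  rw [Finset.card_univ] at h3
  omega

theorem charpoly_upper {n : ℕ} (T : Matrix (Fin n) (Fin n) F) (h : ∀ i j, j < i → T i j = 0) :
    T.charpoly = rootsPoly ((Finset.univ : Finset (Fin n)).val.map fun i => T i i) := by
  have ht : T.IsUpperTriangular := fun i j hij => h i j hij
  rw [Matrix.charpoly_of_isUpperTriangular T ht, rootsPoly, Multiset.map_map]
  rfl

theorem splitCyclic_of_first {ι : Type*} [Fintype ι] [DecidableEq ι] {T : Matrix ι ι F} (S : Multiset F)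
    (hS : T.charpoly = rootsPoly S) (i0 : ι)
    (h : ∀ (c : F) (v : ι → F), T *ᵥ v = c • v → v i0 = 0 → v = 0) : SplitCyclic T := by
  refine ⟨⟨S, hS⟩, fun c u v hu hv hu0 => ⟨v i0 / u i0, ?_⟩⟩
  have h0 : u i0 ≠ 0 := fun e => hu0 (h c u hu e)
  refine sub_eq_zero.1 (h c _ ?_ ?_)
  · rw [Matrix.mulVec_sub, Matrix.mulVec_smul, hu, hv, smul_sub, smul_comm]
  · simp [div_mul_cancel₀ _ h0]

/-- Size at least three: spectrum `b, s, …, s`, no common eigenvector, left ones avoid the product `s`. -/
theorem exists_block_pair [Fintype F] (hq : 3 ≤ Fintype.card F) {m : ℕ} (a : Fin (m + 3) → F)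
    (ha : (comp a).det ≠ 0) {s : F} (hs : s ≠ 0) :
    ∃ y1 y2, GLSim (comp a) y1 ∧ GLSim (comp a) y2 ∧
      IsPair y1 y2 ((comp a).det ^ 2 / s ^ (m + 2) ::ₘ Multiset.replicate (m + 2) s) ∅
        {l | l.1 * l.2 ≠ s} := by
  set b := (comp a).det ^ 2 / s ^ (m + 2) with hb
  set k := (revComp a)⁻¹ (Fin.last (m + 2)) (Fin.last (m + 2)) with hk
  obtain ⟨u, hu, hu'⟩ := exists_ne_pair hq (a (Fin.last (m + 2)) - m - k * s)
  let T0 : Matrix (Fin (m + 3)) (Fin (m + 3)) F := Matrix.of fun i j =>
    if i = j then (if i = 0 then b else s)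
    else if j.val = i.val + 1 then (if i = 0 then u else 1) else 0
  have hT0 : ∀ i j, j < i → T0 i j = 0 := fun i j hij => by
    simp only [T0, Matrix.of_apply]
    rw [if_neg hij.ne', if_neg]
    have := Fin.lt_def.1 hij; omega
  have hdiag0 : ∀ i, T0 i i = if i = 0 then b else s := fun i => by simp [T0]
  have hb0 : b ≠ 0 := div_ne_zero (pow_ne_zero _ ha) (pow_ne_zero _ hs)
  have hd : ∀ i, T0 i i ≠ 0 := fun i => by rw [hdiag0]; split_ifs <;> assumption
  have hprod : ∏ i, T0 i i = (comp a).det ^ 2 := by
    rw [Fin.prod_univ_succ]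
    simp only [hdiag0, if_true, Fin.succ_ne_zero, if_false, Finset.prod_const, Finset.card_univ,
      Fintype.card_fin, hb]
    rw [div_mul_cancel₀ _ (pow_ne_zero _ hs)]
  obtain ⟨y, M, T, hy, hM, hyM, htri, hdiag, hcol, hyrev, htr⟩ := exists_hess_pair a ha T0 hT0 hd hprod
  have hT : y * M = T := hyM
  -- the entry next to the corner is nonzero
  set t := T (Fin.last (m + 1)).castSucc (Fin.last (m + 2)) with ht
  have hlastd : T (Fin.last (m + 2)) (Fin.last (m + 2)) = s := by
    rw [hdiag, hdiag0, if_neg]; simp [Fin.ext_iff]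
  have hsum2 : (∑ j, (revComp a)⁻¹ (Fin.last (m + 2)) j * T j (Fin.last (m + 2))) = t + k * s := by
    rw [Fin.sum_univ_castSucc, hlastd, Fin.sum_univ_castSucc, Finset.sum_eq_zero (fun j _ => ?_)]
    · rw [revComp_inv_col a ha _ _ (Fin.castSucc_lt_last _).ne, if_pos (by simp)]
      simp [ht, hk]
    · rw [revComp_inv_col a ha _ _ (Fin.castSucc_lt_last _).ne, if_neg, zero_mul]
      simp only [Fin.val_last, Fin.val_castSucc]
      have := j.isLt; omega
  have hsum1 : (∑ i : Fin (m + 2), if h : i.val + 1 < m + 2 then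
      T0 i.castSucc ⟨i.val + 1, by omega⟩ else 0) = u + m := by
    rw [Fin.sum_univ_succ, Fin.sum_univ_castSucc]
    have h1 : ∀ i : Fin m, (if h : (i.castSucc.succ : Fin (m + 2)).val + 1 < m + 2 then
        T0 (i.castSucc.succ).castSucc ⟨(i.castSucc.succ : Fin (m + 2)).val + 1, by omega⟩ else 0) = 1 :=
      fun i => by
        rw [dif_pos (by simp)]
        show (if _ then _ else if _ then _ else _) = (1 : F)
        rw [if_neg (fun e => by simpa using congrArg Fin.val e), if_pos (by simp),
          if_neg (fun e => by simpa using congrArg Fin.val e)]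
    simp only [h1, Finset.sum_const, Finset.card_univ, Fintype.card_fin, nsmul_eq_mul, mul_one]
    rw [dif_pos (by simp), dif_neg (by simp), add_zero]
    congr 1
  have htne : t ≠ 0 := fun e => hu' (by rw [htr, hsum1, hsum2, e]; ring)
  -- eigenvectors of the product
  have hrowlast : ∀ v : Fin (m + 3) → F, ∀ i : Fin (m + 3), i ≠ 0 → v (Fin.last (m + 2)) = 0 →
      (T *ᵥ v) i = s * v i + (if h : i.val + 1 < m + 2 then v ⟨i.val + 1, by omega⟩ else 0) := by
    intro v i hi hv
    rw [Matrix.mulVec, dotProduct]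
    have hterm : ∀ j, T i j * v j =
        (if j = i then s * v i else 0) + (if j.val = i.val + 1 ∧ j.val < m + 2 then v j else 0) := by
      intro j
      by_cases hj : j = Fin.last (m + 2)
      · subst hj
        rw [hv, mul_zero, if_neg (show ¬((Fin.last (m + 2)).val = i.val + 1 ∧ (Fin.last (m + 2)).val < m + 2) by simp)]
        by_cases hj2 : Fin.last (m + 2) = i
        · subst hj2; simp [hv]
        · simp [hj2]
      · rw [hcol i j hj]
        have hjlt : j.val < m + 2 := lt_of_le_of_ne (Nat.lt_succ_iff.1 j.isLt) fun e => hj (Fin.ext (by simpa using e))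
        simp only [T0, Matrix.of_apply, hi, if_false]
        rcases eq_or_ne i j with rfl | hij
        · simp
        · simp [hij, hij.symm, hjlt]
    simp only [hterm, Finset.sum_add_distrib, Finset.sum_ite_eq', Finset.mem_univ, if_true]
    congr 1
    split_ifs with h
    · rw [Finset.sum_eq_single (⟨i.val + 1, by omega⟩ : Fin (m + 3))]
      · simp [h]
      · intro j _ hj
        rw [if_neg]; exact fun e => hj (Fin.ext e.1)
      · simp
    · exact Finset.sum_eq_zero fun j _ => if_neg fun e => h (by omega)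
  have hkey : ∀ (c : F) (v : Fin (m + 3) → F), T *ᵥ v = c • v →
      v (Fin.last (m + 2)) = 0 ∧ (v 0 = 0 → v = 0) := by
    intro c v hv
    have hlast : v (Fin.last (m + 2)) = 0 := by
      have e1 := congrFun hv (Fin.last (m + 2))
      rw [Matrix.mulVec, dotProduct, Finset.sum_eq_single (Fin.last (m + 2))
        (fun j _ hj => by rw [htri _ _ (lt_of_le_of_ne (Fin.le_last j) hj), zero_mul]) (by simp),
        hlastd, Pi.smul_apply, smul_eq_mul] at e1
      rcases eq_or_ne c s with rfl | hc
      · have e2 := congrFun hv (Fin.last (m + 1)).castSucc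
        rw [Matrix.mulVec, dotProduct, Fintype.sum_eq_add (Fin.last (m + 1)).castSucc (Fin.last (m + 2))
          (Fin.castSucc_lt_last _).ne, hdiag, hdiag0, if_neg (by simp [Fin.ext_iff]), Pi.smul_apply,
          smul_eq_mul, add_eq_left, ← ht] at e2
        · exact (mul_eq_zero.1 e2).resolve_left htne
        · intro j hj
          have hj2 : j < (Fin.last (m + 1)).castSucc := by
            rcases lt_trichotomy j (Fin.last (m + 1)).castSucc with h | h | h
            · exact h
            · exact absurd h hj.1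
            · refine absurd (Fin.ext ?_) hj.2
              have h' := Fin.lt_def.1 h
              have := j.isLt
              simp only [Fin.val_castSucc, Fin.val_last] at h' ⊢
              omega
          rw [htri _ _ hj2, zero_mul]
      · exact (mul_eq_zero.1 (show (s - c) * v (Fin.last (m + 2)) = 0 by linear_combination e1)).resolve_left
          (sub_ne_zero.2 hc.symm)
    refine ⟨hlast, fun h0 => ?_⟩
    have h1 : v 1 = 0 := by
      have e := congrFun hv 0
      rw [Matrix.mulVec, dotProduct, Finset.sum_eq_single (1 : Fin (m + 3)), Pi.smul_apply, h0, smul_zero,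
        hcol 0 1 (by simp [Fin.ext_iff])] at e
      · simpa [T0, hu] using e
      · intro j _ hj
        rcases eq_or_ne j 0 with rfl | hj0
        · rw [h0, mul_zero]
        · by_cases hjl : j = Fin.last (m + 2)
          · rw [hjl, hlast, mul_zero]
          · have : j.val ≠ 1 := fun e1 => hj (Fin.ext (by simpa using e1))
            have : j.val ≠ 0 := fun e0 => hj0 (Fin.ext e0)
            rw [hcol 0 j hjl]
            show (if _ then _ else if _ then _ else _) * v j = 0
            rw [if_neg (fun e => hj0 e.symm), if_neg (by simp only [Fin.val_zero]; omega), zero_mul]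
      · simp
    have hall : ∀ i : ℕ, ∀ hi : i + 1 < m + 3, v ⟨i + 1, hi⟩ = 0 := by
      intro i
      induction i with
      | zero => intro hi; exact h1
      | succ i ih =>
        intro hi
        by_cases hl : i + 2 < m + 2
        · have e := congrFun hv ⟨i + 1, by omega⟩
          rw [hrowlast v _ (by simp [Fin.ext_iff]) hlast, dif_pos hl, Pi.smul_apply, ih] at e
          simpa using e
        · rw [show (⟨i + 1 + 1, hi⟩ : Fin (m + 3)) = Fin.last (m + 2) from Fin.ext (by simp; omega)]
          exact hlast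
    funext i
    rcases Nat.eq_zero_or_pos i.val with h | h
    · rw [show i = 0 from Fin.ext h]; simpa using h0
    · have := hall (i.val - 1) (by omega)
      rw [Pi.zero_apply, ← this]
      congr 1
      exact Fin.ext (by simp; omega)
  have hpoly : (y * M).charpoly = rootsPoly (b ::ₘ Multiset.replicate (m + 2) s) := by
    rw [hT, charpoly_upper T htri]
    congr 1
    simp only [hdiag, hdiag0, Fin.univ_succ, Finset.cons_val, Multiset.map_cons, if_true, Finset.map_val,
      Multiset.map_map, Function.comp_def, Function.Embedding.coeFn_mk, Fin.succ_ne_zero, if_false]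
    simp
  refine ⟨y, M, hy, hM, ⟨splitCyclic_of_first _ hpoly 0 fun c v hv h0 => (hkey c v (hT ▸ hv)).2 h0, hpoly,
    ?_, ?_⟩⟩
  · rintro l ⟨v, hv0, e1, e2⟩
    have hTv : T *ᵥ v = (l.1 * l.2) • v := hT ▸ CommonR.mul e1 e2
    obtain ⟨hlast, himp⟩ := hkey _ v hTv
    refine (hv0 (himp ?_)).elim
    have hyu : IsUnit (revComp a).det := isUnit_iff_ne_zero.2 ((glSim_revComp a).det_eq ▸ ha)
    have h2 : v = l.1 • ((revComp a)⁻¹ *ᵥ v) := by
      conv_lhs => rw [← Matrix.one_mulVec v, ← Matrix.nonsing_inv_mul _ hyu, ← Matrix.mulVec_mulVec,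
        ← hyrev, e1, hyrev, Matrix.mulVec_smul]
    have hH0 : ((revComp a)⁻¹ *ᵥ v) 0 = 0 := by
      rw [Matrix.mulVec, dotProduct]
      refine Finset.sum_eq_zero fun j _ => ?_
      by_cases hj : j = Fin.last (m + 2)
      · rw [hj, hlast, mul_zero]
      · rw [revComp_inv_col a ha _ _ hj, if_neg (by simp), zero_mul]
    rw [h2, Pi.smul_apply, hH0, smul_zero]
  · rintro l ⟨w, hw0, e1, e2⟩ heq
    have hTw : w ᵥ* T = (l.1 * l.2) • w := hT ▸ CommonL.mul e1 e2
    have h00 : w 0 = 0 := by
      have e := congrFun hTw 1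
      rw [Matrix.vecMul, dotProduct, Fintype.sum_eq_add (0 : Fin (m + 3)) 1 (by simp)] at e
      · rw [hcol 0 1 (by simp [Fin.ext_iff]), hcol 1 1 (by simp [Fin.ext_iff]), hdiag0] at e
        simp [T0, heq] at e
        have h' : w 0 * u = 0 := by linear_combination e
        exact (mul_eq_zero.1 h').resolve_right hu
      · intro j hj
        have : (1 : Fin (m + 3)) < j := by
          have h0 : j.val ≠ 0 := fun e0 => hj.1 (Fin.ext e0)
          have h1 : j.val ≠ 1 := fun e1 => hj.2 (Fin.ext (by simpa using e1))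
          exact Fin.lt_def.2 (by simp; omega)
        rw [htri _ _ this, mul_zero]
    have hl : l.1 ≠ 0 := fun h => hw0 (by
      rw [h, zero_smul] at e1
      exact Matrix.eq_zero_of_vecMul_eq_zero (by rw [hyrev, ← (glSim_revComp a).det_eq]; exact ha) e1)
    have hall : ∀ i : ℕ, ∀ hi : i < m + 3, w ⟨i, hi⟩ = 0 := by
      intro i
      induction i with
      | zero => intro _; exact h00
      | succ i ih =>
        intro hi
        have e := congrFun e1 ⟨i + 1, hi⟩
        rw [hyrev, Matrix.vecMul, dotProduct, Finset.sum_eq_single (⟨i, by omega⟩ : Fin (m + 3))] at e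
        · rw [ih, zero_mul, Pi.smul_apply, smul_eq_mul] at e
          exact (mul_eq_zero.1 e.symm).resolve_left hl
        · intro j _ hj
          have hne : Fin.rev (⟨i + 1, hi⟩ : Fin (m + 3)) ≠ Fin.last (m + 2) := fun e' => by
            have := congrArg Fin.val e'
            simp [Fin.val_rev] at this
            omega
          simp only [revComp, Matrix.submatrix_apply, Fin.revPerm_apply]
          rw [comp_lt a hne, if_neg, mul_zero]
          have h' : j.val ≠ i := fun e' => hj (Fin.ext e')
          simp only [Fin.val_rev]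
          omega
        · simp
    exact hw0 (funext fun i => hall i.val i.isLt)

/-- Size two: spectrum `b ≠ c`. -/
theorem exists_block_pair_two (a : Fin 2 → F) (ha : (comp a).det ≠ 0) {b c : F} (hbc : b ≠ c)
    (hdet : b * c = (comp a).det ^ 2) :
    ∃ y1 y2, GLSim (comp a) y1 ∧ GLSim (comp a) y2 ∧ SplitCyclic (y1 * y2) ∧
      (y1 * y2).charpoly = rootsPoly (b ::ₘ {c}) := by
  let T0 : Matrix (Fin 2) (Fin 2) F := !![b, 0; 0, c]
  obtain ⟨y, M, T, hy, hM, hyM, htri, hdiag, -, -, -⟩ := exists_hess_pair a ha T0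
    (fun i j hij => by fin_cases i <;> fin_cases j <;> simp [T0] at hij ⊢)
    (fun i => by
      have h0 : b * c ≠ 0 := hdet ▸ pow_ne_zero _ ha
      fin_cases i <;> simp [T0, left_ne_zero_of_mul h0, right_ne_zero_of_mul h0])
    (by simpa [T0, Fin.prod_univ_two] using hdet)
  have hpoly : (y * M).charpoly = rootsPoly (b ::ₘ {c}) := by
    rw [hyM, charpoly_upper T htri]
    congr 1
    simp [hdiag, T0, Fin.univ_succ]
  refine ⟨y, M, hy, hM, ⟨⟨_, hpoly⟩, fun e u v hu hv hu0 => ?_⟩, hpoly⟩
  rw [hyM] at hu hv
  have h00 : T 0 0 = b := by simp [hdiag, T0]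
  have h11 : T 1 1 = c := by simp [hdiag, T0]
  have h10 : T 1 0 = 0 := htri 1 0 (by decide)
  have eu0 := congrFun hu 0
  have eu1 := congrFun hu 1
  have ev0 := congrFun hv 0
  have ev1 := congrFun hv 1
  simp [Matrix.mulVec, dotProduct, Fin.sum_univ_two, h00, h11, h10] at eu0 eu1 ev0 ev1
  rcases eq_or_ne e c with rfl | hec
  · have hu1 : u 1 ≠ 0 := fun h => hu0 (funext fun i => by
      rw [h, mul_zero, add_zero] at eu0
      fin_cases i
      · exact (mul_eq_zero.1 (show (b - e) * u 0 = 0 by linear_combination eu0)).resolve_left (sub_ne_zero.2 hbc)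
      · exact h)
    refine ⟨v 1 / u 1, funext fun i => ?_⟩
    fin_cases i
    · refine mul_left_cancel₀ (sub_ne_zero.2 hbc) (?_ : (b - e) * v 0 = (b - e) * _)
      simp only [Fin.zero_eta, Pi.smul_apply, smul_eq_mul]
      rw [div_mul_eq_mul_div, mul_div_assoc', eq_div_iff hu1]
      linear_combination u 1 * ev0 - v 1 * eu0
    · simp [div_mul_cancel₀ _ hu1]
  · have hu1 : u 1 = 0 := eu1.resolve_left (Ne.symm hec)
    have hv1 : v 1 = 0 := ev1.resolve_left (Ne.symm hec)
    have hu00 : u 0 ≠ 0 := fun h => hu0 (funext fun i => by fin_cases i <;> assumption)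
    exact ⟨v 0 / u 0, funext fun i => by fin_cases i <;> simp [hu1, hv1, div_mul_cancel₀ _ hu00]⟩

end CfsgLib.PSLCover
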