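import Cfsg.Agent.Lib.PSLCover.Four
import Cfsg.Agent.Lib.PSLCover.Reindex

/-!
The steps building pairs along a chain of companion blocks.
-/

set_option autoImplicit false
set_option linter.unusedSectionVars false

namespace CfsgLib.PSLCover

open Matrix Polynomial

variable {F : Type*} [Field F] [Fintype F] {ι κ : Type*} [Fintype ι] [DecidableEq ι] [Fintype κ] [DecidableEq κ]

/-- Two pairs without common eigenvalue pattern. -/
def TwoPairs (x : Matrix ι ι F) : Prop :=
  ∃ (S1 S2 : Multiset F) (R1 R2 : Set (F × F)), (∀ c, (c, c) ∈ R1 → (c, c) ∈ R2 → False) ∧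
    HasPair x S1 R1 Set.univ ∧ HasPair x S2 R2 Set.univ

/-- As `TwoPairs`, with two spectra for the second pair. -/
def Flex (x : Matrix ι ι F) : Prop :=
  ∃ (S1 S2 S2' : Multiset F) (R1 R2 : Set (F × F)), S2 ≠ S2' ∧
    (∀ c, (c, c) ∈ R1 → (c, c) ∈ R2 → False) ∧
    HasPair x S1 R1 Set.univ ∧ HasPair x S2 R2 Set.univ ∧ HasPair x S2' R2 Set.univ

theorem Flex.twoPairs {x : Matrix ι ι F} (h : Flex x) : TwoPairs x := by
  obtain ⟨S1, S2, S2', R1, R2, -, hd, h1, h2, -⟩ := h
  exact ⟨S1, S2, R1, R2, hd, h1, h2⟩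

theorem Flex.of_glSim {x y : Matrix ι ι F} (h : Flex x) (hs : GLSim y x) : Flex y := by
  obtain ⟨S1, S2, S2', R1, R2, hne, hd, h1, h2, h3⟩ := h
  exact ⟨S1, S2, S2', R1, R2, hne, hd, h1.of_glSim hs, h2.of_glSim hs, h3.of_glSim hs⟩

theorem Flex.reindex (e : ι ≃ κ) {x : Matrix ι ι F} (h : Flex x) : Flex (x.reindex e e) := by
  obtain ⟨S1, S2, S2', R1, R2, hne, hd, h1, h2, h3⟩ := h
  exact ⟨S1, S2, S2', R1, R2, hne, hd, h1.reindex e, h2.reindex e, h3.reindex e⟩

theorem Flex.glPowNC {n : ℕ} (hq : 4 ≤ Fintype.card F) {x : Matrix (Fin n) (Fin n) F} (h : Flex x)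
    (hxd : x.det ≠ 0) {g : Matrix (Fin n) (Fin n) F} (hg : Nonscalar g)
    (hgd : g.det = x.det ^ 4) : GLPowNC x 4 g := by
  obtain ⟨S1, S2, S2', R1, R2, hne, hd, h1, h2, h3⟩ := h
  exact glPowNC_four hq hxd h1 h2 h3 hne hd hg hgd

/-- The spectrum of a block of size `k + 1`. -/
noncomputable def blockSpec (P : F) (k : ℕ) (t : F) : Multiset F := P / t ^ k ::ₘ Multiset.replicate k t

theorem blockSpec_ne {P : F} {k : ℕ} (hk : 2 ≤ k) {t t' : F} (h : t ≠ t') :
    blockSpec P k t ≠ blockSpec P k t' := by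
  classical
  intro e
  have := congrArg (Multiset.count t) e
  simp only [blockSpec, Multiset.count_cons, Multiset.count_replicate, if_true, if_neg h, if_neg h.symm] at this
  split_ifs at this <;> omega

theorem hasPair_blockSpec (hq : 3 ≤ Fintype.card F) {d : ℕ} (hd : 3 ≤ d + 1) (a : Fin (d + 1) → F)
    (ha : (comp a).det ≠ 0) {t : F} (ht : t ≠ 0) :
    HasPair (comp a) (blockSpec ((comp a).det ^ 2) d t) ∅ {l | l.1 * l.2 ≠ t} := by
  obtain ⟨m, rfl⟩ : ∃ m, d = m + 2 := ⟨d - 2, by omega⟩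
  exact hasPair_block hq a ha ht

theorem exists_two_units (hq : 4 ≤ Fintype.card F) : ∃ t t' : F, t ≠ 0 ∧ t' ≠ 0 ∧ t ≠ t' := by
  obtain ⟨u, hu, -⟩ := exists_ne_pair (F := F) (by omega) 1
  obtain ⟨w, hw, hwu⟩ := exists_ne_pair (F := F) (by omega) u
  exact ⟨u, w, hu, hw, Ne.symm hwu⟩

/-- A single large block is flexible. -/
theorem flex_comp (hq : 4 ≤ Fintype.card F) {d : ℕ} (hd : 3 ≤ d + 1) (a : Fin (d + 1) → F)
    (ha : (comp a).det ≠ 0) : Flex (comp a) := by
  obtain ⟨t, t', ht, ht', hne⟩ := exists_two_units hq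
  refine ⟨_, _, _, ∅, ∅, blockSpec_ne (P := (comp a).det ^ 2) (by omega : 2 ≤ d) hne, fun c h => h.elim,
    (hasPair_blockSpec (by omega) hd a ha ht).mono subset_rfl (Set.subset_univ _),
    (hasPair_blockSpec (by omega) hd a ha ht).mono subset_rfl (Set.subset_univ _),
    (hasPair_blockSpec (by omega) hd a ha ht').mono subset_rfl (Set.subset_univ _)⟩

/-- A large block below anything with two pairs is flexible. -/
theorem flex_add_block (hq : 4 ≤ Fintype.card F) {x2 : Matrix ι ι F} (h : TwoPairs x2) (hx : x2.det ≠ 0)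
    {d : ℕ} (hd : 3 ≤ d + 1) (a : Fin (d + 1) → F) (ha : (comp a).det ≠ 0) :
    Flex (fromBlocks x2 0 0 (comp a)) := by
  obtain ⟨S1, S2, R1, R2, hdis, h1, h2⟩ := h
  obtain ⟨t, t', ht, ht', hne⟩ := exists_two_units hq
  have hg : ∀ {S : Multiset F} {R : Set (F × F)} {u : F}, u ≠ 0 → HasPair x2 S R Set.univ →
      HasPair (fromBlocks x2 0 0 (comp a)) (S + blockSpec ((comp a).det ^ 2) d u) R Set.univ :=
    fun {S R u} hu hp => (HasPair.glue 0 hx hp (hasPair_blockSpec (by omega) hd a ha hu)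
      (fun l _ h _ _ => h.elim)).mono (by simp) subset_rfl
  exact ⟨_, _, _, R1, R2, fun e => blockSpec_ne (by omega : 2 ≤ d) hne (add_left_cancel e), hdis,
    hg ht h1, hg ht h2, hg ht' h2⟩

/-- A large block with one further eigenvalue is flexible. -/
theorem flex_block_single (hq : 4 ≤ Fintype.card F) {d : ℕ} (hd : 3 ≤ d + 1) (a : Fin (d + 1) → F)
    (ha : (comp a).det ≠ 0) {c : F} (hc : c ≠ 0) :
    Flex (fromBlocks (comp a) 0 0 (c • (1 : Matrix Unit Unit F))) := by
  obtain ⟨t, t', ht, ht', hne⟩ := exists_two_units hq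
  have hcd : (c • (1 : Matrix Unit Unit F)).det ≠ 0 := by simp [hc]
  -- pair with a connection
  have h1 : HasPair (fromBlocks (comp a) 0 0 (c • (1 : Matrix Unit Unit F)))
      (blockSpec ((comp a).det ^ 2) d (c * c) + {c * c}) ∅ Set.univ := by
    refine (HasPair.glue 0 ha (hasPair_blockSpec (by omega) hd a ha (mul_ne_zero hc hc)) (hasPair_single c)
      (fun l hl hr _ _ => ?_)).mono ?_ subset_rfl
    · rw [Set.mem_singleton_iff] at hr
      subst hr
      exact hl rfl
    · rintro l (hl | ⟨hl, hl'⟩)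
      · exact hl
      · rw [Set.mem_singleton_iff] at hl
        subst hl
        exfalso
        refine hl' (Multiset.mem_cons_of_mem (Multiset.mem_replicate.2 ⟨by omega, rfl⟩))
  -- pairs with the single block on top
  have h2 : ∀ {u : F}, u ≠ 0 → HasPair (fromBlocks (comp a) 0 0 (c • (1 : Matrix Unit Unit F)))
      ({c * c} + blockSpec ((comp a).det ^ 2) d u) {(c, c)} Set.univ := by
    intro u hu
    have := (HasPair.glue 0 hcd (hasPair_single c) (hasPair_blockSpec (by omega) hd a ha hu)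
      (fun l _ h _ _ => h.elim)).reindex (Equiv.sumComm Unit (Fin (d + 1)))
    refine (this.of_glSim ?_).mono (by simp) subset_rfl
    rw [show (fromBlocks (c • (1 : Matrix Unit Unit F)) 0 0 (comp a)).reindex (Equiv.sumComm Unit (Fin (d + 1)))
      (Equiv.sumComm Unit (Fin (d + 1))) = fromBlocks (comp a) 0 0 (c • (1 : Matrix Unit Unit F)) by
        ext (i | i) (j | j) <;> simp]
    exact GLSim.refl _
  exact ⟨_, _, _, ∅, _, fun e => blockSpec_ne (by omega : 2 ≤ d) hne (add_left_cancel e),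
    fun _ h _ => h.elim, h1, h2 ht, h2 ht'⟩

end CfsgLib.PSLCover
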