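import Cfsg.Agent.Lib.PSLCover.Peel

/-!
One more factor: from the nonscalar matrices to every matrix of the right determinant.
-/

set_option autoImplicit false
set_option linter.unusedSectionVars false

namespace CfsgLib.PSLCover

open Matrix

variable {F : Type*} [Field F] {ι : Type*} [Fintype ι] [DecidableEq ι]

/-- Some conjugate is not a multiple of a given nonscalar matrix. -/
theorem exists_conj_not_smul [Fintype F] (hn : 3 ≤ Fintype.card ι) {x : Matrix ι ι F} (hx : Nonscalar x) :
    ∃ y, SLSim x y ∧ ∀ c : F, y ≠ c • x := by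
  obtain ⟨u, hu⟩ := hx.exists_noneigen
  have hu0 : u ≠ 0 := fun e => hu 0 (by rw [e, Matrix.mulVec_zero, smul_zero])
  obtain ⟨P, hP, hPu, hPw⟩ := exists_sl_pair hn (indep_pair hu0 hu)
    (indep_pair (w := x *ᵥ u + u) hu0 fun c e => hu (c - 1) (by rw [sub_smul, one_smul, ← e, add_sub_cancel_right]))
  have hPd : P.det ≠ 0 := by rw [hP]; exact one_ne_zero
  refine ⟨conjBy P x, ⟨P, hP, ?_⟩, fun c e => ?_⟩
  · rw [conjBy, Matrix.mul_assoc (P * x), Matrix.nonsing_inv_mul P (isUnit_iff_ne_zero.2 hPd), Matrix.mul_one]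
  · have h := congrArg (fun A => A *ᵥ (P *ᵥ u)) e
    simp only [conjBy, Matrix.mulVec_mulVec, Matrix.mul_assoc, Matrix.smul_mulVec,
      Matrix.nonsing_inv_mul P (isUnit_iff_ne_zero.2 hPd), Matrix.mul_one] at h
    rw [← Matrix.mulVec_mulVec, hPw, ← Matrix.mulVec_mulVec, hPu] at h
    try rw [Matrix.smul_mulVec] at h
    refine hu (-1 / (1 - c)) ?_
    by_cases hc : c = 1
    · rw [hc, one_smul, add_eq_left] at h
      exact absurd h hu0
    · have h2 : (1 - c) • (x *ᵥ u) = -u := by
        rw [sub_smul, one_smul, ← h]; abel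
      rw [div_eq_inv_mul, ← smul_smul, neg_one_smul, ← h2, inv_smul_smul₀ (sub_ne_zero.2 (Ne.symm hc))]

/-- One more factor reaches every matrix of the right determinant. -/
theorem InPow.extend [Fintype F] (hn : 3 ≤ Fintype.card ι) {x : Matrix ι ι F} (hx : Nonscalar x) (hxd : x.det ≠ 0) {k : ℕ}
    (h : ∀ g : Matrix ι ι F, Nonscalar g → g.det = x.det ^ k → InPow x k g)
    {g : Matrix ι ι F} (hgd : g.det = x.det ^ (k + 1)) : InPow x (k + 1) g := by
  obtain ⟨y, hy, hyd, hns⟩ : ∃ y, SLSim x y ∧ y.det ≠ 0 ∧ Nonscalar (g * y⁻¹) := by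
    by_cases hns : Nonscalar (g * x⁻¹)
    · exact ⟨x, SLSim.refl x, hxd, hns⟩
    · simp only [Nonscalar, not_forall, not_not] at hns
      obtain ⟨c, hc⟩ := hns
      obtain ⟨y, hy, hne⟩ := exists_conj_not_smul hn hx
      have hyd : y.det ≠ 0 := by rw [← hy.glSim.det_eq]; exact hxd
      refine ⟨y, hy, hyd, fun e he => ?_⟩
      have hg1 : g = c • x := by
        have := congrArg (· * x) hc
        simpa [Matrix.mul_assoc, Matrix.nonsing_inv_mul x (isUnit_iff_ne_zero.2 hxd)] using this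
      have hg2 : g = e • y := by
        have := congrArg (· * y) he
        simpa [Matrix.mul_assoc, Matrix.nonsing_inv_mul y (isUnit_iff_ne_zero.2 hyd)] using this
      have he0 : e ≠ 0 := fun e' => by
        rw [e', zero_smul] at hg2
        haveI : Nonempty ι := Fintype.card_pos_iff.1 (by omega)
        rw [hg2, Matrix.det_zero] at hgd
        exact pow_ne_zero _ hxd hgd.symm
      exact hne (e⁻¹ * c) (by rw [← smul_smul, ← hg1, hg2, inv_smul_smul₀ he0])
  have h1 := h (g * y⁻¹) hns (by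
    rw [det_mul, Matrix.det_nonsing_inv, Ring.inverse_eq_inv', hgd, ← hy.glSim.det_eq, pow_succ,
      mul_assoc, mul_inv_cancel₀ hxd, mul_one])
  have h2 := h1.append (inPow_one hy)
  rwa [Matrix.nonsing_inv_mul_cancel_right _ _ (isUnit_iff_ne_zero.2 hyd)] at h2

/-- One more factor, keeping the property of no common eigenvector. -/
theorem GLPowNC.extend [Fintype F] (hn : 3 ≤ Fintype.card ι) {x : Matrix ι ι F} (hx : Nonscalar x) (hxd : x.det ≠ 0) {k : ℕ}
    (h : ∀ g : Matrix ι ι F, Nonscalar g → g.det = x.det ^ k → GLPowNC x k g)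
    {g : Matrix ι ι F} (hgd : g.det = x.det ^ (k + 1)) : GLPowNC x (k + 1) g := by
  obtain ⟨y, hy, hyd, hns⟩ : ∃ y, SLSim x y ∧ y.det ≠ 0 ∧ Nonscalar (g * y⁻¹) := by
    by_cases hns : Nonscalar (g * x⁻¹)
    · exact ⟨x, SLSim.refl x, hxd, hns⟩
    · simp only [Nonscalar, not_forall, not_not] at hns
      obtain ⟨c, hc⟩ := hns
      obtain ⟨y, hy, hne⟩ := exists_conj_not_smul hn hx
      have hyd : y.det ≠ 0 := by rw [← hy.glSim.det_eq]; exact hxd
      refine ⟨y, hy, hyd, fun e he => ?_⟩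
      have hg1 : g = c • x := by
        have := congrArg (· * x) hc
        simpa [Matrix.mul_assoc, Matrix.nonsing_inv_mul x (isUnit_iff_ne_zero.2 hxd)] using this
      have hg2 : g = e • y := by
        have := congrArg (· * y) he
        simpa [Matrix.mul_assoc, Matrix.nonsing_inv_mul y (isUnit_iff_ne_zero.2 hyd)] using this
      have he0 : e ≠ 0 := fun e' => by
        rw [e', zero_smul] at hg2
        haveI : Nonempty ι := Fintype.card_pos_iff.1 (by omega)
        rw [hg2, Matrix.det_zero] at hgd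
        exact pow_ne_zero _ hxd hgd.symm
      exact hne (e⁻¹ * c) (by rw [← smul_smul, ← hg1, hg2, inv_smul_smul₀ he0])
  obtain ⟨l, h1, h2, h3, h4⟩ := h (g * y⁻¹) hns (by
    rw [det_mul, Matrix.det_nonsing_inv, Ring.inverse_eq_inv', hgd, ← hy.glSim.det_eq, pow_succ,
      mul_assoc, mul_inv_cancel₀ hxd, mul_one])
  refine ⟨l ++ [y], by simp [h1], fun z hz => ?_, ?_, fun v hv c => ?_⟩
  · rcases List.mem_append.1 hz with hz | hz
    · exact h2 z hz
    · rw [List.mem_singleton] at hz; subst hz; exact hy.glSim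
  · rw [List.prod_append, h3, List.prod_singleton,
      Matrix.nonsing_inv_mul_cancel_right _ _ (isUnit_iff_ne_zero.2 hyd)]
  · obtain ⟨z, hz, hne⟩ := h4 v hv c
    exact ⟨z, List.mem_append_left _ hz, hne⟩

end CfsgLib.PSLCover
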