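import Cfsg.Agent.Lib.PSLCover.LuCount
import Cfsg.Agent.Lib.ClassSquare.Peel

/-!
One step of a triangular factorisation of a matrix with prescribed corner products, such that all
entries next to the diagonal are nonzero and the remaining block is again in general position.
-/

set_option autoImplicit false
set_option linter.unusedSectionVars false

namespace CfsgLib.PSLCover

open Matrix Module CfsgLib.ClassSquare

variable {K : Type*} [Field K]

/-- Rank at most one. -/
def Thin {k : ℕ} (Y : Matrix (Fin k) (Fin k) K) : Prop := ∃ a b : Fin k → K, Y = vecMulVec a b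

/-- Not scalar, and no `a i` is an eigenvalue whose eigenspace has codimension at most one. -/
def Wide {k : ℕ} (X : Matrix (Fin k) (Fin k) K) (a : Fin k → K) : Prop :=
  Nonscalar X ∧ ∀ i, ¬ Thin (X - a i • 1)

theorem Thin.cj {k : ℕ} {Y : Matrix (Fin k) (Fin k) K} (h : Thin Y) (P : GL (Fin k) K) :
    Thin (ClassSquare.cj P Y) := by
  obtain ⟨a, b, rfl⟩ := h
  exact ⟨_, _, by rw [ClassSquare.cj, Matrix.mul_vecMulVec, Matrix.vecMulVec_mul]⟩

theorem Wide.cj {k : ℕ} {X : Matrix (Fin k) (Fin k) K} {a : Fin k → K} (h : Wide X a) (P : GL (Fin k) K) :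
    Wide (ClassSquare.cj P X) a := by
  refine ⟨h.1.cj P, fun i ht => h.2 i ?_⟩
  have := ht.cj P⁻¹
  rwa [cj_sub, cj_inv, cj_smul, cj_one] at this

theorem thin_of_range {k : ℕ} (Y : Matrix (Fin k) (Fin k) K)
    (h : finrank K (LinearMap.range Y.mulVecLin) ≤ 1) : Thin Y := by
  obtain ⟨v, hv⟩ := finrank_le_one_iff.mp h
  choose c hc using fun j : Fin k =>
    hv ⟨Y.mulVecLin (Pi.single j 1), LinearMap.mem_range_self _ _⟩
  refine ⟨(v : Fin k → K), c, ?_⟩
  ext i j
  have := congrFun (congrArg Subtype.val (hc j)) i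
  simp only [Matrix.mulVecLin_apply, Matrix.mulVec_single_one, Matrix.col_apply, SetLike.val_smul,
    Pi.smul_apply, smul_eq_mul] at this
  rw [← this, vecMulVec_apply, mul_comm]

/-- The dot product with a fixed vector. -/
def dotL {k : ℕ} (r : Fin k → K) : (Fin k → K) →ₗ[K] K where
  toFun v := r ⬝ᵥ v
  map_add' := dotProduct_add r
  map_smul' c v := dotProduct_smul c r v

/-- Prepend a zero. -/
def padL (k : ℕ) : (Fin k → K) →ₗ[K] (Fin (k + 1) → K) where
  toFun t := Fin.cons 0 t
  map_add' s t := by funext i; cases i using Fin.cases <;> simp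
  map_smul' c t := by funext i; cases i using Fin.cases <;> simp

@[simp] theorem padL_zero {k : ℕ} (t : Fin k → K) : padL k t 0 = 0 := rfl
@[simp] theorem padL_succ {k : ℕ} (t : Fin k → K) (i : Fin k) : padL k t i.succ = t i := rfl

theorem padL_single {k : ℕ} (i : Fin k) :
    padL k (Pi.single i (1 : K)) = Pi.single i.succ 1 := by
  funext j
  cases j using Fin.cases <;> simp [Pi.single_apply, (Fin.succ_ne_zero _).symm]

section
variable {k : ℕ} (a : K) (n : Fin (k + 1) → K) (D : Matrix (Fin (k + 1)) (Fin (k + 1)) K)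

/-- The family of Schur complements. -/
def fam (t : Fin k → K) : Matrix (Fin (k + 1)) (Fin (k + 1)) K := schur a n (padL k t) D

theorem fam_succ (t : Fin k → K) (i : Fin k) (j) : fam a n D t i.succ j = D i.succ j :=
  schur_succ _ _ _ _ _ _

theorem fam_zero (t : Fin k → K) (j) :
    fam a n D t 0 j = fam a n D 0 0 j + a⁻¹ * (padL k t ᵥ* D) j := by
  simp only [fam, schur_zero, map_zero, zero_vecMul, Pi.zero_apply]
  ring

variable {a n D}

theorem fam_injective (ha : a ≠ 0) (hdet : (fam a n D 0).det ≠ 0) {s t : Fin k → K}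
    (h : ∀ j, fam a n D s 0 j = fam a n D t 0 j) : s = t := by
  have he : padL k (s - t) ᵥ* fam a n D 0 = 0 := by
    funext j
    have hj := h j
    rw [fam_zero, fam_zero a n D t] at hj
    have h2 : (padL k s ᵥ* D) j = (padL k t ᵥ* D) j :=
      mul_left_cancel₀ (inv_ne_zero ha) (add_left_cancel hj)
    simp only [vecMul, dotProduct, Fin.sum_univ_succ, padL_zero, padL_succ, zero_mul, zero_add,
      fam_succ, Pi.sub_apply, sub_mul, Finset.sum_sub_distrib, Pi.zero_apply] at h2 ⊢
    rw [h2, sub_self]
  by_contra hst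
  refine hdet (Matrix.exists_vecMul_eq_zero_iff.mp ⟨_, fun h0 => hst ?_, he⟩)
  funext i
  have := congrFun h0 i.succ
  simpa [sub_eq_zero] using this

variable [Fintype K]

open Classical in
/-- The bad parameters lie on at most a line. -/
theorem card_bad_mul_le (ha : a ≠ 0) (hk : 1 ≤ k) (b : Fin (k + 1) → K)
    (hdet : ∀ t, (fam a n D t).det = ∏ i, b i) (hb : ∀ i, b i ≠ 0)
    (hlow : ∀ m, ¬ ∀ i : Fin k, D i.succ = Pi.single i.succ (b m)) (F : Finset (Fin k → K))
    (hF : ∀ t ∈ F, ¬ Wide (fam a n D t) b) :
    F.card ≤ if k = 1 then 1 else Fintype.card K := by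
  have hd0 : ∀ t, (fam a n D t).det ≠ 0 := fun t => by
    rw [hdet]; exact Finset.prod_ne_zero_iff.mpr fun i _ => hb i
  -- the two kinds of bad parameters
  have hkind : ∀ t ∈ F, (∃ c, fam a n D t = c • 1) ∨ ∃ m, Thin (fam a n D t - b m • 1) := fun t ht => by
    have := hF t ht
    simp only [Wide, Nonscalar, not_and_or, not_forall, not_not] at this
    exact this
  have hsc : ∀ t c, fam a n D t = c • 1 → ∀ i : Fin k, D i.succ = Pi.single i.succ c := fun t c hc i => by
    funext j
    rw [← fam_succ a n D t i j, hc]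
    simp [Matrix.one_apply, Pi.single_apply, eq_comm]
  by_cases hk1 : k = 1
  · subst hk1
    rw [if_pos rfl, Finset.card_le_one]
    have hfam : ∀ t, fam a n D t 0 0 = fam a n D 0 0 0 + a⁻¹ * (t 0 * D 1 0) := fun t => by
      rw [fam_zero]
      simp [vecMul, dotProduct, Fin.sum_univ_two, show padL 1 t 1 = t 0 from padL_succ t 0]
    have h1 : ∀ t j, fam a n D t 1 j = D 1 j := fun t j => fam_succ a n D t 0 j
    by_cases hp : D 1 0 = 0
    · have hd : ∀ m, D 1 1 ≠ b m := fun m e => hlow m fun i => by
        rw [Fin.fin_one_eq_zero i]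
        funext j
        fin_cases j
        · simpa [Pi.single_apply] using hp
        · simpa [Pi.single_apply] using e
      have hs : ∀ t ∈ F, ∀ j, fam a n D t 0 j = if j = 0 then D 1 1 else 0 := by
        intro t ht j
        rcases hkind t ht with ⟨c, hc⟩ | ⟨m, u, v, huv⟩
        · have : c = D 1 1 := by rw [← h1 t 1, hc]; simp
          rw [hc, ← this]
          fin_cases j <;> simp
        · exfalso
          have e : ((fam a n D t) - b m • 1).det = 0 := by
            rw [huv, Matrix.det_fin_two]; simp [vecMulVec]; ring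
          have hd' := hdet t
          rw [Matrix.det_fin_two, Fin.prod_univ_two] at hd'
          rw [Matrix.det_fin_two] at e
          simp [h1, hp] at e hd'
          rcases e with e | e
          · rw [sub_eq_zero] at e
            rw [e] at hd'
            fin_cases m
            · exact hd 1 (mul_left_cancel₀ (hb 0) hd')
            · exact hd 0 (mul_left_cancel₀ (hb 1) (hd'.trans (mul_comm _ _)))
          · exact hd m (sub_eq_zero.mp e)
      intro s hs' t ht
      exact fam_injective ha (hd0 0) fun j => by rw [hs s hs' j, hs t ht j]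
    · have hs : ∀ t ∈ F, fam a n D t 0 0 = b 0 + b 1 - D 1 1 := by
        intro t ht
        rcases hkind t ht with ⟨c, hc⟩ | ⟨m, u, v, huv⟩
        · exact absurd (by rw [← h1 t 0, hc]; simp) hp
        · have e : ((fam a n D t) - b m • 1).det = 0 := by
            rw [huv, Matrix.det_fin_two]; simp [vecMulVec]; ring
          have hd' := hdet t
          rw [Matrix.det_fin_two, Fin.prod_univ_two] at hd'
          rw [Matrix.det_fin_two] at e
          simp [h1] at e hd'
          apply mul_left_cancel₀ (hb m)
          fin_cases m <;> simp only [Fin.zero_eta, Fin.mk_one, Fin.isValue] at e ⊢ <;>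
            linear_combination hd' - e
      intro s hs' t ht
      have e := hs s hs'
      rw [← hs t ht, hfam, hfam t] at e
      have e2 : s 0 = t 0 :=
        mul_right_cancel₀ hp (mul_left_cancel₀ (inv_ne_zero ha) (add_left_cancel e))
      funext i
      rw [Fin.fin_one_eq_zero i, e2]
  rw [if_neg hk1]
  -- at least two lower rows
  have hent : ∀ t m (u v : Fin (k + 1) → K), fam a n D t - b m • 1 = vecMulVec u v →
      ∀ (i : Fin k) (j : Fin (k + 1)), D i.succ j - (if i.succ = j then b m else 0) = u i.succ * v j := by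
    intro t m u v h i j
    have := congrFun (congrFun h i.succ) j
    simpa [fam_succ, Matrix.one_apply, vecMulVec] using this
  have hnz : ∀ t m (u v : Fin (k + 1) → K), fam a n D t - b m • 1 = vecMulVec u v →
      ∃ i : Fin k, u i.succ ≠ 0 := by
    intro t m u v h
    by_contra hc
    push Not at hc
    refine hlow m fun i => funext fun j => ?_
    have := hent t m u v h i j
    rw [hc i, zero_mul, sub_eq_zero] at this
    rw [this, Pi.single_apply]
    exact if_congr eq_comm rfl rfl
  let i0 : Fin k := ⟨0, by omega⟩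
  let i1 : Fin k := ⟨1, by omega⟩
  have h01 : i0.succ ≠ i1.succ := by simp [i0, i1]
  have huniq : ∀ t m t' m', Thin (fam a n D t - b m • 1) → Thin (fam a n D t' - b m' • 1) →
      b m = b m' := by
    rintro t m t' m' ⟨u, v, h⟩ ⟨u', v', h'⟩
    by_contra hne
    by_cases hp : ∀ i : Fin k, D i.succ 0 = 0
    · have key : ∀ t m (u v : Fin (k + 1) → K), fam a n D t - b m • 1 = vecMulVec u v →
          fam a n D 0 0 0 = b m := by
        intro t m u v h
        obtain ⟨i, hi⟩ := hnz t m u v h
        have e := hent t m u v h i 0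
        rw [if_neg (Fin.succ_ne_zero i), sub_zero, hp i] at e
        have hv : v 0 = 0 := (mul_eq_zero.mp e.symm).resolve_left hi
        have e0 := congrFun (congrFun h 0) 0
        simp [vecMulVec, hv, fam_zero a n D t, vecMul, dotProduct, Fin.sum_univ_succ, hp] at e0
        exact sub_eq_zero.mp e0
      exact hne ((key t m u v h).symm.trans (key t' m' u' v' h'))
    · push Not at hp
      obtain ⟨i, hi⟩ := hp
      have e1 := hent t m u v h i 0
      have e1' := hent t' m' u' v' h' i 0
      rw [if_neg (Fin.succ_ne_zero i), sub_zero] at e1 e1'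
      have hv' : v' 0 ≠ 0 := fun z => hi (by rw [e1', z, mul_zero])
      set r := v 0 / v' 0
      have hu : ∀ j : Fin k, u' j.succ = r * u j.succ := fun j => by
        have a1 := hent t m u v h j 0
        have a2 := hent t' m' u' v' h' j 0
        rw [if_neg (Fin.succ_ne_zero j), sub_zero] at a1 a2
        rw [a1] at a2
        simp only [r]; field_simp; linear_combination -a2
      have hz : ∀ (j l : Fin k), u j.succ * (v l.succ - r * v' l.succ) =
          if j = l then b m' - b m else 0 := fun j l => by
        have a1 := hent t m u v h j l.succ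
        have a2 := hent t' m' u' v' h' j l.succ
        rw [hu] at a2
        simp only [Fin.succ_inj] at a1 a2
        split_ifs at a1 a2 ⊢ with hjl <;> linear_combination a2 - a1
      have z00 := hz i0 i0
      have z11 := hz i1 i1
      have z01 := hz i0 i1
      rw [if_pos rfl] at z00 z11
      rw [if_neg (fun e => h01 (congrArg Fin.succ e))] at z01
      have d : b m' - b m ≠ 0 := sub_ne_zero.mpr (Ne.symm hne)
      rcases mul_eq_zero.mp z01 with z | z
      · exact d (by rw [← z00, z, zero_mul])
      · exact d (by rw [← z11, z, mul_zero])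
  by_cases hth : ∃ t ∈ F, ∃ m, Thin (fam a n D t - b m • 1)
  · obtain ⟨t1, ht1, m, u1, v1, h1⟩ := hth
    obtain ⟨i, hi⟩ := hnz t1 m u1 v1 h1
    have hall : ∀ t ∈ F, ∃ l : K, ∀ j, fam a n D t 0 j - (if 0 = j then b m else 0) =
        l * (D i.succ j - (if i.succ = j then b m else 0)) := by
      intro t ht
      rcases hkind t ht with ⟨c, hc⟩ | ⟨m', hm'⟩
      · exfalso
        have hc' := hsc t c hc
        have hcm : c ≠ b m := fun e => hlow m (e ▸ hc')
        have z00 := hent t1 m u1 v1 h1 i0 i0.succ
        have z11 := hent t1 m u1 v1 h1 i1 i1.succ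
        have z01 := hent t1 m u1 v1 h1 i0 i1.succ
        simp only [hc', Pi.single_eq_same, if_true, Pi.single_eq_of_ne h01.symm, if_neg h01, sub_zero] at z00 z11 z01
        rcases mul_eq_zero.mp z01.symm with z | z
        · exact sub_ne_zero.mpr hcm (by rw [z00, z, zero_mul])
        · exact sub_ne_zero.mpr hcm (by rw [z11, z, mul_zero])
      · have hm := huniq t1 m t m' ⟨u1, v1, h1⟩ hm'
        obtain ⟨u, v, h⟩ := hm'
        rw [← hm] at h
        obtain ⟨i', hi'⟩ := hnz t m u v h
        have a1 := fun j => hent t1 m u1 v1 h1 i j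
        have a2 := fun j => hent t m u v h i j
        by_cases hui : u i.succ = 0
        · exfalso
          obtain ⟨j, hj⟩ : ∃ j, v1 j ≠ 0 := by
            by_contra hc
            push Not at hc
            refine hlow m fun l => funext fun j => ?_
            have := hent t1 m u1 v1 h1 l j
            rw [hc j, mul_zero, sub_eq_zero] at this
            rw [this, Pi.single_apply]
            exact if_congr eq_comm rfl rfl
          have := a2 j
          rw [hui, zero_mul, a1 j] at this
          exact mul_ne_zero hi hj this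
        refine ⟨u 0 / u i.succ, fun j => ?_⟩
        have e0 := congrFun (congrFun h 0) j
        simp only [Matrix.sub_apply, Matrix.smul_apply, Matrix.one_apply, smul_eq_mul, mul_ite, mul_one,
          mul_zero, vecMulVec_apply] at e0
        rw [e0, a2 j]
        field_simp
    choose! l hl using hall
    rw [← Finset.card_univ]
    refine Finset.card_le_card_of_injOn l (fun _ _ => Finset.mem_univ _) fun s hs t ht e => ?_
    exact fam_injective ha (hd0 0) fun j => by
      have e1 := hl s hs j
      rw [e, ← hl t ht j] at e1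
      exact sub_left_injective e1
  · push Not at hth
    refine le_trans (Finset.card_le_one.mpr fun s hs t ht => ?_) Fintype.card_pos
    obtain ⟨c, hc⟩ := (hkind s hs).resolve_right fun ⟨m, hm⟩ => hth s hs m hm
    obtain ⟨c', hc'⟩ := (hkind t ht).resolve_right fun ⟨m, hm⟩ => hth t ht m hm
    have : c = c' := by
      have := (congrFun (hsc s c hc i0) i0.succ).symm.trans (congrFun (hsc t c' hc' i0) i0.succ)
      simpa using this
    exact fam_injective ha (hd0 0) fun j => by rw [hc, hc', this]

end

variable [Fintype K]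

/-- An affine equation that does not hold everywhere. -/
theorem card_zero_mul_le {V W : Type*} [AddCommGroup V] [Module K V] [Fintype V] [AddCommGroup W]
    [Module K W] (f : V →ₗ[K] W) (c : W) (h : ∃ v, f v + c ≠ 0) (s : Finset V)
    (hs : ∀ v ∈ s, f v + c = 0) : s.card * Fintype.card K ≤ Fintype.card V :=
  card_affine_mul_le f ⊥ c (h.imp fun _ hv hm => hv ((Submodule.mem_bot K).mp hm)) s fun v hv =>
    (Submodule.mem_bot K).mpr (hs v hv)

/-- Split off the first row and column. -/
theorem exists_step (hq : 4 ≤ Fintype.card K) {k : ℕ} (X : Matrix (Fin (k + 2)) (Fin (k + 2)) K)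
    (a : Fin (k + 2) → K) (hd : X.det = ∏ i, a i) (ha : ∀ i, a i ≠ 0) (hX : Wide X a)
    {c0 r0 : Fin (k + 2) → K} (hc : c0 ≠ 0) (hr : r0 ≠ 0) :
    ∃ (P : GL (Fin (k + 2)) K) (r : Fin (k + 1) → K) (Y : Matrix (Fin (k + 1)) (Fin (k + 1)) K),
      cj P X = blk 1 0 ((a 0)⁻¹ • Pi.single 0 1) 1 * blk (a 0) 0 0 Y * blk 1 ((a 0)⁻¹ • r) 0 1 ∧
      r ≠ 0 ∧ (((P⁻¹ : GL (Fin (k + 2)) K) : Matrix (Fin (k + 2)) (Fin (k + 2)) K) *ᵥ c0) 0 ≠ 0 ∧
      (r0 ᵥ* (P : Matrix (Fin (k + 2)) (Fin (k + 2)) K)) 0 ≠ 0 ∧
      Y.det = ∏ i : Fin (k + 1), a i.succ ∧ (k = 0 ∨ Wide Y fun i => a i.succ) := by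
  classical
  have hX0 : X.det ≠ 0 := by rw [hd]; exact Finset.prod_ne_zero_iff.mpr fun i _ => ha i
  set T := X.mulVecLin with hTdef
  have hrange : ∀ s : K, T - s • LinearMap.id = (X - s • 1).mulVecLin := fun s =>
    LinearMap.ext fun v => by simp [hTdef, Matrix.sub_mulVec, Matrix.smul_mulVec]
  have h2 : ∀ i, 2 ≤ finrank K (LinearMap.range (T - a i • LinearMap.id)) := fun i => by
    rw [hrange]
    by_contra hlt
    exact hX.2 i (thin_of_range _ (by omega))
  have hker : LinearMap.ker T = ⊥ := by
    rw [hTdef, Matrix.ker_mulVecLin_eq_bot_iff]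
    intro v hv
    by_contra hv0
    exact hX0 (Matrix.exists_mulVec_eq_zero_iff.mp ⟨v, hv0, hv⟩)
  have hns : ∀ m : K, finrank K (eig T m) ≠ k + 2 := fun m h => by
    have htop : eig T m = ⊤ := Submodule.eq_top_of_finrank_eq (by rw [h, Module.finrank_fin_fun])
    refine hX.1 m (Matrix.ext fun i j => ?_)
    have : Pi.single j 1 ∈ eig T m := htop ▸ Submodule.mem_top
    rw [mem_eig] at this
    have := congrFun this i
    simp [hTdef, Pi.single_apply, Matrix.one_apply] at this ⊢
    exact this
  have hf : dotL r0 ≠ 0 := fun h => hr (funext fun i => by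
    have := LinearMap.congr_fun h (Pi.single i 1)
    simpa [dotL] using this)
  obtain ⟨u, hu1, hu2, hu3, hu4⟩ := exists_start T hq (Module.finrank_fin_fun K) (by omega) hker (dotL r0) hf
    c0 (a 0) (Finset.univ.image fun i : Fin (k + 1) => a i.succ)
    (fun h => by
      obtain ⟨i, -, hi⟩ := Finset.mem_image.mp h
      exact ha _ hi)
    (fun h3 => Finset.card_image_le.trans (by simp; omega)) hns (h2 0)
    (fun s hs => by
      obtain ⟨i, -, rfl⟩ := Finset.mem_image.mp hs
      exact h2 _)
  simp only [hTdef, Matrix.mulVecLin_apply] at hu2 hu3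
  obtain ⟨P, n, D, hP0, hP1, hP⟩ := exists_base X hu2 (a 0)
  set a0 := a 0 with ha0
  have hdet : ∀ t : Fin k → K, (fam a0 n D t).det = ∏ i : Fin (k + 1), a i.succ := fun t => by
    have h := congrArg Matrix.det (decomp_shear (ha 0) (padL k t) n D)
    rw [← cj_shear _ (padL_zero t), det_cj, ← hP, det_cj, det_mul, det_mul, det_blk_zero_row,
      det_blk_zero_row, det_blk_zero_col, det_one, one_mul, mul_one, one_mul] at h
    rw [Fin.prod_univ_succ] at hd
    exact mul_left_cancel₀ (ha 0) (h.symm.trans hd)
  -- no lower part is scalar for a later corner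
  have hlow : 1 ≤ k → ∀ m : Fin (k + 1), ¬ ∀ i : Fin k, D i.succ = Pi.single i.succ (a m.succ) := by
    intro hk m hall
    set s := a m.succ
    set W := Submodule.span K ({u, X *ᵥ u - a0 • u} : Set (Fin (k + 2) → K))
    have hle : LinearMap.range (T - s • LinearMap.id) ≤ W := by
      rintro _ ⟨v, rfl⟩
      rw [hrange, Matrix.mulVecLin_apply]
      set w := ((P⁻¹ : GL (Fin (k + 2)) K) : Matrix (Fin (k + 2)) (Fin (k + 2)) K) *ᵥ v
      have hv : v = (P : Matrix (Fin (k + 2)) (Fin (k + 2)) K) *ᵥ w := by
        simp [w, Matrix.mulVec_mulVec, ← Units.val_mul]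
      rw [hv, ← cj_mulVec, cj_sub, cj_smul, cj_one, hP]
      set z := (blk a0 n (Pi.single 0 1) D - s • 1) *ᵥ w
      have hz : ∀ i : Fin k, z i.succ.succ = 0 := fun i => by
        simp only [z, Matrix.mulVec, dotProduct, Fin.sum_univ_succ (n := k + 1), Matrix.sub_apply,
          blk_succ_zero, blk_succ_succ, Matrix.smul_apply, hall i]
        simp [Fin.succ_ne_zero, Matrix.one_apply, Pi.single_apply, eq_comm]
      have hzz : z = z 0 • Pi.single 0 1 + z 1 • Pi.single 1 1 := by
        funext j
        cases j using Fin.cases with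
        | zero => simp
        | succ j =>
          cases j using Fin.cases with
          | zero => simp
          | succ j => simp [hz, Fin.ext_iff]
      rw [hzz, Matrix.mulVec_add, Matrix.mulVec_smul, Matrix.mulVec_smul, hP0, hP1]
      exact add_mem (W.smul_mem _ (Submodule.subset_span (by simp)))
        (W.smul_mem _ (Submodule.subset_span (by simp)))
    have hW : finrank K W ≤ 2 := (finrank_span_le_card _).trans (by
      simpa using Finset.card_le_two)
    refine hu4 (by omega) s (Finset.mem_image.mpr ⟨m, Finset.mem_univ _, rfl⟩)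
      ((Submodule.finrank_mono hle).trans hW) ?_
    rw [Submodule.eq_of_le_of_finrank_le hle (hW.trans (h2 _))]
    exact Submodule.subset_span (by simp)
  -- the three conditions on the shear
  set p := ((P⁻¹ : GL (Fin (k + 2)) K) : Matrix (Fin (k + 2)) (Fin (k + 2)) K) *ᵥ c0 with hp
  have hPp : (P : Matrix (Fin (k + 2)) (Fin (k + 2)) K) *ᵥ p = c0 := by
    simp [hp, Matrix.mulVec_mulVec, ← Units.val_mul]
  let f1 : (Fin k → K) →ₗ[K] K := -(dotL fun i => p i.succ.succ)
  let f2 : (Fin k → K) →ₗ[K] (Fin (k + 1) → K) := a0 • padL k - (Matrix.vecMulLinear D) ∘ₗ padL k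
  have n1 : ∃ t, f1 t + p 0 ≠ 0 := by
    by_contra hc'
    push Not at hc'
    have hp0 : p 0 = 0 := by simpa using hc' 0
    have hpp : p = p 1 • Pi.single 1 1 := by
      funext j
      cases j using Fin.cases with
      | zero => simp [hp0, Fin.ext_iff]
      | succ j =>
        cases j using Fin.cases with
        | zero => simp
        | succ j =>
          have := hc' (Pi.single j 1)
          simp [f1, dotL, hp0] at this
          simp [this, Fin.ext_iff]
    rw [hpp, Matrix.mulVec_smul, hP1] at hPp
    have hp1 : p 1 ≠ 0 := fun h => hc (by rw [← hPp, h, zero_smul])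
    exact hu3 (Submodule.mem_span_singleton.mpr
      ⟨(p 1)⁻¹, by rw [← hPp, smul_smul, inv_mul_cancel₀ hp1, one_smul]⟩)
  have n2 : ∃ t, f2 t + n ≠ 0 := by
    by_contra hc'
    push Not at hc'
    have hn0 : n = 0 := by simpa using hc' 0
    refine hX.2 0 ?_
    rw [← cj_inv P (X - a 0 • 1)]
    refine Thin.cj ⟨Pi.single 1 1, Fin.cons 1 ((D - a0 • 1) 0), ?_⟩ _
    rw [cj_sub, cj_smul, cj_one, hP, hn0]
    ext i j
    cases i using Fin.cases with
    | zero =>
      cases j using Fin.cases <;>
        simp [vecMulVec, Matrix.one_apply, Fin.ext_iff, ha0, (Fin.succ_ne_zero _).symm]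
    | succ i =>
      cases i using Fin.cases with
      | zero =>
        cases j using Fin.cases with
        | zero =>
          rw [Matrix.sub_apply, blk_succ_zero, Matrix.smul_apply, Matrix.one_apply_ne (Fin.succ_ne_zero 0),
            vecMulVec_apply, Fin.cons_zero]
          simp
        | succ j =>
          rw [Matrix.sub_apply, blk_succ_succ, Matrix.smul_apply, vecMulVec_apply, Fin.cons_succ,
            Matrix.one_apply, Fin.succ_zero_eq_one, Pi.single_eq_same, one_mul, Matrix.sub_apply,
            Matrix.smul_apply, Matrix.one_apply]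
          simp only [← Fin.succ_zero_eq_one, Fin.succ_inj, ha0]
      | succ i =>
        cases j using Fin.cases with
        | zero => simp [vecMulVec, Matrix.one_apply, Fin.succ_ne_zero, Fin.ext_iff]
        | succ j =>
          have h := congrFun (hc' (Pi.single i 1)) j
          simp [f2, hn0, padL_single, Matrix.single_one_vecMul, Pi.single_apply, sub_eq_zero] at h
          have h10 : (i.succ.succ : Fin (k + 2)) ≠ 1 := by
            rw [← Fin.succ_zero_eq_one, Ne, Fin.succ_inj]
            exact Fin.succ_ne_zero i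
          rw [Matrix.sub_apply, blk_succ_succ, Matrix.smul_apply, vecMulVec_apply,
            Pi.single_eq_of_ne h10, zero_mul, ← h, Matrix.one_apply]
          simp [ha0, Fin.succ_inj, eq_comm]
  suffices hex : ∃ t : Fin k → K, f1 t + p 0 ≠ 0 ∧
      f2 t + n ≠ 0 ∧
      (k = 0 ∨ Wide (fam a0 n D t) fun i => a i.succ) by
    obtain ⟨t, ht1, ht2, ht3⟩ := hex
    refine ⟨P * shear (padL k t), n + a0 • padL k t - padL k t ᵥ* D, fam a0 n D t, ?_, ?_, ?_, ?_,
      hdet t, ht3⟩
    · rw [← cj_cj, hP, cj_shear _ (padL_zero t)]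
      exact decomp_shear (ha 0) _ _ _
    · intro h
      apply ht2
      rw [← h]
      simp only [f2, LinearMap.sub_apply, LinearMap.smul_apply, LinearMap.comp_apply, Matrix.vecMulLinear_apply]
      abel
    · intro h
      apply ht1
      rw [_root_.mul_inv_rev, Units.val_mul, ← Matrix.mulVec_mulVec, ← hp, coe_shear_inv,
        ← Fin.cons_self_tail p, blk_mulVec] at h
      simp [f1, dotL, dotProduct, Fin.sum_univ_succ, Fin.tail] at h ⊢
      rw [Finset.sum_congr rfl fun i _ => mul_comm (p i.succ.succ) (t i)]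
      linear_combination h
    · rw [Units.val_mul, ← Matrix.vecMul_vecMul, coe_shear]
      have : (r0 ᵥ* (P : Matrix (Fin (k + 2)) (Fin (k + 2)) K)) 0 = 1 := by
        rw [← hu1, ← hP0]
        show _ = r0 ⬝ᵥ _
        rw [Matrix.dotProduct_mulVec, dotProduct_single, mul_one]
      rw [← Fin.cons_self_tail (r0 ᵥ* (P : Matrix (Fin (k + 2)) (Fin (k + 2)) K)), vecMul_blk]
      simp [this]
  rcases Nat.eq_zero_or_pos k with rfl | hk
  · obtain ⟨t, ht⟩ := n1
    obtain ⟨t', ht'⟩ := n2
    exact ⟨t, ht, by rwa [Subsingleton.elim t t'], Or.inl rfl⟩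
  by_contra hall
  push Not at hall
  set F1 := Finset.univ.filter fun t : Fin k → K => f1 t + p 0 = 0
  set F2 := Finset.univ.filter fun t : Fin k → K => f2 t + n = 0
  set F3 := Finset.univ.filter fun t : Fin k → K => ¬ Wide (fam a0 n D t) fun i => a i.succ
  have hcov : (Finset.univ : Finset (Fin k → K)) ⊆ F1 ∪ F2 ∪ F3 := fun t _ => by
    simp only [F1, F2, F3, Finset.mem_union, Finset.mem_filter, Finset.mem_univ, true_and]
    by_cases h1 : f1 t + p 0 = 0
    · exact Or.inl (Or.inl h1)
    by_cases h2' : f2 t + n = 0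
    · exact Or.inl (Or.inr h2')
    exact Or.inr (hall t h1 h2').2
  have b1 := card_zero_mul_le f1 _ n1 F1 fun t ht => (Finset.mem_filter.mp ht).2
  have b2 := card_zero_mul_le f2 _ n2 F2 fun t ht => (Finset.mem_filter.mp ht).2
  have b3 := card_bad_mul_le (ha 0) hk (fun i => a i.succ) hdet (fun i => ha _) (hlow hk) F3
    fun t ht => (Finset.mem_filter.mp ht).2
  have b0 := (Finset.card_le_card hcov).trans (card_union3_le _ _ _)
  simp only [Finset.card_univ, Fintype.card_fun, Fintype.card_fin] at b0 b1 b2
  obtain ⟨j, rfl⟩ : ∃ j, k = j + 1 := ⟨k - 1, by omega⟩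
  rcases j with _ | j
  · simp only [zero_add, pow_one, if_true] at b0 b1 b2 b3
    nlinarith
  · rw [if_neg (by omega)] at b3
    have hp : 1 ≤ Fintype.card K ^ j := Nat.one_le_pow _ _ Fintype.card_pos
    simp only [show j + 1 + 1 = j + 2 from rfl, pow_add] at b0 b1 b2
    nlinarith [Nat.mul_le_mul_left (Fintype.card K ^ j * Fintype.card K ^ 2) hq,
      Nat.mul_le_mul_right (Fintype.card K ^ 2) hp]

end CfsgLib.PSLCover
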