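import Cfsg.Agent.Lib.PSLCover.Basic
import Cfsg.Agent.Lib.PSLCover.LuStep

/-!
Triangular factorisation with prescribed diagonals: a nonscalar matrix `g` with no `b i * c i` an
eigenvalue of eigenspace of codimension at most one is similar to `L * U`, with `L` lower and `U` upper
triangular of diagonals `b`, `c` and all entries next to the diagonal nonzero; for grouped diagonals
both factors are split cyclic.
-/

set_option autoImplicit false
set_option linter.unusedSectionVars false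

namespace CfsgLib.PSLCover

open Matrix CfsgLib.ClassSquare

variable {K : Type*} [Field K]

/-- Upper triangular, given diagonal, nonzero entries above the diagonal next to it. -/
def Upp {n : ℕ} (U : Matrix (Fin n) (Fin n) K) (b : Fin n → K) : Prop :=
  (∀ i, U i i = b i) ∧ (∀ i j, j < i → U i j = 0) ∧ ∀ i j : Fin n, (j : ℕ) = (i : ℕ) + 1 → U i j ≠ 0

/-- Lower triangular, given diagonal, nonzero entries below the diagonal next to it. -/
def Low {n : ℕ} (L : Matrix (Fin n) (Fin n) K) (b : Fin n → K) : Prop := Upp Lᵀ b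

theorem blk_transpose {k : ℕ} (a : K) (n m : Fin k → K) (D : Matrix (Fin k) (Fin k) K) :
    (blk a n m D)ᵀ = blk a m n Dᵀ := by
  ext i j
  cases i using Fin.cases <;> cases j using Fin.cases <;> simp

theorem Upp.blk {k : ℕ} {U : Matrix (Fin (k + 1)) (Fin (k + 1)) K} {b : Fin (k + 2) → K}
    (h : Upp U fun i => b i.succ) {n : Fin (k + 1) → K} (hn : n 0 ≠ 0) :
    Upp (ClassSquare.blk (b 0) n 0 U) b := by
  refine ⟨fun i => ?_, fun i j hij => ?_, fun i j hij => ?_⟩
  · cases i using Fin.cases with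
    | zero => rfl
    | succ i => exact h.1 i
  · cases i using Fin.cases with
    | zero => exact absurd hij (Fin.not_lt_zero j)
    | succ i =>
      cases j using Fin.cases with
      | zero => rfl
      | succ j => exact h.2.1 i j (Fin.succ_lt_succ_iff.mp hij)
  · cases j using Fin.cases with
    | zero => simp at hij
    | succ j =>
      simp only [Fin.val_succ, Nat.add_right_cancel_iff] at hij
      cases i using Fin.cases with
      | zero =>
        rw [blk_zero_succ, show j = 0 from Fin.ext (by simpa using hij)]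
        exact hn
      | succ i => exact h.2.2 i j (by rw [hij, Fin.val_succ])

theorem Low.blk {k : ℕ} {L : Matrix (Fin (k + 1)) (Fin (k + 1)) K} {b : Fin (k + 2) → K}
    (h : Low L fun i => b i.succ) {m : Fin (k + 1) → K} (hm : m 0 ≠ 0) :
    Low (ClassSquare.blk (b 0) 0 m L) b := by
  show Upp _ _
  rw [blk_transpose]
  exact Upp.blk h hm

/-- A block diagonal unit with corner one. -/
def padUnit {k : ℕ} (P : GL (Fin k) K) : GL (Fin (k + 1)) K :=
  ⟨blk 1 0 0 (P : Matrix (Fin k) (Fin k) K), blk 1 0 0 ((P⁻¹ : GL (Fin k) K) : Matrix (Fin k) (Fin k) K),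
    by rw [blk_mul]; simp [← Units.val_mul, blk_one, vecMulVec]; ext i j; cases i using Fin.cases <;>
      cases j using Fin.cases <;> simp [Matrix.one_apply, (Fin.succ_ne_zero _).symm],
    by rw [blk_mul]; simp [← Units.val_mul, blk_one, vecMulVec]; ext i j; cases i using Fin.cases <;>
      cases j using Fin.cases <;> simp [Matrix.one_apply, (Fin.succ_ne_zero _).symm]⟩

theorem coe_padUnit {k : ℕ} (P : GL (Fin k) K) :
    (padUnit P : Matrix (Fin (k + 1)) (Fin (k + 1)) K) = blk 1 0 0 (P : Matrix (Fin k) (Fin k) K) := rfl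

theorem coe_padUnit_inv {k : ℕ} (P : GL (Fin k) K) :
    (((padUnit P)⁻¹ : GL (Fin (k + 1)) K) : Matrix (Fin (k + 1)) (Fin (k + 1)) K) =
      blk 1 0 0 ((P⁻¹ : GL (Fin k) K) : Matrix (Fin k) (Fin k) K) := rfl

theorem cj_padUnit {k : ℕ} (P : GL (Fin k) K) (a : K) (n m : Fin k → K) (D : Matrix (Fin k) (Fin k) K) :
    cj (padUnit P) (blk a n m D) = blk a (n ᵥ* (P : Matrix (Fin k) (Fin k) K))
      (((P⁻¹ : GL (Fin k) K) : Matrix (Fin k) (Fin k) K) *ᵥ m) (cj P D) := by
  rw [cj, coe_padUnit, coe_padUnit_inv, blk_mul, blk_mul, blk_inj]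
  refine ⟨by simp, by simp, by simp, ?_⟩
  simp [cj, vecMulVec, Matrix.mul_assoc]
  rw [show (Matrix.of fun _ _ => (0 : K) : Matrix (Fin k) (Fin k) K) = 0 from rfl]
  simp [Matrix.mul_assoc]

variable [Fintype K]

/-- The factorisation, with the two free entries next to the corner. -/
theorem exists_lu_aux (hq : 4 ≤ Fintype.card K) : ∀ (k : ℕ) (X : Matrix (Fin (k + 1)) (Fin (k + 1)) K)
    (b c : Fin (k + 1) → K), (∀ i, b i * c i ≠ 0) → X.det = ∏ i, b i * c i →
    (k = 0 ∨ Wide X fun i => b i * c i) → ∀ c0 r0 : Fin (k + 1) → K, c0 ≠ 0 → r0 ≠ 0 →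
    ∃ (P : GL (Fin (k + 1)) K) (L U : Matrix (Fin (k + 1)) (Fin (k + 1)) K), Low L b ∧ Upp U c ∧
      cj P X = L * U ∧ (((P⁻¹ : GL (Fin (k + 1)) K) : Matrix (Fin (k + 1)) (Fin (k + 1)) K) *ᵥ c0) 0 ≠ 0 ∧
      (r0 ᵥ* (P : Matrix (Fin (k + 1)) (Fin (k + 1)) K)) 0 ≠ 0 := by
  intro k
  induction k with
  | zero =>
    intro X b c _ hd _ c0 r0 hc hr
    have hs : ∀ (v : Fin 1 → K), v ≠ 0 → v 0 ≠ 0 := fun v hv h =>
      hv (funext fun i => by rw [Fin.fin_one_eq_zero i]; exact h)
    refine ⟨1, b 0 • 1, c 0 • 1, ⟨fun i => ?_, fun i j h => ?_, fun i j h => ?_⟩,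
      ⟨fun i => ?_, fun i j h => ?_, fun i j h => ?_⟩, ?_, by simpa using hs c0 hc, by simpa using hs r0 hr⟩
    · simp [Fin.fin_one_eq_zero i]
    · exact absurd h (by omega)
    · exact absurd h (by omega)
    · simp [Fin.fin_one_eq_zero i]
    · exact absurd h (by omega)
    · exact absurd h (by omega)
    · rw [Matrix.det_fin_one, Fin.prod_univ_one] at hd
      ext i j
      simp [cj, Fin.fin_one_eq_zero i, Fin.fin_one_eq_zero j, hd, mul_comm]
  | succ k ih =>
    intro X b c hne hd hX c0 r0 hc hr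
    obtain ⟨P, r, Y, hP, hr1, hc', hr', hdY, hY⟩ :=
      exists_step hq X (fun i => b i * c i) hd hne (hX.resolve_left (Nat.succ_ne_zero k)) hc hr
    have he : (Pi.single 0 1 : Fin (k + 1) → K) ≠ 0 := fun h => by simpa using congrFun h 0
    obtain ⟨P', L, U, hL, hU, hLU, hc1, hr2⟩ :=
      ih Y (fun i => b i.succ) (fun i => c i.succ) (fun i => hne _) hdY hY _ _ he hr1
    have hb : b 0 ≠ 0 := left_ne_zero_of_mul (hne 0)
    have hcc : c 0 ≠ 0 := right_ne_zero_of_mul (hne 0)
    refine ⟨P * padUnit P',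
      blk (b 0) 0 ((c 0)⁻¹ • (((P'⁻¹ : GL (Fin (k + 1)) K) : Matrix (Fin (k + 1)) (Fin (k + 1)) K) *ᵥ
        Pi.single 0 1)) L,
      blk (c 0) ((b 0)⁻¹ • (r ᵥ* (P' : Matrix (Fin (k + 1)) (Fin (k + 1)) K))) 0 U,
      hL.blk ?_, hU.blk ?_, ?_, ?_, ?_⟩
    · rw [Pi.smul_apply, smul_eq_mul]; exact mul_ne_zero (inv_ne_zero hcc) hc1
    · rw [Pi.smul_apply, smul_eq_mul]; exact mul_ne_zero (inv_ne_zero hb) hr2
    · rw [← cj_cj, hP, cj_mul, cj_mul, cj_padUnit, cj_padUnit, cj_padUnit, cj_one, blk_mul, blk_mul, blk_mul,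
        blk_inj]
      refine ⟨?_, ?_, ?_, ?_⟩
      · simp
      · simp [Matrix.smul_vecMul, smul_smul, hb, hcc]
        field_simp
        simp
      · simp [Matrix.mulVec_smul, smul_smul, hb, hcc]
        field_simp
        simp
      · simp only [hLU]
        ext i j
        simp [vecMulVec, Matrix.smul_vecMul, Matrix.mulVec_smul]
        field_simp
    · rw [_root_.mul_inv_rev, Units.val_mul, ← Matrix.mulVec_mulVec, coe_padUnit_inv]
      set z := ((P⁻¹ : GL (Fin (k + 2)) K) : Matrix (Fin (k + 2)) (Fin (k + 2)) K) *ᵥ c0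
      rw [← Fin.cons_self_tail z, blk_mulVec]
      simpa using hc'
    · rw [Units.val_mul, ← Matrix.vecMul_vecMul, coe_padUnit]
      set z := r0 ᵥ* (P : Matrix (Fin (k + 2)) (Fin (k + 2)) K)
      rw [← Fin.cons_self_tail z, vecMul_blk]
      simpa using hr'

/-- The diagonal `b` takes equal values on intervals. -/
def Grouped {n : ℕ} (b : Fin n → K) : Prop := ∀ i j l : Fin n, i ≤ j → j ≤ l → b i = b l → b j = b i

theorem Upp.splitCyclic {n : ℕ} {U : Matrix (Fin n) (Fin n) K} {b : Fin n → K} (h : Upp U b)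
    (hb : Grouped b) : SplitCyclic U ∧ U.charpoly = ∏ i, (Polynomial.X - Polynomial.C (b i)) := by
  classical
  have hcp : U.charpoly = ∏ i, (Polynomial.X - Polynomial.C (b i)) := by
    rw [Matrix.charpoly_of_upperTriangular U fun i j hij => h.2.1 i j hij]
    exact Finset.prod_congr rfl fun i _ => by rw [h.1]
  refine ⟨⟨⟨Finset.univ.val.map b, by rw [hcp, Multiset.map_map]; rfl⟩, fun e u v hu hv hu0 => ?_⟩, hcp⟩
  -- the last coordinate of an eigenvector is the first index of its eigenvalue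
  have key : ∀ w : Fin n → K, U *ᵥ w = e • w → ∀ j, w j ≠ 0 → (∀ l, j < l → w l = 0) →
      b j = e ∧ ∀ i, i < j → b i ≠ e := by
    intro w hw j hj hmax
    have hrow : ∀ i, i ≤ j → (∀ l, i < l → l < j → U i l * w l = 0) → i ≠ j → b i * w i + U i j * w j = e * w i := by
      intro i hi hmid hne
      have := congrFun hw i
      rw [Matrix.mulVec, dotProduct, Finset.sum_eq_add_of_mem i j (Finset.mem_univ _) (Finset.mem_univ _) hne,
        h.1, Pi.smul_apply, smul_eq_mul] at this
      · exact this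
      · intro l _ hl
        rcases lt_trichotomy l i with hli | hli | hli
        · rw [h.2.1 i l hli, zero_mul]
        · exact absurd hli hl.1
        rcases lt_trichotomy l j with hlj | hlj | hlj
        · exact hmid l hli hlj
        · exact absurd hlj hl.2
        · rw [hmax l hlj, mul_zero]
    have hj' : b j = e := by
      have := congrFun hw j
      rw [Matrix.mulVec, dotProduct, Finset.sum_eq_single j, h.1, Pi.smul_apply, smul_eq_mul] at this
      · exact mul_right_cancel₀ hj this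
      · intro l _ hl
        rcases lt_or_gt_of_ne hl with hlj | hlj
        · rw [h.2.1 j l hlj, zero_mul]
        · rw [hmax l hlj, mul_zero]
      · simp
    refine ⟨hj', fun i hi hbi => ?_⟩
    obtain ⟨p, hp⟩ : ∃ p : Fin n, (j : ℕ) = (p : ℕ) + 1 := ⟨⟨(j : ℕ) - 1, by omega⟩, by simp; omega⟩
    have hpj : p < j := by rw [Fin.lt_def]; omega
    have hbp : b p = e := by
      rw [hb i p j (by rw [Fin.le_def]; omega) hpj.le (hbi.trans hj'.symm), hbi]
    have := hrow p hpj.le (fun l h1 h2 => absurd h1 (by rw [Fin.lt_def] at *; omega)) hpj.ne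
    rw [hbp, add_eq_left] at this
    exact mul_ne_zero (h.2.2 p j hp) hj this
  obtain ⟨j, hj, hjmax⟩ : ∃ j, u j ≠ 0 ∧ ∀ l, j < l → u l = 0 := by
    have hne : (Finset.univ.filter fun i => u i ≠ 0).Nonempty := by
      obtain ⟨i, hi⟩ := Function.ne_iff.mp hu0
      exact ⟨i, by simpa using hi⟩
    refine ⟨_, (Finset.mem_filter.mp (Finset.max'_mem _ hne)).2, fun l hl => ?_⟩
    by_contra hl0
    exact absurd (Finset.le_max' _ l (Finset.mem_filter.mpr ⟨Finset.mem_univ _, hl0⟩)) (not_le.mpr hl)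
  obtain ⟨hbj, hfirst⟩ := key u hu j hj hjmax
  refine ⟨v j / u j, ?_⟩
  set w := v - (v j / u j) • u with hw
  have hwe : U *ᵥ w = e • w := by
    rw [hw, Matrix.mulVec_sub, Matrix.mulVec_smul, hu, hv, smul_sub, smul_comm]
  by_contra hne
  have hw0 : w ≠ 0 := fun h0 => hne (sub_eq_zero.mp h0)
  have hne' : (Finset.univ.filter fun i => w i ≠ 0).Nonempty := by
    obtain ⟨i, hi⟩ := Function.ne_iff.mp hw0
    exact ⟨i, by simpa using hi⟩
  set m := Finset.max' _ hne'
  have hm : w m ≠ 0 := (Finset.mem_filter.mp (Finset.max'_mem _ hne')).2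
  obtain ⟨hbm, hfm⟩ := key w hwe m hm fun l hl => by
    by_contra hl0
    exact absurd (Finset.le_max' _ l (Finset.mem_filter.mpr ⟨Finset.mem_univ _, hl0⟩)) (not_le.mpr hl)
  rcases lt_trichotomy m j with hmj | hmj | hmj
  · exact hfirst m hmj hbm
  · exact hm (by rw [hmj, hw]; simp [hj])
  · exact hfm j hmj hbj

theorem SplitCyclic.reindex {n : ℕ} {T : Matrix (Fin n) (Fin n) K} (h : SplitCyclic T) :
    SplitCyclic (T.submatrix Fin.rev Fin.rev) := by
  obtain ⟨⟨S, hS⟩, h2⟩ := h
  refine ⟨⟨S, ?_⟩, fun e u v hu hv hu0 => ?_⟩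
  · rw [← hS]
    exact Matrix.charpoly_reindex Fin.revPerm.symm T
  · have tr : ∀ w : Fin n → K, T.submatrix Fin.rev Fin.rev *ᵥ w = e • w →
        T *ᵥ (w ∘ Fin.rev) = e • (w ∘ Fin.rev) := fun w hw => funext fun i => by
      have := congrFun hw i.rev
      simp only [Matrix.mulVec, dotProduct, Matrix.submatrix_apply, Fin.rev_rev, Pi.smul_apply] at this
      rw [Pi.smul_apply, Function.comp_apply, ← this, Matrix.mulVec, dotProduct]
      exact (Fintype.sum_equiv Fin.revPerm _ _ fun l => by simp).symm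
    obtain ⟨a, ha⟩ := h2 e _ _ (tr u hu) (tr v hv) fun h0 => hu0 (funext fun i => by
      simpa using congrFun h0 i.rev)
    exact ⟨a, funext fun i => by simpa using congrFun ha i.rev⟩

theorem Low.splitCyclic {n : ℕ} {L : Matrix (Fin n) (Fin n) K} {b : Fin n → K} (h : Low L b)
    (hb : Grouped b) : SplitCyclic L ∧ L.charpoly = ∏ i, (Polynomial.X - Polynomial.C (b i)) := by
  obtain ⟨h1, h2, h3⟩ := h
  set b' : Fin n → K := fun i => b i.rev
  have hU : Upp (L.submatrix Fin.rev Fin.rev) b' :=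
    ⟨fun i => h1 i.rev, fun i j hij => h2 j.rev i.rev (Fin.rev_lt_rev.mpr hij),
      fun i j hij => h3 j.rev i.rev (by simp only [Fin.val_rev]; omega)⟩
  have hb' : Grouped b' := fun i j l hij hjl he =>
    (hb l.rev j.rev i.rev (Fin.rev_le_rev.mpr hjl) (Fin.rev_le_rev.mpr hij) he.symm).trans he.symm
  obtain ⟨hs, hc⟩ := hU.splitCyclic hb'
  refine ⟨?_, ?_⟩
  · have := hs.reindex
    rwa [Matrix.submatrix_submatrix, Fin.rev_involutive.comp_self, Matrix.submatrix_id_id] at this
  · rw [← Matrix.charpoly_reindex Fin.revPerm L,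
      show ∏ i, (Polynomial.X - Polynomial.C (b i)) = ∏ i, (Polynomial.X - Polynomial.C (b' i)) from
        (Fintype.prod_equiv Fin.revPerm _ _ fun i => rfl).symm, ← hc]
    rfl

/-- Products of two split cyclic matrices with prescribed spectra. -/
theorem exists_lu (hq : 4 ≤ Fintype.card K) {n : ℕ} (g : Matrix (Fin n) (Fin n) K) (b c : Fin n → K)
    (hb : Grouped b) (hc : Grouped c) (hb0 : ∀ i, b i ≠ 0) (hc0 : ∀ i, c i ≠ 0)
    (hd : g.det = ∏ i, b i * c i) (hg : Nonscalar g)
    (hr : ∀ i (u w : Fin n → K), g ≠ (b i * c i) • 1 + vecMulVec u w) :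
    ∃ L U : Matrix (Fin n) (Fin n) K, GLSim g (L * U) ∧ Low L b ∧ Upp U c ∧
      SplitCyclic L ∧ SplitCyclic U ∧
      L.charpoly = ∏ i, (Polynomial.X - Polynomial.C (b i)) ∧
      U.charpoly = ∏ i, (Polynomial.X - Polynomial.C (c i)) := by
  rcases n with _ | k
  · exact absurd (Subsingleton.elim g ((0 : K) • 1)) (hg 0)
  have he : (Pi.single 0 1 : Fin (k + 1) → K) ≠ 0 := fun h => by simpa using congrFun h 0
  obtain ⟨P, L, U, hL, hU, hLU, -, -⟩ := exists_lu_aux hq k g b c (fun i => mul_ne_zero (hb0 i) (hc0 i)) hd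
    (Or.inr ⟨hg, fun i ⟨u, w, e⟩ => hr i u w (by rw [← e, add_sub_cancel])⟩) _ _ he he
  refine ⟨L, U, ⟨((P⁻¹ : GL (Fin (k + 1)) K) : Matrix (Fin (k + 1)) (Fin (k + 1)) K),
    det_units_ne _, ?_⟩, hL, hU, (hL.splitCyclic hb).1, (hU.splitCyclic hc).1, (hL.splitCyclic hb).2,
    (hU.splitCyclic hc).2⟩
  rw [← hLU, cj, Matrix.mul_assoc, ← Units.val_mul, mul_inv_cancel, Units.val_one, Matrix.mul_one]

end CfsgLib.PSLCover
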