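import Cfsg.Agent.Lib.PSLCover.Basic
import Cfsg.Agent.Lib.SpEvenMinDegree.Orbit

/-!
Peeling one coordinate: products of `k + 1` conjugates of `a ⊕ x₂` from products of `k` conjugates of `x₂`.

Move the first coordinate vector correctly by one conjugate; the rest acts on the quotient by that line, and
the lifts of the factors to that line are surjective on the first row as they have no common eigenvector.
-/

set_option autoImplicit false
set_option linter.unusedSectionVars false

namespace CfsgLib.PSLCover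

open Matrix Module

variable {F : Type*} [Field F] {ι κ : Type*} [Fintype ι] [DecidableEq ι] [Fintype κ] [DecidableEq κ]

/-- As `InPowNC`, with factors only similar to `x`. -/
def GLPowNC (x : Matrix ι ι F) (k : ℕ) (g : Matrix ι ι F) : Prop :=
  ∃ l : List (Matrix ι ι F), l.length = k ∧ (∀ y ∈ l, GLSim x y) ∧ l.prod = g ∧ NoCommon l

theorem InPowNC.glPowNC {x g : Matrix ι ι F} {k : ℕ} (h : InPowNC x k g) : GLPowNC x k g := by
  obtain ⟨l, h1, h2, h3, h4⟩ := h
  exact ⟨l, h1, fun y hy => (h2 y hy).glSim, h3, h4⟩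

theorem GLPowNC.inPowNC {x g : Matrix ι ι F} {k : ℕ} (h : GLPowNC x k g) (hx : DetFull x) : InPowNC x k g := by
  obtain ⟨l, h1, h2, h3, h4⟩ := h
  exact ⟨l, h1, fun y hy => (h2 y hy).slSim hx, h3, h4⟩

theorem InPowNC.of_slSim {x g g' : Matrix ι ι F} {k : ℕ} (h : InPowNC x k g) (hg : SLSim g g') :
    InPowNC x k g' := by
  obtain ⟨P, hP, e⟩ := hg
  have hP0 : P.det ≠ 0 := by rw [hP]; exact one_ne_zero
  obtain ⟨l, h1, h2, h3, h4⟩ := h
  refine ⟨l.map (PSLCover.conjBy P), by simpa using h1, fun y hy => ?_, ?_, h4.conjBy hP0⟩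
  · obtain ⟨z, hz, rfl⟩ := List.mem_map.1 hy
    refine (h2 z hz).trans ⟨P, hP, ?_⟩
    rw [PSLCover.conjBy, mul_assoc, Matrix.nonsing_inv_mul P (isUnit_iff_ne_zero.2 hP0), mul_one]
  · rw [← conjBy_prod hP0, h3, conjBy_eq hP0 e]

theorem Nonscalar.exists_noneigen {x : Matrix ι ι F} (hx : Nonscalar x) :
    ∃ u : ι → F, ∀ c : F, x *ᵥ u ≠ c • u := by
  by_contra h
  push Not at h
  rcases isEmpty_or_nonempty ι with hi | ⟨⟨i0⟩⟩
  · exact hx 0 (Subsingleton.elim _ _)
  choose c hc using fun i : ι => h (Pi.single i 1)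
  have hdiag : ∀ i j, x i j = if i = j then c j else 0 := fun i j => by
    have := congrFun (hc j) i
    simpa [Matrix.mulVec_single_one, Pi.single_apply] using this
  refine hx (c i0) ?_
  ext i j
  rw [hdiag i j]
  by_cases hij : i = j
  · subst hij
    simp only [if_true, Matrix.smul_apply, Matrix.one_apply_eq, smul_eq_mul, mul_one]
    by_cases h0 : i = i0
    · rw [h0]
    obtain ⟨d, hd⟩ := h (Pi.single i 1 + Pi.single i0 1)
    rw [Matrix.mulVec_add, hc, hc] at hd
    have e1 := congrFun hd i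
    have e2 := congrFun hd i0
    simp [h0, Ne.symm h0] at e1 e2
    rw [e1, e2]
  · simp [hij]

theorem indep_pair {v w : ι → F} (hv : v ≠ 0) (h : ∀ c : F, w ≠ c • v) : LinearIndependent F ![v, w] := by
  rw [LinearIndependent.pair_iff]
  intro s t e
  have ht : t = 0 := by
    by_contra ht
    refine h (-(s / t)) ?_
    have e1 : t • w = -(s • v) := eq_neg_of_add_eq_zero_right e
    calc w = t⁻¹ • (t • w) := by rw [smul_smul, inv_mul_cancel₀ ht, one_smul]
      _ = -(s / t) • v := by rw [e1, smul_neg, smul_smul, neg_smul, div_eq_inv_mul]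
  subst ht
  rw [zero_smul, add_zero] at e
  exact ⟨(smul_eq_zero.1 e).resolve_right hv, rfl⟩

theorem exists_annihilator (S : Submodule F (ι → F)) (h : S ≠ ⊤) :
    ∃ ψ : ι → F, ψ ≠ 0 ∧ ∀ v ∈ S, ψ ⬝ᵥ v = 0 := by
  obtain ⟨f, hf, hS⟩ := S.exists_le_ker_of_lt_top h.lt_top
  have key : ∀ v : ι → F, (fun i => f (Pi.single i 1)) ⬝ᵥ v = f v := fun v => by
    conv_rhs => rw [pi_eq_sum_univ' v, map_sum]
    simp [dotProduct, mul_comm]
  refine ⟨fun i => f (Pi.single i 1), fun e => hf ?_, fun v hv => ?_⟩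
  · refine LinearMap.ext fun v => ?_
    rw [← key v, e, zero_dotProduct, LinearMap.zero_apply]
  · rw [key]; exact hS hv

theorem span_range_ne_top {m : ℕ} (hm : m < Fintype.card ι) (v : Fin m → ι → F) :
    Submodule.span F (Set.range v) ≠ ⊤ := fun e => by
  have h1 := finrank_range_le_card v (R := F)
  rw [Set.finrank, e, finrank_top, Module.finrank_fintype_fun_eq_card, Fintype.card_fin] at h1
  omega

/-- Matrices of determinant one are transitive on independent pairs, in dimension at least three. -/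
theorem exists_sl_pair [Fintype F] (hι : 3 ≤ Fintype.card ι) {a b a' b' : ι → F}
    (h : LinearIndependent F ![a, b]) (h' : LinearIndependent F ![a', b']) :
    ∃ P : Matrix ι ι F, P.det = 1 ∧ P *ᵥ a = a' ∧ P *ᵥ b = b' := by
  obtain ⟨A, hA, hB⟩ := CfsgLib.SpEvenMinDegree.exists_map_pair h h'
  set P := LinearMap.toMatrix' A.toLinearMap with hP
  have hd : P.det ≠ 0 := by
    rw [hP, LinearMap.det_toMatrix']
    exact A.isUnit_det'.ne_zero
  have ha : P *ᵥ a = a' := by rw [hP, LinearMap.toMatrix'_mulVec]; exact hA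
  have hb : P *ᵥ b = b' := by rw [hP, LinearMap.toMatrix'_mulVec]; exact hB
  obtain ⟨ψ, hψ, hk⟩ := exists_annihilator _ (span_range_ne_top (by omega) ![a', b'])
  obtain ⟨i, hi⟩ := Function.ne_iff.1 hψ
  set z : ι → F := ((P.det⁻¹ - 1) / ψ i) • Pi.single i 1 with hz
  have key : ∀ u, ψ ⬝ᵥ u = 0 → (1 + vecMulVec z ψ) *ᵥ u = u := fun u hu => by
    rw [Matrix.add_mulVec, Matrix.one_mulVec, Matrix.vecMulVec_mulVec, hu]
    simp
  refine ⟨(1 + vecMulVec z ψ) * P, ?_, ?_, ?_⟩
  · have hψi : ψ i ≠ 0 := by simpa using hi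
    rw [det_mul, vecMulVec_eq Unit, Matrix.det_one_add_replicateCol_mul_replicateRow, hz, dotProduct_smul,
      dotProduct_single, smul_eq_mul, mul_one, div_mul_cancel₀ _ hψi, add_sub_cancel, inv_mul_cancel₀ hd]
  · rw [← Matrix.mulVec_mulVec, ha, key a' (hk _ (Submodule.subset_span ⟨0, rfl⟩))]
  · rw [← Matrix.mulVec_mulVec, hb, key b' (hk _ (Submodule.subset_span ⟨1, rfl⟩))]

/-- The first rows reached by lifting a list of factors. -/
noncomputable def liftImg (a : F) : List (Matrix κ κ F) → Submodule F (κ → F)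
  | [] => ⊥
  | y :: l => (liftImg a l).map (a • LinearMap.id) ⊔
      LinearMap.range (Matrix.vecMulLinear ((y - a • 1) * l.prod))

theorem liftImg_annihilated (a : F) {v : κ → F} :
    ∀ l : List (Matrix κ κ F), a ≠ 0 → (∀ r ∈ liftImg a l, r ⬝ᵥ v = 0) →
      (∀ y ∈ l, y *ᵥ v = a • v) ∧ l.prod *ᵥ v = a ^ l.length • v := by
  intro l ha
  induction l with
  | nil => exact fun _ => ⟨fun y hy => by simp at hy, by simp⟩
  | cons y l ih =>
    intro h
    obtain ⟨h1, h2⟩ := ih fun r hr => by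
      have h3 := h (a • r) (Submodule.mem_sup_left ⟨r, hr, rfl⟩)
      rw [smul_dotProduct, smul_eq_mul] at h3
      exact (mul_eq_zero.1 h3).resolve_left ha
    have h4 : ((y - a • 1) * l.prod) *ᵥ v = 0 := by
      funext i
      have h5 := h _ (Submodule.mem_sup_right ⟨Pi.single i 1, rfl⟩)
      rwa [Matrix.vecMulLinear_apply, ← Matrix.dotProduct_mulVec, single_one_dotProduct] at h5
    rw [← Matrix.mulVec_mulVec, h2, Matrix.mulVec_smul, smul_eq_zero, Matrix.sub_mulVec,
      Matrix.smul_mulVec, Matrix.one_mulVec, sub_eq_zero] at h4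
    have h6 := h4.resolve_left (pow_ne_zero _ ha)
    refine ⟨fun z hz => ?_, ?_⟩
    · rcases List.mem_cons.1 hz with rfl | hz
      · exact h6
      · exact h1 z hz
    · rw [List.prod_cons, ← Matrix.mulVec_mulVec, h2, Matrix.mulVec_smul, h6, smul_smul, List.length_cons,
        pow_succ]

theorem liftImg_top {a : F} (ha : a ≠ 0) {l : List (Matrix κ κ F)} (hl : NoCommon l) : liftImg a l = ⊤ := by
  by_contra h
  obtain ⟨v, hv, hk⟩ := exists_annihilator _ h
  obtain ⟨y, hy, hne⟩ := hl v hv a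
  exact hne ((liftImg_annihilated a l ha fun r hr => by rw [dotProduct_comm]; exact hk r hr).1 y hy)

theorem exists_lifts {a : F} {x2 : Matrix κ κ F} :
    ∀ l : List (Matrix κ κ F), (∀ y ∈ l, GLSim x2 y) → ∀ r ∈ liftImg a l,
      ∃ L : List (Matrix (Unit ⊕ κ) (Unit ⊕ κ) F),
        L.length = l.length ∧
        (∀ Y ∈ L, SLSim (fromBlocks (a • (1 : Matrix Unit Unit F)) 0 0 x2) Y) ∧
        (∀ y ∈ l, ∃ Y ∈ L, ∃ s, Y = fromBlocks (a • (1 : Matrix Unit Unit F)) s 0 y) ∧
        L.prod = fromBlocks (a ^ l.length • (1 : Matrix Unit Unit F)) (replicateRow Unit r) 0 l.prod := by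
  intro l
  induction l with
  | nil =>
    intro _ r hr
    rw [liftImg, Submodule.mem_bot] at hr
    subst hr
    refine ⟨[], rfl, by simp, by simp, ?_⟩
    simp only [List.prod_nil, List.length_nil, pow_zero, one_smul]
    rw [show replicateRow Unit (0 : κ → F) = 0 by ext i j; rfl, fromBlocks_one]
  | cons y l ih =>
    intro hl r hr
    obtain ⟨r1, ⟨r', hr', rfl⟩, r2, ⟨ψ, rfl⟩, rfl⟩ := Submodule.mem_sup.1 hr
    obtain ⟨L, e1, e2, e3, e4⟩ := ih (fun z hz => hl z (List.mem_cons_of_mem _ hz)) r' hr'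
    obtain ⟨Q, hQ, hQe⟩ := hl y List.mem_cons_self
    set Ψ : Matrix Unit κ F := replicateRow Unit ψ with hΨ
    set Y := fromBlocks (a • (1 : Matrix Unit Unit F)) (Ψ * (y - a • 1)) 0 y with hY
    refine ⟨Y :: L, by simp [e1], ?_, ?_, ?_⟩
    · intro Z hZ
      rcases List.mem_cons.1 hZ with rfl | hZ
      · refine ⟨fromBlocks (Q.det⁻¹ • 1) (Ψ * Q) 0 Q, by
          rw [det_fromBlocks_zero₂₁, det_smul, det_one, Fintype.card_unit, pow_one, mul_one,
            inv_mul_cancel₀ hQ], ?_⟩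
        rw [hY, fromBlocks_multiply, fromBlocks_multiply]
        congr 1
        · simp [smul_smul, mul_comm]
        · rw [Matrix.mul_sub, Matrix.mul_smul, Matrix.mul_one, Matrix.sub_mul, Matrix.smul_mul,
            Matrix.mul_assoc Ψ Q, hQe, ← Matrix.mul_assoc]
          simp
        · simp
        · simp [hQe]
      · exact e2 Z hZ
    · intro z hz
      rcases List.mem_cons.1 hz with rfl | hz
      · exact ⟨Y, List.mem_cons_self, _, hY⟩
      · obtain ⟨Z, hZ, hs⟩ := e3 z hz
        exact ⟨Z, List.mem_cons_of_mem _ hZ, hs⟩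
    · rw [List.prod_cons, e4, hY, fromBlocks_multiply, List.prod_cons, List.length_cons]
      congr 1
      · simp [smul_smul, pow_succ', mul_comm]
      · ext i j
        simp [hΨ, Matrix.mul_assoc, Matrix.mul_apply, Matrix.vecMul, dotProduct]
      · simp
      · simp

/-- Products of `k + 1` conjugates of `a ⊕ x₂` cover the non-scalar matrices (similarity below). -/
theorem peel_gl [Fintype F] {x2 : Matrix κ κ F} (hκ : 2 ≤ Fintype.card κ) (hx2 : Nonscalar x2)
    (hd : x2.det ≠ 0) {a : F} (ha : a ≠ 0) {k : ℕ}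
    (hk : ∀ H : Matrix κ κ F, Nonscalar H → H.det = x2.det ^ k → GLPowNC x2 k H)
    (g : Matrix (Unit ⊕ κ) (Unit ⊕ κ) F) (hg : Nonscalar g)
    (hgd : g.det = (fromBlocks (a • (1 : Matrix Unit Unit F)) 0 0 x2).det ^ (k + 1)) :
    InPowNC (fromBlocks (a • (1 : Matrix Unit Unit F)) 0 0 x2) (k + 1) g := by
  classical
  set x := fromBlocks (a • (1 : Matrix Unit Unit F)) 0 0 x2 with hx
  have h3 : 3 ≤ Fintype.card (Unit ⊕ κ) := by rw [Fintype.card_sum, Fintype.card_unit]; omega
  obtain ⟨j0⟩ : Nonempty κ := Fintype.card_pos_iff.1 (by omega)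
  set e0 : Unit ⊕ κ → F := Sum.elim 1 0 with he0
  have he0ne : e0 ≠ 0 := fun e => one_ne_zero (congrFun e (Sum.inl ()))
  -- put a vector which is moved first
  obtain ⟨v, hv⟩ := hg.exists_noneigen
  have hv0 : v ≠ 0 := fun e => hv 0 (by rw [e, Matrix.mulVec_zero, smul_zero])
  obtain ⟨P, hP, hPe, hPj⟩ := exists_sl_pair h3
    (indep_pair he0ne (w := Sum.elim 0 (Pi.single j0 1)) fun c e => by
      have := congrFun e (Sum.inr j0)
      simp [he0] at this)
    (indep_pair hv0 hv)
  have hPu : IsUnit P.det := by rw [hP]; exact isUnit_one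
  suffices h : ∀ g' : Matrix (Unit ⊕ κ) (Unit ⊕ κ) F, g'.det = x.det ^ (k + 1) →
      g'.toBlocks₂₁ ≠ 0 → InPowNC x (k + 1) g' by
    refine (h (P⁻¹ * g * P) ?_ ?_).of_slSim ⟨P, hP, ?_⟩
    · rw [det_mul, det_mul, det_nonsing_inv, hP, Ring.inverse_one, one_mul, mul_one, hgd]
    · intro e
      have h1 : (P⁻¹ * g * P) *ᵥ e0 = Sum.elim (0 : Unit → F) (Pi.single j0 1) := by
        rw [← Matrix.mulVec_mulVec, hPe, ← Matrix.mulVec_mulVec, ← hPj, Matrix.mulVec_mulVec,
          Matrix.nonsing_inv_mul P hPu, Matrix.one_mulVec]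
      rw [← fromBlocks_toBlocks (P⁻¹ * g * P), e, he0, fromBlocks_mulVec] at h1
      have := congrFun h1 (Sum.inr j0)
      simp at this
    · rw [← Matrix.mul_assoc, ← Matrix.mul_assoc, Matrix.mul_nonsing_inv P hPu, Matrix.one_mul]
  clear hgd hg hv hv0 hPe hPj hPu hP P v g
  intro g hgd hgn
  have hxd : x.det = a * x2.det := by
    rw [hx, det_fromBlocks_zero₂₁, det_smul, det_one, Fintype.card_unit, pow_one, mul_one]
  have hxd0 : x.det ≠ 0 := by rw [hxd]; exact mul_ne_zero ha hd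
  have hgd0 : g.det ≠ 0 := by rw [hgd]; exact pow_ne_zero _ hxd0
  set w : Unit ⊕ κ → F := (a ^ k)⁻¹ • (g *ᵥ e0) with hw
  have hwn : ∀ c : F, w ≠ c • e0 := fun c e => hgn (by
    ext i u
    have h1 := congrFun e (Sum.inr i)
    simp only [hw, he0, Pi.smul_apply, Sum.elim_inr, Pi.zero_apply, smul_eq_mul, mul_zero,
      mul_eq_zero, inv_eq_zero, pow_eq_zero_iff', ha, false_and, false_or] at h1
    simpa [toBlocks₂₁, Matrix.mulVec, dotProduct] using h1)
  -- a conjugate with the required image, and a good one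
  suffices h : ∃ y, SLSim x y ∧ y *ᵥ e0 = w ∧ Nonscalar (y⁻¹ * g).toBlocks₂₂ by
    obtain ⟨y, hy, hye, hns⟩ := h
    have hyd : y.det = x.det := hy.glSim.det_eq.symm
    have hyu : IsUnit y.det := isUnit_iff_ne_zero.2 (by rw [hyd]; exact hxd0)
    set M := y⁻¹ * g with hM
    have hMe : M *ᵥ e0 = a ^ k • e0 := by
      have h1 : g *ᵥ e0 = a ^ k • w := by
        rw [hw, smul_smul, mul_inv_cancel₀ (pow_ne_zero _ ha), one_smul]
      rw [hM, ← Matrix.mulVec_mulVec, h1, ← hye, Matrix.mulVec_smul, Matrix.mulVec_mulVec,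
        Matrix.nonsing_inv_mul y hyu, Matrix.one_mulVec]
    have hMb : M = fromBlocks (a ^ k • 1) M.toBlocks₁₂ 0 M.toBlocks₂₂ := by
      conv_lhs => rw [← fromBlocks_toBlocks M]
      congr 1
      · ext i j
        have h1 := congrFun hMe (Sum.inl i)
        simpa [he0, toBlocks₁₁, Matrix.mulVec, dotProduct, Matrix.one_apply] using h1
      · ext i j
        have h1 := congrFun hMe (Sum.inr i)
        simpa [he0, toBlocks₂₁, Matrix.mulVec, dotProduct] using h1
    have hHd : M.toBlocks₂₂.det = x2.det ^ k := by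
      have h1 : M.det = a ^ k * M.toBlocks₂₂.det := by
        conv_lhs => rw [hMb]
        rw [det_fromBlocks_zero₂₁, det_smul, det_one, Fintype.card_unit, pow_one, mul_one]
      have h2 : M.det = x.det ^ k := by
        rw [hM, det_mul, det_nonsing_inv, Ring.inverse_eq_inv', hyd, hgd, pow_succ, mul_comm (x.det ^ k),
          ← mul_assoc, inv_mul_cancel₀ hxd0, one_mul]
      rw [h2, hxd, mul_pow] at h1
      exact (mul_left_cancel₀ (pow_ne_zero _ ha) h1).symm
    obtain ⟨l, e1, e2, e3, e4⟩ := hk _ hns hHd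
    obtain ⟨L, f1, f2, f3, f4⟩ := exists_lifts l e2 (M.toBlocks₁₂ ()) (by
      rw [liftImg_top ha e4]; trivial)
    refine ⟨y :: L, by simp [f1, e1], ?_, ?_, ?_⟩
    · intro Z hZ
      rcases List.mem_cons.1 hZ with rfl | hZ
      · exact hy
      · exact f2 Z hZ
    · rw [List.prod_cons, f4, e1, e3, show replicateRow Unit (M.toBlocks₁₂ ()) = M.toBlocks₁₂ from
        by ext i j; rfl, ← hMb, hM, ← Matrix.mul_assoc, Matrix.mul_nonsing_inv y hyu, Matrix.one_mul]
    · intro v hv c
      by_cases hz : v ∘ Sum.inr = 0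
      · refine ⟨y, List.mem_cons_self, fun e => ?_⟩
        have hve : v = v (Sum.inl ()) • e0 := by
          funext i
          rcases i with i | i
          · simp [he0]
          · simpa [he0] using congrFun hz i
        have ht : v (Sum.inl ()) ≠ 0 := fun e' => hv (by rw [hve, e', zero_smul])
        rw [hve, Matrix.mulVec_smul, hye, smul_comm c] at e
        exact hwn c (smul_right_injective _ ht e)
      · obtain ⟨z, hz1, hz2⟩ := e4 _ hz c
        obtain ⟨Z, hZ, s, rfl⟩ := f3 z hz1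
        refine ⟨_, List.mem_cons_of_mem _ hZ, fun e => hz2 ?_⟩
        rw [fromBlocks_mulVec] at e
        funext i
        simpa using congrFun e (Sum.inr i)
  obtain ⟨u, hu⟩ := hx2.exists_noneigen
  have hu0 : u ≠ 0 := fun e => hu 0 (by rw [e, Matrix.mulVec_zero, smul_zero])
  set z : Unit ⊕ κ → F := Sum.elim 0 u with hz
  have hxz : x *ᵥ z = Sum.elim (0 : Unit → F) (x2 *ᵥ u) := by
    rw [hx, hz, fromBlocks_mulVec]
    simp
  obtain ⟨P, hP, hPe, hPw⟩ := exists_sl_pair h3 (indep_pair he0ne hwn)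
    (indep_pair (v := z) (w := x *ᵥ z) (fun e => hu0 (funext fun i => congrFun e (Sum.inr i)))
      fun c e => hu c (funext fun i => by
        rw [hxz] at e; simpa [hz] using congrFun e (Sum.inr i)))
  have hPu : IsUnit P.det := by rw [hP]; exact isUnit_one
  set y := P⁻¹ * x * P with hy
  have hys : SLSim x y := ⟨P⁻¹, by rw [det_nonsing_inv, hP, Ring.inverse_one], by
    rw [hy, Matrix.mul_assoc (P⁻¹ * x), Matrix.mul_nonsing_inv P hPu, Matrix.mul_one]⟩
  have hye : y *ᵥ e0 = w := by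
    rw [hy, ← Matrix.mulVec_mulVec, hPe, ← Matrix.mulVec_mulVec, ← hPw, Matrix.mulVec_mulVec,
      Matrix.nonsing_inv_mul P hPu, Matrix.one_mulVec]
  have hyu : IsUnit y.det := isUnit_iff_ne_zero.2 (by rw [← hys.glSim.det_eq]; exact hxd0)
  by_cases hns : Nonscalar (y⁻¹ * g).toBlocks₂₂
  · exact ⟨y, hys, hye, hns⟩
  simp only [Nonscalar, not_forall, not_not] at hns
  obtain ⟨h, hh⟩ := hns
  obtain ⟨ψ, hψ, hψn⟩ := exists_annihilator _
    (span_range_ne_top (m := 1) (by omega) fun _ i => g.toBlocks₂₁ i ())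
  set Ψ : Matrix Unit κ F := replicateRow Unit ψ with hΨ
  set T : Matrix (Unit ⊕ κ) (Unit ⊕ κ) F := fromBlocks 1 Ψ 0 1 with hT
  set T' : Matrix (Unit ⊕ κ) (Unit ⊕ κ) F := fromBlocks 1 (-Ψ) 0 1 with hT'
  have hTT : T * T' = 1 := by simp [hT, hT', fromBlocks_multiply, fromBlocks_one]
  have hTT' : T' * T = 1 := by simp [hT, hT', fromBlocks_multiply, fromBlocks_one]
  have hTe : T *ᵥ e0 = e0 := by
    rw [hT, he0, fromBlocks_mulVec]
    funext i
    rcases i with i | i <;> simp
  have hTw : T *ᵥ w = w := by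
    have hn : ψ ⬝ᵥ (fun i => g.toBlocks₂₁ i ()) = 0 := hψn _ (Submodule.subset_span ⟨0, rfl⟩)
    rw [hw, Matrix.mulVec_smul]
    congr 1
    rw [hT, fromBlocks_mulVec]
    funext i
    rcases i with i | i
    · simp only [Sum.elim_inl, Pi.add_apply, Matrix.one_mulVec, Function.comp_apply, add_eq_left]
      simpa [hΨ, he0, toBlocks₂₁, Matrix.mulVec, dotProduct] using hn
    · simp
  refine ⟨T * y * T', hys.trans ⟨T, ?_, ?_⟩, ?_, ?_⟩
  · rw [hT, det_fromBlocks_zero₂₁, det_one, det_one, one_mul]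
  · rw [Matrix.mul_assoc (T * y), hTT', Matrix.mul_one]
  · have hT'e : T' *ᵥ e0 = e0 := by
      conv_rhs => rw [← Matrix.one_mulVec e0, ← hTT', ← Matrix.mulVec_mulVec, hTe]
    rw [← Matrix.mulVec_mulVec, hT'e, ← Matrix.mulVec_mulVec, hye, hTw]
  · have hinv : (T * y * T')⁻¹ = T * y⁻¹ * T' := by
      refine Matrix.inv_eq_right_inv ?_
      calc T * y * T' * (T * y⁻¹ * T') = T * y * (T' * T) * y⁻¹ * T' := by simp only [Matrix.mul_assoc]
        _ = 1 := by rw [hTT', Matrix.mul_one, Matrix.mul_assoc T, Matrix.mul_nonsing_inv y hyu,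
                      Matrix.mul_one, hTT]
    set m := y⁻¹.toBlocks₂₁ with hm
    have hH' : (T * y⁻¹ * T' * g).toBlocks₂₂ = h • 1 - m * (Ψ * g.toBlocks₂₂) := by
      rw [← hh]
      conv_lhs => rw [hT, hT', ← fromBlocks_toBlocks y⁻¹, ← fromBlocks_toBlocks g]
      conv_rhs => rw [← fromBlocks_toBlocks y⁻¹, ← fromBlocks_toBlocks g]
      simp only [fromBlocks_multiply, toBlocks_fromBlocks₂₂, hm]
      simp [Matrix.mul_assoc, Matrix.add_mul]
      abel
    rw [hinv]
    intro c hc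
    rw [hH', sub_eq_iff_eq_add] at hc
    set φ : κ → F := ψ ᵥ* g.toBlocks₂₂ with hφ
    have hmφ : ∀ i j, (m * (Ψ * g.toBlocks₂₂)) i j = m i () * φ j := fun i j => by
      simp [hΨ, hφ, Matrix.mul_apply, Matrix.vecMul, dotProduct]
    have hφ0 : φ ≠ 0 := fun e => hψ (by
      by_contra hne
      refine hgd0 (Matrix.exists_vecMul_eq_zero_iff.1 ⟨Sum.elim 0 ψ, fun e' => hne ?_, ?_⟩)
      · funext i; exact congrFun e' (Sum.inr i)
      · conv_lhs => rw [← fromBlocks_toBlocks g]
        rw [vecMul_fromBlocks]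
        funext i
        rcases i with i | i
        · have hn := hψn _ (Submodule.subset_span ⟨0, rfl⟩)
          simpa [Matrix.vecMul, dotProduct] using hn
        · simpa [hφ] using congrFun e i)
    have hm0 : m ≠ 0 := fun e => by
      set t := y⁻¹.toBlocks₁₁ () ()
      have h1 : y⁻¹ *ᵥ e0 = t • e0 := by
        conv_lhs => rw [← fromBlocks_toBlocks y⁻¹, ← hm, e, he0, fromBlocks_mulVec]
        funext i
        rcases i with i | i
        · simp [he0, t, Matrix.mulVec, dotProduct]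
        · simp [he0]
      have h2 : e0 = t • w := by
        rw [← hye, ← Matrix.mulVec_smul, ← h1, Matrix.mulVec_mulVec, Matrix.mul_nonsing_inv y hyu,
          Matrix.one_mulVec]
      have ht : t ≠ 0 := fun e' => he0ne (by rw [h2, e', zero_smul])
      exact hwn t⁻¹ (by rw [h2, smul_smul, inv_mul_cancel₀ ht, one_smul])
    have hcard : 2 ≤ Fintype.card κ := hκ
    obtain ⟨z', hz', hz''⟩ := exists_annihilator _
      (span_range_ne_top (m := 1) (by omega) fun _ => φ)
    have hφz : φ ⬝ᵥ z' = 0 := by rw [dotProduct_comm]; exact hz'' _ (Submodule.subset_span ⟨0, rfl⟩)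
    obtain ⟨i, hi⟩ := Function.ne_iff.1 hz'
    have hhc : h = c := by
      have h1 := congrFun (congrArg (fun A : Matrix κ κ F => A *ᵥ z') hc) i
      have h2 : ((m * (Ψ * g.toBlocks₂₂)) *ᵥ z') i = 0 := by
        simp only [Matrix.mulVec, dotProduct, hmφ, mul_assoc, ← Finset.mul_sum]
        rw [show ∑ j, φ j * z' j = 0 from hφz, mul_zero]
      simp only [Matrix.add_mulVec, Matrix.smul_mulVec, Matrix.one_mulVec, Pi.add_apply, Pi.smul_apply,
        h2, add_zero, smul_eq_mul] at h1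
      exact mul_right_cancel₀ hi h1
    obtain ⟨i, hi⟩ : ∃ i, m i () ≠ 0 := by
      by_contra hne
      push Not at hne
      exact hm0 (by ext i u; exact hne i)
    obtain ⟨j, hj⟩ := Function.ne_iff.1 hφ0
    have h3 := congrFun (congrFun hc i) j
    rw [hhc, Matrix.add_apply, hmφ, left_eq_add] at h3
    exact mul_ne_zero hi hj h3

/-- Products of `k + 1` conjugates of `a ⊕ x₂` cover the non-scalar matrices. -/
theorem peel [Fintype F] {x2 : Matrix κ κ F} (hκ : 2 ≤ Fintype.card κ) (hx2 : Nonscalar x2)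
    (hd : x2.det ≠ 0) {a : F} (ha : a ≠ 0) {k : ℕ}
    (hk : ∀ H : Matrix κ κ F, Nonscalar H → H.det = x2.det ^ k → InPowNC x2 k H)
    (g : Matrix (Unit ⊕ κ) (Unit ⊕ κ) F) (hg : Nonscalar g)
    (hgd : g.det = (fromBlocks (a • (1 : Matrix Unit Unit F)) 0 0 x2).det ^ (k + 1)) :
    InPowNC (fromBlocks (a • (1 : Matrix Unit Unit F)) 0 0 x2) (k + 1) g :=
  peel_gl hκ hx2 hd ha (fun H h1 h2 => (hk H h1 h2).glPowNC) g hg hgd

end CfsgLib.PSLCover
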