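import Cfsg.Agent.Lib.PSLCover.Small
import Cfsg.Agent.Lib.PSLCover.LU
import Cfsg.Agent.Lib.PSLCover.Peel

/-!
Two pairs give every nonscalar matrix as a product of four conjugates.
-/

set_option autoImplicit false
set_option linter.unusedSectionVars false

namespace CfsgLib.PSLCover

open Matrix Polynomial

variable {F : Type*} [Field F] {n : ℕ}

theorem rootsPoly_roots (S : Multiset F) : (rootsPoly S).roots = S :=
  Polynomial.roots_multiset_prod_X_sub_C S

theorem card_of_charpoly {T : Matrix (Fin n) (Fin n) F} {S : Multiset F} (h : T.charpoly = rootsPoly S) :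
    S.card = n := by
  have := congrArg Polynomial.natDegree h
  rwa [Matrix.charpoly_natDegree_eq_dim, Fintype.card_fin, rootsPoly,
    Polynomial.natDegree_multiset_prod_X_sub_C_eq_card, eq_comm] at this

theorem det_of_charpoly {T : Matrix (Fin n) (Fin n) F} {S : Multiset F} (h : T.charpoly = rootsPoly S) :
    T.det = S.prod := by
  have h0 := congrArg (Polynomial.eval 0) h
  rw [Matrix.eval_charpoly, map_zero, zero_sub, Matrix.det_neg, Fintype.card_fin, rootsPoly,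
    eval_multiset_prod, Multiset.map_map] at h0
  have h1 : (S.map (Polynomial.eval 0 ∘ fun s => X - C s)).prod = (-1) ^ n * S.prod := by
    rw [show (Polynomial.eval 0 ∘ fun s : F => X - C s) = fun s => -1 * s from funext fun s => by simp,
      Multiset.prod_map_mul, Multiset.map_const', Multiset.prod_replicate, card_of_charpoly h, Multiset.map_id']
  rw [h1] at h0
  exact mul_left_cancel₀ (pow_ne_zero _ (by norm_num)) h0

theorem exists_grouped [Fintype F] {S : Multiset F} (hS : S.card = n) :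
    ∃ b : Fin n → F, Grouped b ∧ (∏ i, (X - C (b i))) = rootsPoly S ∧ (∏ i, b i) = S.prod ∧
      ∀ i, b i ∈ S := by
  classical
  letI : LinearOrder F := LinearOrder.lift' (Fintype.equivFin F) (Fintype.equivFin F).injective
  have hlen : (S.sort (· ≤ ·)).length = n := by rw [Multiset.length_sort, hS]
  refine ⟨fun i => (S.sort (· ≤ ·))[(i : ℕ)]'(by rw [hlen]; exact i.isLt), ?_, ?_, ?_, fun i => ?_⟩
  · intro i j l hij hjl he
    have hs : ∀ {a b : Fin (S.sort (· ≤ ·)).length}, a ≤ b → (S.sort (· ≤ ·)).get a ≤ (S.sort (· ≤ ·)).get b :=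
      fun {a b} h => (Multiset.pairwise_sort S (· ≤ ·)).rel_get_of_le h
    refine le_antisymm ?_ ?_
    · simp only
      simp only at he
      rw [he]
      exact hs (a := ⟨j, by rw [hlen]; exact j.isLt⟩) (b := ⟨l, by rw [hlen]; exact l.isLt⟩) hjl
    · exact hs (a := ⟨i, by rw [hlen]; exact i.isLt⟩) (b := ⟨j, by rw [hlen]; exact j.isLt⟩) hij
  · conv_rhs => rw [← Multiset.sort_eq S (· ≤ ·)]
    rw [rootsPoly, Multiset.map_coe, Multiset.prod_coe, ← Fin.prod_univ_fun_getElem]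
    exact Fintype.prod_equiv (finCongr hlen.symm) _ _ fun i => rfl
  · conv_rhs => rw [← Multiset.sort_eq S (· ≤ ·)]
    rw [Multiset.prod_coe, ← Fin.prod_univ_getElem]
    exact Fintype.prod_equiv (finCongr hlen.symm) _ _ fun i => rfl
  · rw [← Multiset.mem_sort (r := (· ≤ ·))]
    exact List.getElem_mem _

theorem GLPowNC.of_glSim {ι : Type*} [Fintype ι] [DecidableEq ι] {x g g' : Matrix ι ι F} {k : ℕ}
    (h : GLPowNC x k g) (hg : GLSim g g') : GLPowNC x k g' := by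
  obtain ⟨P, hP, e⟩ := hg
  obtain ⟨l, h1, h2, h3, h4⟩ := h
  refine ⟨l.map (conjBy P), by simpa using h1, fun y hy => ?_, ?_, h4.conjBy hP⟩
  · obtain ⟨z, hz, rfl⟩ := List.mem_map.1 hy
    exact (h2 z hz).trans (glSim_conjBy hP z)
  · rw [← conjBy_prod hP, h3, conjBy_eq hP e]

/-- Two pairs cover the nonscalar matrices, given a choice of spectrum for the rank-one targets. -/
theorem glPowNC_four_gen [Fintype F] (hq : 4 ≤ Fintype.card F) {x : Matrix (Fin n) (Fin n) F}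
    (hxd : x.det ≠ 0) {S1 S2 : Multiset F} {R1 R2 L1 L2 : Set (F × F)}
    (h1 : HasPair x S1 R1 L1) (h2 : HasPair x S2 R2 L2)
    (hdisj : ∀ c, (c, c) ∈ R1 → (c, c) ∈ R2 → False)
    {g : Matrix (Fin n) (Fin n) F} (hg : Nonscalar g) (hgd : g.det = x.det ^ 4)
    (hone : ∀ (s : F) (u w : Fin n → F), g = s • 1 + vecMulVec u w → ∀ T1 : Matrix (Fin n) (Fin n) F,
      T1.charpoly = rootsPoly S1 → T1.det ≠ 0 →
      ∃ S, HasPair x S R2 L2 ∧ (s • T1⁻¹).charpoly ≠ rootsPoly S) : GLPowNC x 4 g := by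
  classical
  obtain ⟨y1, y2, hy1, hy2, hp⟩ := h1
  have hT1 : (y1 * y2).det = x.det ^ 2 := by rw [det_mul, ← hy1.det_eq, ← hy2.det_eq, sq]
  have hgd0 : g.det ≠ 0 := hgd ▸ pow_ne_zero _ hxd
  have hT10 : (y1 * y2).det ≠ 0 := hT1 ▸ pow_ne_zero _ hxd
  -- any admissible second factor gives the product
  suffices h : ∃ (S : Multiset F) (T2 g2 : Matrix (Fin n) (Fin n) F), HasPair x S R2 L2 ∧ GLSim g g2 ∧
      SplitCyclic T2 ∧ T2.charpoly = rootsPoly S ∧
      ∃ T1, SplitCyclic T1 ∧ T1.charpoly = rootsPoly S1 ∧ T1 * T2 = g2 by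
    obtain ⟨S, T2, g2, hS, hg2, hT2, hT2p, T1, hT1c, hT1p, hprod⟩ := h
    obtain ⟨z1, z2, hz1, hz2, hq2⟩ := hS
    have hd1 : T1.det ≠ 0 := by
      rw [det_of_charpoly hT1p, ← det_of_charpoly hp.poly]; exact hT10
    have hd2 : T2.det ≠ 0 := fun e => hgd0 (by rw [hg2.det_eq, ← hprod, det_mul, e, mul_zero])
    have hq0 : (z1 * z2).det ≠ 0 := by
      rw [det_mul, ← hz1.det_eq, ← hz2.det_eq]; exact mul_ne_zero hxd hxd
    obtain ⟨P, hP, eP⟩ := glSim_of_splitCyclic hp.cyc hT1c hT10 (hp.poly.trans hT1p.symm)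
    obtain ⟨Q, hQ, eQ⟩ := glSim_of_splitCyclic hq2.cyc hT2 hq0 (hq2.poly.trans hT2p.symm)
    refine GLPowNC.of_glSim (g := g2) ?_ hg2.symm
    refine ⟨[conjBy P y1, conjBy P y2, conjBy Q z1, conjBy Q z2], rfl, ?_, ?_, ?_⟩
    · intro y hy
      simp only [List.mem_cons, List.not_mem_nil, or_false] at hy
      rcases hy with rfl | rfl | rfl | rfl
      · exact (hy1.trans (glSim_conjBy hP _))
      · exact (hy2.trans (glSim_conjBy hP _))
      · exact (hz1.trans (glSim_conjBy hQ _))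
      · exact (hz2.trans (glSim_conjBy hQ _))
    · simp only [List.prod_cons, List.prod_nil, mul_one]
      rw [← Matrix.mul_assoc (conjBy P y1), ← conjBy_mul hP, ← conjBy_mul hQ, conjBy_eq hP eP,
        conjBy_eq hQ eQ, hprod]
    · intro v hv c
      by_contra h
      push Not at h
      have back : ∀ {R : Matrix (Fin n) (Fin n) F}, R.det ≠ 0 → ∀ z, conjBy R z *ᵥ v = c • v →
          z *ᵥ (R⁻¹ *ᵥ v) = c • (R⁻¹ *ᵥ v) := fun {R} hR z e => by
        have := congrArg (fun w => R⁻¹ *ᵥ w) e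
        simpa [conjBy, Matrix.mulVec_mulVec, Matrix.mulVec_smul, ← Matrix.mul_assoc,
          Matrix.nonsing_inv_mul R (isUnit_iff_ne_zero.2 hR)] using this
      have nz : ∀ {R : Matrix (Fin n) (Fin n) F}, R.det ≠ 0 → R⁻¹ *ᵥ v ≠ 0 := fun {R} hR e => hv (by
        have := congrArg (fun w => R *ᵥ w) e
        simpa [Matrix.mulVec_mulVec, Matrix.mul_nonsing_inv R (isUnit_iff_ne_zero.2 hR)] using this)
      refine hdisj c (hp.right (c, c) ⟨_, nz hP, back hP _ (h _ ?_), back hP _ (h _ ?_)⟩)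
        (hq2.right (c, c) ⟨_, nz hQ, back hQ _ (h _ ?_), back hQ _ (h _ ?_)⟩) <;> simp
  have hc1 := card_of_charpoly hp.poly
  by_cases hr : ∃ (s : F) (u w : Fin n → F), g = s • 1 + vecMulVec u w
  · obtain ⟨s, u, w, hsuw⟩ := hr
    obtain ⟨S, hS, hSne⟩ := hone s u w hsuw _ hp.poly hT10
    obtain ⟨z1, z2, hz1, hz2, hq2⟩ := hS
    have hSd : S.prod = x.det ^ 2 := by
      rw [← det_of_charpoly hq2.poly, det_mul, ← hz1.det_eq, ← hz2.det_eq, sq]
    obtain ⟨g2, hg2, hT2, hT2p⟩ := exists_rankone_split hp.cyc hT10 hg hgd0 hsuw S (card_of_charpoly hq2.poly)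
      (by rw [det_mul, Matrix.det_nonsing_inv, Ring.inverse_eq_inv', hgd, hT1, hSd]; field_simp) hSne
    refine ⟨S, _, g2, ⟨z1, z2, hz1, hz2, hq2⟩, hg2, hT2, hT2p, y1 * y2, hp.cyc, hp.poly, ?_⟩
    rw [Matrix.mul_nonsing_inv_cancel_left _ _ (isUnit_iff_ne_zero.2 hT10)]
  · push Not at hr
    obtain ⟨z1, z2, hz1, hz2, hq2⟩ := h2
    have hT2 : (z1 * z2).det = x.det ^ 2 := by rw [det_mul, ← hz1.det_eq, ← hz2.det_eq, sq]
    obtain ⟨b, hbg, hbp, hbprod, hbm⟩ := exists_grouped hc1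
    obtain ⟨c, hcg, hcp, hcprod, hcm⟩ := exists_grouped (card_of_charpoly hq2.poly)
    have hb0 : ∀ i, b i ≠ 0 := fun i e => hT10 (by
      rw [det_of_charpoly hp.poly]; exact Multiset.prod_eq_zero (e ▸ hbm i))
    have hc0 : ∀ i, c i ≠ 0 := fun i e => pow_ne_zero 2 hxd (by
      rw [← hT2, det_of_charpoly hq2.poly]; exact Multiset.prod_eq_zero (e ▸ hcm i))
    obtain ⟨L, U, hgLU, -, -, hL, hU, hLp, hUp⟩ := exists_lu hq g b c hbg hcg hb0 hc0
      (by rw [Finset.prod_mul_distrib, hbprod, hcprod, ← det_of_charpoly hp.poly, ← det_of_charpoly hq2.poly,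
        hT1, hT2, hgd]; ring) hg (fun i u w => hr _ u w)
    exact ⟨S2, U, L * U, ⟨z1, z2, hz1, hz2, hq2⟩, hgLU, hU, hUp.trans hcp, L, hL, hLp.trans hbp, rfl⟩

/-- The same, for a full centralizer determinant. -/
theorem inPowNC_four_gen [Fintype F] (hq : 4 ≤ Fintype.card F) {x : Matrix (Fin n) (Fin n) F}
    (hxd : x.det ≠ 0) (hfull : DetFull x) {S1 S2 : Multiset F} {R1 R2 L1 L2 : Set (F × F)}
    (h1 : HasPair x S1 R1 L1) (h2 : HasPair x S2 R2 L2)
    (hdisj : ∀ c, (c, c) ∈ R1 → (c, c) ∈ R2 → False)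
    {g : Matrix (Fin n) (Fin n) F} (hg : Nonscalar g) (hgd : g.det = x.det ^ 4)
    (hone : ∀ (s : F) (u w : Fin n → F), g = s • 1 + vecMulVec u w → ∀ T1 : Matrix (Fin n) (Fin n) F,
      T1.charpoly = rootsPoly S1 → T1.det ≠ 0 →
      ∃ S, HasPair x S R2 L2 ∧ (s • T1⁻¹).charpoly ≠ rootsPoly S) : InPowNC x 4 g :=
  (glPowNC_four_gen hq hxd h1 h2 hdisj hg hgd hone).inPowNC hfull

/-- Two pairs, the second with two possible spectra, cover the nonscalar matrices. -/
theorem glPowNC_four [Fintype F] (hq : 4 ≤ Fintype.card F) {x : Matrix (Fin n) (Fin n) F}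
    (hxd : x.det ≠ 0) {S1 S2 S2' : Multiset F} {R1 R2 L1 L2 : Set (F × F)}
    (h1 : HasPair x S1 R1 L1) (h2 : HasPair x S2 R2 L2) (h2' : HasPair x S2' R2 L2) (hne : S2 ≠ S2')
    (hdisj : ∀ c, (c, c) ∈ R1 → (c, c) ∈ R2 → False)
    {g : Matrix (Fin n) (Fin n) F} (hg : Nonscalar g) (hgd : g.det = x.det ^ 4) : GLPowNC x 4 g := by
  refine glPowNC_four_gen hq hxd h1 h2 hdisj hg hgd fun s u w _ T1 _ _ => ?_
  by_cases e : (s • T1⁻¹).charpoly = rootsPoly S2
  · refine ⟨S2', h2', fun e' => hne ?_⟩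
    rw [← rootsPoly_roots S2, ← e, e', rootsPoly_roots]
  · exact ⟨S2, h2, e⟩

end CfsgLib.PSLCover
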