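import Cfsg.Agent.Lib.PSLCover.Pair

/-!
Gluing pairs along a block triangular matrix.
-/

set_option autoImplicit false
set_option linter.unusedSectionVars false

namespace CfsgLib.PSLCover

open Matrix Polynomial

variable {F : Type*} [Field F] {ι κ : Type*} [Fintype ι] [DecidableEq ι] [Fintype κ] [DecidableEq κ]

theorem rootsPoly_add (S T : Multiset F) : rootsPoly (S + T) = rootsPoly S * rootsPoly T := by
  simp [rootsPoly]

theorem rootsPoly_eval_of_mem {S : Multiset F} {c : F} (h : c ∈ S) : (rootsPoly S).eval c = 0 := by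
  rw [rootsPoly, eval_multiset_prod, Multiset.prod_eq_zero_iff, Multiset.map_map, Multiset.mem_map]
  exact ⟨c, h, by simp⟩

theorem mem_of_eigen {T : Matrix ι ι F} {S : Multiset F} (hS : T.charpoly = rootsPoly S) {v : ι → F}
    {c : F} (hv : v ≠ 0) (h : T *ᵥ v = c • v) : c ∈ S :=
  eval_rootsPoly_eq_zero (hS ▸ eval_charpoly_of_right hv h)

theorem exists_eigen {T : Matrix ι ι F} {S : Multiset F} (hS : T.charpoly = rootsPoly S) {c : F}
    (h : c ∈ S) :
    (∃ v : ι → F, v ≠ 0 ∧ T *ᵥ v = c • v) ∧ ∃ w : ι → F, w ≠ 0 ∧ w ᵥ* T = c • w := by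
  have hd : (Matrix.scalar ι c - T).det = 0 := by
    rw [← Matrix.eval_charpoly, hS]; exact rootsPoly_eval_of_mem h
  refine ⟨?_, ?_⟩
  · obtain ⟨v, hv, e⟩ := Matrix.exists_mulVec_eq_zero_iff.2 hd
    refine ⟨v, hv, ?_⟩
    rw [Matrix.sub_mulVec, sub_eq_zero] at e
    rw [← e]
    funext i; simp [Matrix.scalar_apply, Matrix.mulVec_diagonal]
  · obtain ⟨w, hw, e⟩ := Matrix.exists_vecMul_eq_zero_iff.2 hd
    refine ⟨w, hw, ?_⟩
    rw [Matrix.vecMul_sub, sub_eq_zero] at e
    rw [← e]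
    funext i; simp [Matrix.scalar_apply, Matrix.vecMul_diagonal, mul_comm]

/-- Avoid fewer than `q` affine hyperplanes. -/
theorem exists_avoid_affine [Fintype F] {V : Type*} [AddCommGroup V] [Module F V] {σ : Type*}
    (f : σ → V →ₗ[F] F) (b : σ → F) (S : Finset σ) (hS : S.card < Fintype.card F)
    (hf : ∀ s ∈ S, f s ≠ 0) : ∃ v, ∀ s ∈ S, f s v + b s ≠ 0 := by
  classical
  induction S using Finset.induction_on with
  | empty => exact ⟨0, by simp⟩
  | insert a S ha ih =>
    rw [Finset.card_insert_of_notMem ha] at hS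
    obtain ⟨v, hv⟩ := ih (by omega) fun s hs => hf s (Finset.mem_insert_of_mem hs)
    obtain ⟨D, hD⟩ : ∃ D, f a D ≠ 0 := by
      by_contra h
      push Not at h
      exact hf a (Finset.mem_insert_self a S) (LinearMap.ext h)
    obtain ⟨t, -, ht⟩ := Finset.exists_mem_notMem_of_card_lt_card (t := (Finset.univ : Finset F))
      (s := (insert a S).image fun s => -(f s v + b s) / f s D)
      (lt_of_le_of_lt Finset.card_image_le (by rw [Finset.card_insert_of_notMem ha, Finset.card_univ]; exact hS))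
    refine ⟨v + t • D, fun s hs e => ?_⟩
    rw [map_add, map_smul, smul_eq_mul] at e
    by_cases hsD : f s D = 0
    · rcases Finset.mem_insert.1 hs with rfl | hs'
      · exact hD hsD
      · rw [hsD, mul_zero, add_zero] at e; exact hv s hs' e
    · refine ht (Finset.mem_image.2 ⟨s, hs, ?_⟩)
      rw [div_eq_iff hsD]
      linear_combination -e

/-- A pair on the diagonal blocks glues to a pair of the block triangular matrix. -/
theorem glue [Fintype F] {xA : Matrix ι ι F} {xB : Matrix κ κ F} (X0 : Matrix ι κ F)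
    {A1 A2 PA1 PA2 : Matrix ι ι F} {B1 B2 PB1 PB2 : Matrix κ κ F}
    (hA1 : PA1.det ≠ 0) (eA1 : PA1 * xA = A1 * PA1) (hA2 : PA2.det ≠ 0) (eA2 : PA2 * xA = A2 * PA2)
    (hB1 : PB1.det ≠ 0) (eB1 : PB1 * xB = B1 * PB1) (hB2 : PB2.det ≠ 0) (eB2 : PB2 * xB = B2 * PB2)
    (hdA : xA.det ≠ 0) {SA SB : Multiset F} {RA LA RB LB : Set (F × F)}
    (hA : IsPair A1 A2 SA RA LA) (hB : IsPair B1 B2 SB RB LB)
    (hdisj : ∀ l ∈ LA, l ∈ RB → l.1 * l.2 ∈ SA → l.1 * l.2 ∈ SB → False) :
    ∃ y1 y2 P1 P2 : Matrix (ι ⊕ κ) (ι ⊕ κ) F,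
      P1.det = PA1.det * PB1.det ∧ P1 * fromBlocks xA X0 0 xB = y1 * P1 ∧
      P2.det = PA2.det * PB2.det ∧ P2 * fromBlocks xA X0 0 xB = y2 * P2 ∧
      IsPair y1 y2 (SA + SB) (RA ∪ {l | l ∈ RB ∧ l.1 * l.2 ∉ SA}) Set.univ := by
  classical
  have uB1 : IsUnit PB1.det := isUnit_iff_ne_zero.2 hB1
  have uB2 : IsUnit PB2.det := isUnit_iff_ne_zero.2 hB2
  set X1 := PA1 * X0 * PB1⁻¹ with hX1
  set X2 := PA2 * X0 * PB2⁻¹ with hX2
  set TA := A1 * A2 with hTA
  set TB := B1 * B2 with hTB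
  have hTA0 : (0 : F) ∉ SA := fun h => by
    obtain ⟨⟨v, hv, e⟩, -⟩ := exists_eigen hA.poly h
    rw [zero_smul] at e
    refine hv (Matrix.eq_zero_of_mulVec_eq_zero ?_ e)
    have d1 : A1.det = xA.det := (GLSim.det_eq (x := xA) (y := A1) ⟨PA1, hA1, eA1⟩).symm
    have d2 : A2.det = xA.det := (GLSim.det_eq (x := xA) (y := A2) ⟨PA2, hA2, eA2⟩).symm
    rw [det_mul, d1, d2]
    exact mul_ne_zero hdA hdA
  -- eigenvectors for the shared eigenvalues
  have hexA : ∀ s, ∃ w : ι → F, s ∈ SA → w ≠ 0 ∧ w ᵥ* TA = s • w := fun s => by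
    by_cases h : s ∈ SA
    · obtain ⟨w, hw⟩ := (exists_eigen hA.poly h).2; exact ⟨w, fun _ => hw⟩
    · exact ⟨0, fun h' => absurd h' h⟩
  have hexB : ∀ s, ∃ u : κ → F, s ∈ SB → u ≠ 0 ∧ TB *ᵥ u = s • u := fun s => by
    by_cases h : s ∈ SB
    · obtain ⟨u, hu⟩ := (exists_eigen hB.poly h).1; exact ⟨u, fun _ => hu⟩
    · exact ⟨0, fun h' => absurd h' h⟩
  choose ψ hψ using hexA
  choose u hu using hexB
  let f : F → Matrix ι κ F →ₗ[F] F := fun s =>
    { toFun := fun Y => ψ s ⬝ᵥ ((A1 * (Y * B2 - A2 * Y)) *ᵥ u s)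
      map_add' := fun Y Y' => by
        rw [← dotProduct_add, ← Matrix.add_mulVec, ← Matrix.mul_add]
        congr 3
        simp only [Matrix.add_mul, Matrix.mul_add]; abel
      map_smul' := fun c Y => by
        simp only [RingHom.id_apply, Matrix.smul_mul, Matrix.mul_smul, ← smul_sub, Matrix.smul_mulVec,
          dotProduct_smul] }
  let S : Finset F := SA.toFinset ∩ SB.toFinset
  have hScard : S.card < Fintype.card F := by
    refine lt_of_le_of_lt (Finset.card_le_card (fun x hx => ?_ : S ⊆ Finset.univ.erase 0)) ?_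
    · simp only [S, Finset.mem_inter, Multiset.mem_toFinset] at hx
      exact Finset.mem_erase.2 ⟨fun e => hTA0 (e ▸ hx.1), Finset.mem_univ _⟩
    · exact Finset.card_erase_lt_of_mem (Finset.mem_univ _)
  have hfne : ∀ s ∈ S, f s ≠ 0 := by
    intro s hs hf0
    simp only [S, Finset.mem_inter, Multiset.mem_toFinset] at hs
    obtain ⟨hψ0, hψT⟩ := hψ s hs.1
    obtain ⟨hu0, huT⟩ := hu s hs.2
    have hs0 : s ≠ 0 := fun e => hTA0 (e ▸ hs.1)
    set p := ψ s ᵥ* A1 with hp
    set qv := B2 *ᵥ u s with hq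
    have hrel : ∀ (a : ι → F) (b : κ → F), (p ⬝ᵥ a) * (b ⬝ᵥ qv) = s * ((ψ s ⬝ᵥ a) * (b ⬝ᵥ u s)) := by
      intro a b
      have h : ψ s ⬝ᵥ ((A1 * (vecMulVec a b * B2 - A2 * vecMulVec a b)) *ᵥ u s) = 0 := by
        have := LinearMap.congr_fun hf0 (vecMulVec a b)
        simpa [f] using this
      rw [Matrix.mul_sub, Matrix.sub_mulVec, dotProduct_sub, sub_eq_zero, ← Matrix.mulVec_mulVec,
        ← Matrix.mulVec_mulVec, ← hq, ← Matrix.mul_assoc, ← hTA, ← Matrix.mulVec_mulVec,
        Matrix.vecMulVec_mulVec, Matrix.vecMulVec_mulVec] at h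
      simp only [op_smul_eq_smul, Matrix.mulVec_smul, dotProduct_smul, Matrix.dotProduct_mulVec (ψ s), ← hp,
        hψT, smul_dotProduct, smul_eq_mul] at h
      linear_combination h
    obtain ⟨i, hi⟩ := Function.ne_iff.1 hψ0
    set a0 : ι → F := Pi.single i (ψ s i)⁻¹ with ha0
    have ha0v : ψ s ⬝ᵥ a0 = 1 := by rw [ha0, dotProduct_single]; exact mul_inv_cancel₀ hi
    set α := p ⬝ᵥ a0 with hα
    have hq' : α • qv = s • u s := funext fun j => by
      have := hrel a0 (Pi.single j 1)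
      rw [ha0v, single_dotProduct, single_dotProduct] at this
      simpa using this
    have hα0 : α ≠ 0 := fun e => hu0 (by
      rw [e, zero_smul] at hq'
      exact (smul_eq_zero.1 hq'.symm).resolve_left hs0)
    have hB2u : B2 *ᵥ u s = (s / α) • u s := by
      rw [← hq, div_eq_inv_mul, ← smul_smul, ← hq', inv_smul_smul₀ hα0]
    have hp' : p = α • ψ s := funext fun k => by
      obtain ⟨j, hj⟩ := Function.ne_iff.1 hu0
      have := hrel (Pi.single k 1) (Pi.single j 1)
      rw [dotProduct_single, dotProduct_single, single_dotProduct, single_dotProduct, hq, hB2u] at this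
      simp only [mul_one, one_mul, Pi.smul_apply, smul_eq_mul] at this
      rw [Pi.smul_apply, smul_eq_mul]
      refine mul_right_cancel₀ (mul_ne_zero hs0 hj) ?_
      rw [show p k * (s / α * u s j) = p k * (s * u s j) / α by ring, div_eq_iff hα0] at this
      linear_combination this
    refine hdisj (α, s / α) (hA.left _ ⟨ψ s, hψ0, hp ▸ hp', ?_⟩) (hB.right _ ⟨u s, hu0, ?_, hB2u⟩)
      ?_ ?_
    · have h := hψT
      rw [hTA, ← Matrix.vecMul_vecMul, ← hp, hp', Matrix.smul_vecMul] at h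
      show ψ s ᵥ* A2 = (s / α) • ψ s
      rw [div_eq_inv_mul, ← smul_smul, ← h, inv_smul_smul₀ hα0]
    · have h := huT
      rw [hTB, ← Matrix.mulVec_mulVec, hB2u, Matrix.mulVec_smul] at h
      show B1 *ᵥ u s = α • u s
      have h' := congrArg (fun z => (α / s) • z) h
      simp only [smul_smul] at h'
      rw [show α / s * (s / α) = 1 by field_simp, one_smul] at h'
      rw [h', show α / s * s = α by field_simp]
    · show α * (s / α) ∈ SA
      rw [mul_div_cancel₀ _ hα0]; exact hs.1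
    · show α * (s / α) ∈ SB
      rw [mul_div_cancel₀ _ hα0]; exact hs.2
  obtain ⟨Y, hY⟩ := exists_avoid_affine f (fun s => ψ s ⬝ᵥ ((A1 * X2 + X1 * B2) *ᵥ u s)) S hScard hfne
  set Z := A1 * (X2 + (Y * B2 - A2 * Y)) + X1 * B2 with hZ
  have hZne : ∀ s, s ∈ SA → s ∈ SB → ψ s ⬝ᵥ (Z *ᵥ u s) ≠ 0 := by
    intro s h1 h2
    have := hY s (by simp [S, h1, h2])
    convert this using 1
    simp only [f, LinearMap.coe_mk, AddHom.coe_mk, hZ, Matrix.mul_add, Matrix.add_mulVec, dotProduct_add]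
    ring
  set y1 := fromBlocks A1 X1 0 B1 with hy1
  set y2 := fromBlocks A2 (X2 + (Y * B2 - A2 * Y)) 0 B2 with hy2
  have hT : y1 * y2 = fromBlocks TA Z 0 TB := by
    simp [hy1, hy2, hTA, hTB, hZ, Matrix.fromBlocks_multiply]
  have hpoly : (y1 * y2).charpoly = rootsPoly (SA + SB) := by
    rw [hT, Matrix.charpoly_fromBlocks_zero₂₁, hA.poly, hB.poly, rootsPoly_add]
  -- eigenvectors with an eigenvalue of the top block lie in the top block
  have hlow : ∀ (c : F) (v : ι ⊕ κ → F), (y1 * y2) *ᵥ v = c • v →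
      TA *ᵥ (v ∘ Sum.inl) + Z *ᵥ (v ∘ Sum.inr) = c • (v ∘ Sum.inl) ∧
      TB *ᵥ (v ∘ Sum.inr) = c • (v ∘ Sum.inr) := by
    intro c v hv
    rw [hT, Matrix.fromBlocks_mulVec] at hv
    exact ⟨funext fun i => by simpa using congrFun hv (Sum.inl i),
      funext fun i => by simpa using congrFun hv (Sum.inr i)⟩
  have hzero : ∀ (c : F) (v : ι ⊕ κ → F), (y1 * y2) *ᵥ v = c • v → c ∈ SA → v ∘ Sum.inr = 0 := by
    intro c v hv hc
    obtain ⟨e1, e2⟩ := hlow c v hv
    by_contra hne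
    have hcB : c ∈ SB := mem_of_eigen hB.poly hne e2
    obtain ⟨hψ0, hψT⟩ := hψ c hc
    obtain ⟨hu0, huT⟩ := hu c hcB
    obtain ⟨t, ht⟩ := hB.cyc.2 c (u c) _ huT e2 hu0
    have h := congrArg (fun z => ψ c ⬝ᵥ z) e1
    simp only [dotProduct_add, dotProduct_smul, Matrix.dotProduct_mulVec, hψT, smul_dotProduct] at h
    rw [add_eq_left, ht, dotProduct_smul, ← Matrix.dotProduct_mulVec, smul_eq_mul] at h
    rcases mul_eq_zero.1 h with h0 | h0
    · exact hne (by rw [ht, h0, zero_smul])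
    · exact hZne c hc hcB h0
  refine ⟨y1, y2, fromBlocks PA1 0 0 PB1, fromBlocks PA2 (Y * PB2) 0 PB2, ?_, ?_, ?_, ?_, ?_⟩
  · rw [Matrix.det_fromBlocks_zero₂₁]
  · rw [hy1, Matrix.fromBlocks_multiply, Matrix.fromBlocks_multiply, hX1]
    simp [eA1, eB1, Matrix.mul_assoc, Matrix.nonsing_inv_mul PB1 uB1]
  · rw [Matrix.det_fromBlocks_zero₂₁]
  · rw [hy2, Matrix.fromBlocks_multiply, Matrix.fromBlocks_multiply, hX2]
    simp only [eA2, eB2, Matrix.mul_zero, Matrix.zero_mul, add_zero, zero_add, Matrix.add_mul, Matrix.sub_mul,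
      Matrix.mul_assoc, Matrix.nonsing_inv_mul PB2 uB2, Matrix.mul_one]
    congr 1
    abel
  refine ⟨⟨⟨_, hpoly⟩, fun c v w hv hw hv0 => ?_⟩, hpoly, ?_, fun _ _ => Set.mem_univ _⟩
  · obtain ⟨ev1, ev2⟩ := hlow c v hv
    obtain ⟨ew1, ew2⟩ := hlow c w hw
    by_cases hc : c ∈ SA
    · have hv2 := hzero c v hv hc
      have hw2 := hzero c w hw hc
      rw [hv2, Matrix.mulVec_zero, add_zero] at ev1
      rw [hw2, Matrix.mulVec_zero, add_zero] at ew1
      have hv1 : v ∘ Sum.inl ≠ 0 := fun h => hv0 (funext fun i => by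
        cases i with
        | inl i => exact congrFun h i
        | inr i => exact congrFun hv2 i)
      obtain ⟨a, ha⟩ := hA.cyc.2 c _ _ ev1 ew1 hv1
      refine ⟨a, funext fun i => ?_⟩
      cases i with
      | inl i => exact congrFun ha i
      | inr i =>
        have p1 := congrFun hv2 i
        have p2 := congrFun hw2 i
        simp only [Function.comp_apply, Pi.zero_apply] at p1 p2
        simp [p1, p2]
    · have key : ∀ z : ι ⊕ κ → F, (y1 * y2) *ᵥ z = c • z → z ∘ Sum.inr = 0 → z = 0 := by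
        intro z hz hz2
        have h1 := (hlow c z hz).1
        rw [hz2, Matrix.mulVec_zero, add_zero] at h1
        have hz1 : z ∘ Sum.inl = 0 := by
          by_contra h
          exact hc (mem_of_eigen hA.poly h h1)
        funext i
        cases i with
        | inl i => exact congrFun hz1 i
        | inr i => exact congrFun hz2 i
      have hv2 : v ∘ Sum.inr ≠ 0 := fun h => hv0 (key v hv h)
      obtain ⟨a, ha⟩ := hB.cyc.2 c _ _ ev2 ew2 hv2
      refine ⟨a, sub_eq_zero.1 (key _ ?_ ?_)⟩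
      · rw [Matrix.mulVec_sub, Matrix.mulVec_smul, hv, hw, smul_sub, smul_comm]
      · funext i
        have := congrFun ha i
        simp only [Function.comp_apply, Pi.smul_apply] at this
        simp [this]
  · rintro l ⟨v, hv0, e1, e2⟩
    have hlow1 := e1
    have hlow2 := e2
    rw [hy1, Matrix.fromBlocks_mulVec] at hlow1
    rw [hy2, Matrix.fromBlocks_mulVec] at hlow2
    by_cases h2 : v ∘ Sum.inr = 0
    · refine Or.inl (hA.right l ⟨v ∘ Sum.inl, fun h => hv0 (funext fun i => ?_), ?_, ?_⟩)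
      · cases i with
        | inl i => exact congrFun h i
        | inr i => exact congrFun h2 i
      · funext i; simpa [h2] using congrFun hlow1 (Sum.inl i)
      · funext i; simpa [h2] using congrFun hlow2 (Sum.inl i)
    · refine Or.inr ⟨hB.right l ⟨v ∘ Sum.inr, h2, ?_, ?_⟩, fun hc => h2 (hzero _ v (CommonR.mul e1 e2) hc)⟩
      · funext i; simpa using congrFun hlow1 (Sum.inr i)
      · funext i; simpa using congrFun hlow2 (Sum.inr i)

end CfsgLib.PSLCover
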