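import Cfsg.Agent.Lib.PSLCover.Wrapper

/-!
Some element of `PSL_n` is not a product of `n - 1` conjugates of a transvection.
-/

set_option autoImplicit false

namespace CfsgLib.PSLCover

open Matrix

variable {F : Type*} [Field F]

theorem list_prod_mulVec_fix {n : ℕ} (v : Fin n → F) :
    ∀ l : List (Matrix (Fin n) (Fin n) F), (∀ y ∈ l, y *ᵥ v = v) → l.prod *ᵥ v = v
  | [], _ => by simp
  | a :: l, h => by
    rw [List.prod_cons, ← mulVec_mulVec, list_prod_mulVec_fix v l (fun y hy => h y (List.mem_cons_of_mem _ hy)),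
      h a List.mem_cons_self]

/-- A matrix of determinant one without eigenvalues in `F`. -/
theorem exists_det_one_no_eigen [Fintype F] (m : ℕ) (hm : 2 ≤ m) :
    ∃ G : Matrix (Fin (m + 1)) (Fin (m + 1)) F, G.det = 1 ∧
      ∀ (t : F) (v : Fin (m + 1) → F), t ≠ 0 → G *ᵥ v = t • v → v = 0 := by
  classical
  obtain ⟨a, ha⟩ : ∃ a : F, ∀ t : F, t ≠ 0 → a ≠ (-1 : F) ^ m / t - t ^ m := by
    by_contra hc
    push Not at hc
    have hsurj : Function.Surjective fun t : {t : F // t ≠ 0} => (-1 : F) ^ m / (t : F) - (t : F) ^ m := fun a => by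
      obtain ⟨t, ht, e⟩ := hc a
      exact ⟨⟨t, ht⟩, e.symm⟩
    have h1 := Fintype.card_le_of_surjective _ hsurj
    have h2 : Fintype.card {t : F // t ≠ 0} < Fintype.card F :=
      Fintype.card_subtype_lt (x := (0 : F)) (by simp)
    omega
  set G : Matrix (Fin (m + 1)) (Fin (m + 1)) F := Matrix.of fun i j =>
    if i.val = 0 then (if j.val = m then (-1 : F) ^ m else 0)
    else if j.val + 1 = i.val then 1 else if i.val = 1 ∧ j.val = m then -a else 0 with hG
  refine ⟨G, ?_, ?_⟩
  · rw [det_succ_row_zero, Finset.sum_eq_single (Fin.last m)]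
    · have hsub : G.submatrix Fin.succ (Fin.last m).succAbove = 1 := by
        ext i j
        have := j.isLt
        simp only [hG, submatrix_apply, of_apply, Fin.succAbove_last, Fin.val_succ, Fin.val_castSucc,
          Matrix.one_apply, Fin.ext_iff]
        split_ifs <;> first | rfl | omega | contradiction
      rw [hsub, det_one, mul_one, hG]
      simp only [of_apply, Fin.val_last, Fin.val_zero, if_pos]
      rw [← pow_add, ← two_mul, pow_mul, neg_one_sq, one_pow]
    · intro j _ hj
      have : j.val ≠ m := fun h => hj (Fin.ext h)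
      simp [hG, this]
    · simp
  · intro t v ht hv
    have hrow : ∀ (i j : Fin (m + 1)), (∀ k, k ≠ j → G i k = 0) → G i j * v j = t * v i := by
      intro i j h
      have := congrFun hv i
      rw [Matrix.mulVec, dotProduct, Finset.sum_eq_single j (fun k _ hk => by rw [h k hk, zero_mul]) (by simp)] at this
      exact this
    set w := v (Fin.last m) with hw
    have h0 : (-1 : F) ^ m * w = t * v 0 := by
      have := hrow 0 (Fin.last m) fun k hk => by
        have : k.val ≠ m := fun h => hk (Fin.ext h)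
        simp [hG, this]
      simpa [hG] using this
    have hup : ∀ k : ℕ, k < m → ∀ i : Fin (m + 1), i.val + k = m → v i = t ^ k * w := by
      intro k
      induction k with
      | zero => intro _ i hi; rw [pow_zero, one_mul, hw]; congr 1; exact Fin.ext hi
      | succ k ih =>
        intro hk i hi
        set i' : Fin (m + 1) := ⟨i.val + 1, by omega⟩
        have := hrow i' i fun k' hk' => by
          have : k'.val ≠ i.val := fun h => hk' (Fin.ext h)
          simp only [hG, of_apply, i']
          split_ifs <;> first | rfl | omega | contradiction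
        rw [ih (by omega) i' (by simp only [i']; omega)] at this
        simp only [hG, of_apply, i'] at this
        simp only [if_true, one_mul, Nat.add_eq_zero_iff, one_ne_zero, and_false, if_false] at this
        rw [this]
        ring
    set i1 : Fin (m + 1) := ⟨1, by omega⟩
    have h1 : v 0 - a * w = t * v i1 := by
      have := congrFun hv i1
      rw [Matrix.mulVec, dotProduct, Finset.sum_eq_add (0 : Fin (m + 1)) (Fin.last m)
        (Fin.ne_of_val_ne (by simp; omega)) ?_ (by simp) (by simp)] at this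
      · simp only [hG, of_apply, i1, Fin.val_zero, Fin.val_last, Pi.smul_apply, smul_eq_mul] at this
        have hm0 : ¬ m = 0 := by omega
        simp only [one_ne_zero, if_false, zero_add, if_true, Nat.add_eq_right, hm0, and_self, one_mul, neg_mul, ← sub_eq_add_neg] at this
        exact this
      · intro c _ hc
        have c0 : c.val ≠ 0 := fun h => hc.1 (Fin.ext h)
        have cm : c.val ≠ m := fun h => hc.2 (Fin.ext h)
        simp [hG, i1, c0, cm]
    have hi1 := hup (m - 1) (by omega) i1 (by simp only [i1]; omega)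
    have hv0 : v 0 = (a + t ^ m) * w := by
      rw [hi1, ← mul_assoc, ← pow_succ', show m - 1 + 1 = m by omega] at h1
      linear_combination h1
    have hw0 : w = 0 := by
      rw [hv0] at h0
      by_contra hne
      refine ha t ht ?_
      have h2 : (-1 : F) ^ m = t * (a + t ^ m) := mul_right_cancel₀ hne (by rw [h0]; ring)
      rw [h2]
      field_simp
      ring
    funext i
    rcases Nat.eq_zero_or_pos i.val with hi | hi
    · rw [show i = 0 from Fin.ext hi, hv0, hw0, mul_zero]; rfl
    · rw [hup (m - i.val) (by omega) i (by omega), hw0, mul_zero]; rfl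

theorem lower_bound [Fintype F] (n : ℕ) (hn : 3 ≤ n) :
    ∃ x : ProjectiveSpecialLinearGroup (Fin n) F, x ≠ 1 ∧ ∃ g : ProjectiveSpecialLinearGroup (Fin n) F,
      ∀ f : Fin (n - 1) → ProjectiveSpecialLinearGroup (Fin n) F,
        g ≠ (List.ofFn fun i => f i * x * (f i)⁻¹).prod := by
  obtain ⟨m, rfl⟩ : ∃ m, n = m + 1 := ⟨n - 1, by omega⟩
  obtain ⟨G, hGdet, hG⟩ := exists_det_one_no_eigen (F := F) m (by omega)
  have hij : (0 : Fin (m + 1)) ≠ ⟨1, by omega⟩ := by simp [Fin.ext_iff]
  set X : Matrix.SpecialLinearGroup (Fin (m + 1)) F := Matrix.SpecialLinearGroup.transvection hij 1 with hX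
  refine ⟨X, ?_, QuotientGroup.mk (s := Subgroup.center (Matrix.SpecialLinearGroup (Fin (m + 1)) F)) ⟨G, hGdet⟩, ?_⟩
  · intro h
    obtain ⟨r, -, hr⟩ := Matrix.SpecialLinearGroup.mem_center_iff.1 ((QuotientGroup.eq_one_iff X).1 h)
    have := congrFun (congrFun hr 0) ⟨1, by omega⟩
    simp [hX, Matrix.SpecialLinearGroup.transvection_coe, Matrix.one_apply, hij] at this
  intro f heq
  choose P hP using fun i => QuotientGroup.mk_surjective (f i)
  have hfac : (List.ofFn fun i => f i * (X : ProjectiveSpecialLinearGroup (Fin (m + 1)) F) * (f i)⁻¹).prod =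
      (((List.ofFn fun i => P i * X * (P i)⁻¹).prod : Matrix.SpecialLinearGroup (Fin (m + 1)) F) :
        ProjectiveSpecialLinearGroup (Fin (m + 1)) F) := by
    have h := map_list_prod (QuotientGroup.mk' (Subgroup.center (Matrix.SpecialLinearGroup (Fin (m + 1)) F)))
      (List.ofFn fun i => P i * X * (P i)⁻¹)
    rw [List.map_ofFn] at h
    refine Eq.trans ?_ h.symm
    simp only [← hP]
    rfl
  rw [hfac] at heq
  replace heq := QuotientGroup.eq.1 heq
  obtain ⟨r, hr1, hr⟩ := Matrix.SpecialLinearGroup.mem_center_iff.1 heq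
  -- a common fixed vector
  set L : (Fin (m + 1) → F) →ₗ[F] (Fin (m + 1 - 1) → F) :=
    LinearMap.pi fun i => (LinearMap.proj ⟨1, by omega⟩).comp
      (Matrix.mulVecLin (((P i)⁻¹ : Matrix.SpecialLinearGroup (Fin (m + 1)) F) : Matrix (Fin (m + 1)) (Fin (m + 1)) F))
    with hL
  obtain ⟨v, hv, hv0⟩ := Submodule.exists_mem_ne_zero_of_ne_bot
    (LinearMap.ker_ne_bot_of_finrank_lt (f := L)
      (by rw [Module.finrank_fintype_fun_eq_card, Module.finrank_fintype_fun_eq_card, Fintype.card_fin, Fintype.card_fin]; omega))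
  have hfix : ∀ i, ((P i * X * (P i)⁻¹ : Matrix.SpecialLinearGroup (Fin (m + 1)) F) :
      Matrix (Fin (m + 1)) (Fin (m + 1)) F) *ᵥ v = v := by
    intro i
    have hi : (((P i)⁻¹ : Matrix.SpecialLinearGroup (Fin (m + 1)) F) : Matrix (Fin (m + 1)) (Fin (m + 1)) F).mulVec v
        ⟨1, by omega⟩ = 0 := congrFun (LinearMap.mem_ker.1 hv) i
    have hw : (X : Matrix (Fin (m + 1)) (Fin (m + 1)) F) *ᵥ
        ((((P i)⁻¹ : Matrix.SpecialLinearGroup (Fin (m + 1)) F) : Matrix (Fin (m + 1)) (Fin (m + 1)) F) *ᵥ v) =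
        (((P i)⁻¹ : Matrix.SpecialLinearGroup (Fin (m + 1)) F) : Matrix (Fin (m + 1)) (Fin (m + 1)) F) *ᵥ v := by
      rw [hX, Matrix.SpecialLinearGroup.transvection_coe, add_mulVec, one_mulVec, add_eq_left]
      rw [Matrix.single_mulVec, hi, mul_zero]
      exact Function.update_eq_self _ _
    rw [Matrix.SpecialLinearGroup.coe_mul, Matrix.SpecialLinearGroup.coe_mul, ← mulVec_mulVec, ← mulVec_mulVec, hw,
      mulVec_mulVec, ← Matrix.SpecialLinearGroup.coe_mul, mul_inv_cancel, Matrix.SpecialLinearGroup.coe_one, one_mulVec]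
  have hprod : ((List.ofFn fun i => P i * X * (P i)⁻¹).prod : Matrix.SpecialLinearGroup (Fin (m + 1)) F).1 *ᵥ v = v := by
    let φ : Matrix.SpecialLinearGroup (Fin (m + 1)) F →* Matrix (Fin (m + 1)) (Fin (m + 1)) F :=
      ⟨⟨fun A => (A : Matrix (Fin (m + 1)) (Fin (m + 1)) F), Matrix.SpecialLinearGroup.coe_one⟩, Matrix.SpecialLinearGroup.coe_mul⟩
    change φ _ *ᵥ v = v
    rw [map_list_prod, List.map_ofFn]
    refine list_prod_mulVec_fix v _ fun y hy => ?_
    obtain ⟨i, rfl⟩ := List.mem_ofFn.1 hy
    exact hfix i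
  -- `G` times a scalar fixes `v`
  set Q := (List.ofFn fun i => P i * X * (P i)⁻¹).prod with hQ
  have hQeq : Q.1 = G * scalar (Fin (m + 1)) r := by
    set g0 : Matrix.SpecialLinearGroup (Fin (m + 1)) F := ⟨G, hGdet⟩ with hg0
    have h : Q.1 = g0.1 * (g0⁻¹ * Q).1 := by
      rw [← Matrix.SpecialLinearGroup.coe_mul, mul_inv_cancel_left]
    rw [h, ← hr]
  have hr0 : r ≠ 0 := by
    rintro rfl
    rw [zero_pow (by simp)] at hr1
    exact zero_ne_one hr1
  rw [hQeq, scalar_apply, ← smul_one_eq_diagonal, Matrix.mul_smul, mul_one, smul_mulVec] at hprod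
  exact hv0 (hG r⁻¹ v (inv_ne_zero hr0) (by conv_rhs => rw [← hprod, inv_smul_smul₀ hr0]))

end CfsgLib.PSLCover
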