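import Cfsg.Agent.Lib.PSLCover.Basic

/-!
Products of `n` conjugates of a scalar plus a rank-one matrix cover the nonscalar matrices of the
right determinant, and some scalar.
-/

set_option autoImplicit false
set_option linter.unusedSectionVars false

namespace CfsgLib.PSLCover

open Matrix

variable {F : Type*} [Field F] {ι : Type*} [Fintype ι] [DecidableEq ι]

namespace RankOne

/-- `1 + a ψ`. -/
abbrev rk (a ψ : ι → F) : Matrix ι ι F := 1 + vecMulVec a ψ

theorem det_rk (a ψ : ι → F) : (rk a ψ).det = 1 + ψ ⬝ᵥ a := by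
  rw [rk, vecMulVec_eq Unit, Matrix.det_one_add_replicateCol_mul_replicateRow]

theorem rk_mul (a φ χ : ι → F) : rk a φ * rk a χ = rk a (φ + χ + (φ ⬝ᵥ a) • χ) := by
  simp only [rk, Matrix.add_mul, Matrix.mul_add, Matrix.one_mul, Matrix.mul_one,
    vecMulVec_mul_vecMulVec, vecMulVec_add, vecMulVec_smul]
  abel

theorem exists_functional (S : Submodule F (ι → F)) {b : ι → F} (hb : b ∉ S) :
    ∃ χ : ι → F, χ ⬝ᵥ b = 1 ∧ ∀ s ∈ S, χ ⬝ᵥ s = 0 := by
  obtain ⟨f, hf, hfS⟩ := Submodule.exists_dual_map_eq_bot_of_notMem hb inferInstance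
  have hv : ∀ v, (fun i => f (Pi.single i 1)) ⬝ᵥ v = f v := by
    intro v
    conv_rhs => rw [pi_eq_sum_univ' v]
    simp [dotProduct, map_sum, mul_comm]
  refine ⟨(f b)⁻¹ • fun i => f (Pi.single i 1), ?_, fun s hs => ?_⟩
  · rw [smul_dotProduct, hv, smul_eq_mul, inv_mul_cancel₀ hf]
  · have : f s ∈ S.map f := Submodule.mem_map_of_mem hs
    rw [hfS, Submodule.mem_bot] at this
    rw [smul_dotProduct, hv, this, smul_zero]

theorem exists_functional_zero {b : ι → F} (hb : b ≠ 0) : ∃ χ : ι → F, χ ⬝ᵥ b = 1 := by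
  obtain ⟨χ, h, -⟩ := exists_functional (⊥ : Submodule F (ι → F)) (fun h => hb ((Submodule.mem_bot F).1 h))
  exact ⟨χ, h⟩

theorem exists_both {u v : ι → F} (hu : u ≠ 0) (hv : v ≠ 0) :
    ∃ χ : ι → F, χ ⬝ᵥ u = 1 ∧ χ ⬝ᵥ v ≠ 0 := by
  by_cases h : v ∈ F ∙ u
  · obtain ⟨c, rfl⟩ := Submodule.mem_span_singleton.1 h
    obtain ⟨χ, hχ⟩ := exists_functional_zero hu
    refine ⟨χ, hχ, ?_⟩
    rw [dotProduct_smul, hχ, smul_eq_mul, mul_one]
    rintro rfl
    exact hv (zero_smul F u)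
  · obtain ⟨χ, hχ⟩ := exists_functional_zero hu
    obtain ⟨η, hη, hηu⟩ := exists_functional (F ∙ u) h
    have hηu' := hηu u (Submodule.mem_span_singleton_self u)
    refine ⟨χ + (1 - χ ⬝ᵥ v) • η, ?_, ?_⟩
    · rw [add_dotProduct, smul_dotProduct, hηu', smul_zero, add_zero, hχ]
    · rw [add_dotProduct, smul_dotProduct, hη, smul_eq_mul, mul_one, add_sub_cancel]
      exact one_ne_zero

/-- The class with determinant `β`. -/
def Cls (β : F) (y : Matrix ι ι F) : Prop :=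
  ∃ a ψ : ι → F, a ≠ 0 ∧ ψ ≠ 0 ∧ ψ ⬝ᵥ a = β - 1 ∧ y = rk a ψ

theorem glSim_cls {β : F} {y z : Matrix ι ι F} (hy : Cls β y) (hz : Cls β z) : GLSim y z := by
  obtain ⟨a, ψ, ha, hψ, hψa, rfl⟩ := hy
  obtain ⟨a', ψ', ha', hψ', hψa', rfl⟩ := hz
  obtain ⟨χ, hχ, hχ'⟩ := exists_both ha ha'
  set P := rk (a' - a) χ with hP
  have hPdet : P.det ≠ 0 := by
    rw [hP, det_rk, dotProduct_sub, hχ]
    simpa using hχ'
  have hPa : P *ᵥ a = a' := by
    rw [hP, rk, add_mulVec, one_mulVec, vecMulVec_mulVec, hχ]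
    simp
  set ψ₁ := ψ' ᵥ* P with hψ₁
  have hψ₁a : ψ₁ ⬝ᵥ a = β - 1 := by rw [hψ₁, ← dotProduct_mulVec, hPa, hψa']
  have hu : IsUnit P.det := isUnit_iff_ne_zero.2 hPdet
  have hψ₁0 : ψ₁ ≠ 0 := fun h => hψ' (by
    have := congrArg (· ᵥ* P⁻¹) h
    simpa [hψ₁, Matrix.vecMul_vecMul, Matrix.mul_nonsing_inv P hu] using this)
  obtain ⟨w, hw, hw'⟩ := exists_both hψ₁0 hψ
  set Q := rk w (ψ - ψ₁) with hQ
  have hQdet : Q.det ≠ 0 := by
    rw [hQ, det_rk, sub_dotProduct, dotProduct_comm ψ₁ w, hw, dotProduct_comm ψ w, add_sub_cancel]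
    exact hw'
  have hQa : Q *ᵥ a = a := by
    rw [hQ, rk, add_mulVec, one_mulVec, vecMulVec_mulVec, sub_dotProduct, hψa, hψ₁a]
    simp
  have hψQ : ψ₁ ᵥ* Q = ψ := by
    rw [hQ, rk, vecMul_add, vecMul_one, vecMul_vecMulVec, dotProduct_comm, hw, one_smul,
      add_sub_cancel]
  refine ⟨P * Q, by rw [det_mul]; exact mul_ne_zero hPdet hQdet, ?_⟩
  simp only [rk, Matrix.mul_add, Matrix.add_mul, Matrix.mul_one, Matrix.one_mul]
  rw [mul_vecMulVec, ← Matrix.mulVec_mulVec, hQa, hPa, vecMulVec_mul, ← Matrix.vecMul_vecMul,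
    ← hψ₁, hψQ]

theorem detFull_rk (h3 : 3 ≤ Fintype.card ι) {a ψ : ι → F} : DetFull (rk a ψ) := by
  intro d hd
  have hne : (F ∙ a) < ((Matrix.mulVecLin (replicateRow Unit ψ)).ker ⊔ (F ∙ a)) := by
    refine lt_of_le_of_ne le_sup_right fun h => ?_
    have h1 := LinearMap.finrank_range_add_finrank_ker (Matrix.mulVecLin (replicateRow Unit ψ))
    have h2 : Module.finrank F (Matrix.mulVecLin (replicateRow Unit ψ)).range ≤ 1 :=
      le_trans (Submodule.finrank_le _) (by simp)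
    have h3' : (Matrix.mulVecLin (replicateRow Unit ψ)).ker ≤ F ∙ a := h ▸ le_sup_left
    have h4 := Submodule.finrank_mono h3'
    have h5 : Module.finrank F (F ∙ a) ≤ 1 := by
      simpa using finrank_span_le_card ({a} : Set (ι → F))
    rw [Module.finrank_fintype_fun_eq_card] at h1
    omega
  obtain ⟨w, hwψ, hwa⟩ : ∃ w, ψ ⬝ᵥ w = 0 ∧ w ∉ F ∙ a := by
    by_contra hcon
    push Not at hcon
    refine hne.not_ge (sup_le (fun w hw => hcon w ?_) le_rfl)
    have := congrFun (show replicateRow Unit ψ *ᵥ w = 0 from hw) ()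
    simpa [Matrix.mulVec, replicateRow] using this
  obtain ⟨χ, hχw, hχa⟩ := exists_functional (F ∙ a) hwa
  have hχa' := hχa a (Submodule.mem_span_singleton_self a)
  refine ⟨rk w ((d - 1) • χ), ?_, ?_⟩
  · rw [det_rk, smul_dotProduct, hχw, smul_eq_mul, mul_one, add_sub_cancel]
  · simp only [rk, Matrix.mul_add, Matrix.add_mul, Matrix.mul_one, Matrix.one_mul,
      vecMulVec_mul_vecMulVec, smul_dotProduct, hχa', smul_zero, zero_smul, hwψ]
    simp [add_comm, add_left_comm]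

/-- Products of `m` members of the class. -/
def PP (β : F) (m : ℕ) (g : Matrix ι ι F) : Prop :=
  ∃ l : List (Matrix ι ι F), l.length = m ∧ (∀ y ∈ l, Cls β y) ∧ l.prod = g

theorem PP.cons {β : F} {m : ℕ} {t g : Matrix ι ι F} (ht : Cls β t) (h : PP β m g) :
    PP β (m + 1) (t * g) := by
  obtain ⟨l, hl, hc, hp⟩ := h
  exact ⟨t :: l, by simp [hl], by simpa using ⟨ht, hc⟩, by simp [hp]⟩

theorem split {β : F} (hβ : β ≠ 0) (h2 : 2 ≤ Fintype.card ι) (hF : ∃ c : F, c ≠ 0 ∧ c ≠ 1) :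
    ∀ (m : ℕ) {a ψ : ι → F}, a ≠ 0 → ψ ⬝ᵥ a = β ^ m - 1 → (ψ ≠ 0 ∨ 2 ≤ m) → 1 ≤ m →
      PP β m (rk a ψ) := by
  intro m
  induction m with
  | zero => intros; omega
  | succ m ih =>
    intro a ψ ha hψa hor _
    rcases Nat.eq_zero_or_pos m with rfl | hm
    · refine ⟨[rk a ψ], rfl, fun y hy => ⟨a, ψ, ha, hor.resolve_right (by omega), ?_, ?_⟩, by simp⟩
      · simpa using hψa
      · simpa using hy
    obtain ⟨φ₁, hφ₁⟩ := exists_functional_zero ha
    obtain ⟨η, hη, hη0⟩ : ∃ η : ι → F, η ≠ 0 ∧ η ⬝ᵥ a = 0 := by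
      have hne : (F ∙ a) ≠ ⊤ := fun h => by
        have h5 : Module.finrank F (F ∙ a) ≤ 1 := by
          simpa using finrank_span_le_card ({a} : Set (ι → F))
        rw [h, finrank_top, Module.finrank_fintype_fun_eq_card] at h5
        omega
      obtain ⟨b, -, hb⟩ := SetLike.exists_of_lt hne.lt_top
      obtain ⟨η, hηb, hηa⟩ := exists_functional (F ∙ a) hb
      exact ⟨η, fun h => by simp [h] at hηb, hηa a (Submodule.mem_span_singleton_self a)⟩
    obtain ⟨c₂, hc0, hc1⟩ := hF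
    set φ₀ := (β - 1) • φ₁
    have hval : ∀ c : F, (φ₀ + c • η) ⬝ᵥ a = β - 1 := fun c => by
      simp [φ₀, add_dotProduct, smul_dotProduct, hφ₁, hη0]
    have hinj : ∀ c d : F, φ₀ + c • η = φ₀ + d • η → c = d := fun c d h => by
      have := add_left_cancel h
      by_contra hcd
      exact hη ((smul_eq_zero.1 (show (c - d) • η = 0 by rw [sub_smul, this, sub_self])).resolve_left
        (sub_ne_zero.2 hcd))
    obtain ⟨φ, hφ0, hφψ, hφa⟩ : ∃ φ : ι → F, φ ≠ 0 ∧ φ ≠ ψ ∧ φ ⬝ᵥ a = β - 1 := by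
      by_contra hcon
      push Not at hcon
      have key : ∀ c : F, φ₀ + c • η = 0 ∨ φ₀ + c • η = ψ := fun c => by
        by_contra h
        push Not at h
        exact hcon _ h.1 h.2 (hval c)
      rcases key 0 with h0 | h0 <;> rcases key 1 with h1 | h1 <;> rcases key c₂ with h2 | h2 <;>
        first
        | exact zero_ne_one (hinj _ _ (h0.trans h1.symm))
        | exact hc0 (hinj _ _ (h2.trans h0.symm))
        | exact hc1 (hinj _ _ (h2.trans h1.symm))
    have hφ2 : (β⁻¹ • (ψ - φ)) ⬝ᵥ a = β ^ m - 1 := by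
      rw [smul_dotProduct, sub_dotProduct, hψa, hφa, smul_eq_mul]
      field_simp
      ring
    have hrest := ih ha hφ2 (Or.inl (smul_ne_zero (inv_ne_zero hβ) (sub_ne_zero.2 hφψ.symm))) hm
    have h := PP.cons (t := rk a φ) ⟨a, φ, ha, hφ0, hφa, rfl⟩ hrest
    rwa [rk_mul, hφa, smul_smul, sub_mul, mul_inv_cancel₀ hβ, one_mul, sub_smul, one_smul,
      add_add_sub_cancel, add_sub_cancel] at h

section step

variable {β : F} {g : Matrix ι ι F}

/-- No reduction step keeps the invariant. -/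
def Stuck (β : F) (g : Matrix ι ι F) : Prop :=
  ∃ l : F, (g - 1) * (g - 1) = l • (g - 1) ∧ l ≠ β - 1

/-- The corank of `g - 1`. -/
noncomputable def fixDim (g : Matrix ι ι F) : ℕ := Module.finrank F (g - 1).mulVecLin.ker

theorem fixDim_le (g : Matrix ι ι F) : fixDim g ≤ Fintype.card ι := by
  simpa [fixDim, Module.finrank_fintype_fun_eq_card] using Submodule.finrank_le (g - 1).mulVecLin.ker

theorem fixDim_eq (hg : g ≠ 1) : fixDim g < Fintype.card ι := by
  refine lt_of_le_of_ne (fixDim_le g) fun h => hg (sub_eq_zero.1 ?_)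
  have h1 : (g - 1).mulVecLin.ker = ⊤ :=
    Submodule.eq_top_of_finrank_eq (by rw [Module.finrank_fintype_fun_eq_card]; exact h)
  refine Matrix.ext_of_mulVec_single fun i => ?_
  rw [zero_mulVec]
  exact (h1.ge Submodule.mem_top : Pi.single i 1 ∈ (g - 1).mulVecLin.ker)

/-- The inverse of the step. -/
theorem rk_mul_eq (hβ : β ≠ 0) {a ψ : ι → F} (hψa : ψ ⬝ᵥ a = β - 1) :
    rk a ψ * (g - β⁻¹ • vecMulVec a (ψ ᵥ* g)) = g := by
  simp only [rk, Matrix.add_mul, Matrix.one_mul, Matrix.mul_sub, Matrix.mul_smul,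
    vecMulVec_mul, vecMul_vecMulVec, hψa, vecMulVec_smul, smul_add, smul_smul]
  have : (β - 1) * β⁻¹ = 1 - β⁻¹ := by rw [sub_mul, mul_inv_cancel₀ hβ, one_mul]
  rw [mul_comm β⁻¹, this, sub_smul, one_smul]
  abel

/-- The kernel after a step. -/
theorem ker_step (hβ : β ≠ 0) {v ψ : ι → F} (hψv : ψ ⬝ᵥ v = 1)
    (hψK : ∀ x, (g - 1) *ᵥ x = 0 → ψ ⬝ᵥ x = 0) (hψa : ψ ⬝ᵥ ((g - 1) *ᵥ v) = β - 1) :
    (g - β⁻¹ • vecMulVec ((g - 1) *ᵥ v) (ψ ᵥ* g) - 1).mulVecLin.ker =
      (g - 1).mulVecLin.ker ⊔ (F ∙ v) := by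
  set a := (g - 1) *ᵥ v with ha
  have hgx : ∀ x, g *ᵥ x = x + (g - 1) *ᵥ x := fun x => by rw [sub_mulVec, one_mulVec]; abel
  have hC : ∀ x, (g - β⁻¹ • vecMulVec a (ψ ᵥ* g) - 1) *ᵥ x =
      (g - 1) *ᵥ x - (β⁻¹ * (ψ ⬝ᵥ (g *ᵥ x))) • a := fun x => by
    simp only [sub_mulVec, smul_mulVec, vecMulVec_mulVec, one_mulVec, ← dotProduct_mulVec, op_smul_eq_smul,
      smul_smul]
    abel
  apply le_antisymm
  · intro x hx
    have h1 : (g - β⁻¹ • vecMulVec a (ψ ᵥ* g) - 1) *ᵥ x = 0 := hx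
    rw [hC, sub_eq_zero] at h1
    set s := β⁻¹ * (ψ ⬝ᵥ (g *ᵥ x))
    have h2 : x - s • v ∈ (g - 1).mulVecLin.ker := by
      show (g - 1) *ᵥ (x - s • v) = 0
      rw [mulVec_sub, mulVec_smul, h1, ha, sub_self]
    simpa using Submodule.add_mem_sup h2 (Submodule.smul_mem _ s (Submodule.mem_span_singleton_self v))
  · refine sup_le (fun x hx => ?_) ((Submodule.span_singleton_le_iff_mem _ _).2 ?_)
    · have hx' : (g - 1) *ᵥ x = 0 := hx
      show _ *ᵥ x = 0
      rw [hC, hgx, hx', add_zero, hψK x hx', mul_zero, zero_smul, sub_self]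
    · show _ *ᵥ v = 0
      rw [hC, hgx, ← ha, dotProduct_add, hψv, hψa, add_sub_cancel, inv_mul_cancel₀ hβ, one_smul,
        sub_self]

theorem not_le_span_pair (h3 : fixDim g + 3 ≤ Fintype.card ι) (u w : ι → F) :
    ¬ (g - 1).mulVecLin.range ≤ Submodule.span F {u, w} := by
  intro h
  have h1 := Submodule.finrank_mono h
  have h2 := LinearMap.finrank_range_add_finrank_ker (g - 1).mulVecLin
  have h4 : Module.finrank F (Submodule.span F ({u, w} : Set (ι → F))) ≤ 2 := by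
    classical
    refine le_trans (finrank_span_le_card _) ?_
    rw [Set.toFinset_insert, Set.toFinset_singleton]
    exact Finset.card_le_two
  rw [Module.finrank_fintype_fun_eq_card] at h2
  unfold fixDim at h3
  omega

/-- One reduction step. -/
theorem step (hβ : β ≠ 0) (hg : g.det ≠ 0) (hk : fixDim g + 2 ≤ Fintype.card ι) (hns : ¬ Stuck β g) :
    ∃ t h, Cls β t ∧ g = t * h ∧ fixDim h = fixDim g + 1 ∧
      (fixDim h + 1 = Fintype.card ι ∨ ¬ Stuck β h) := by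
  set A := g - 1 with hA
  -- from `v` and `χ`
  have build : ∀ v χ : ι → F, χ ⬝ᵥ (A *ᵥ v) = 1 → χ ⬝ᵥ (A *ᵥ (A *ᵥ v)) = β - 1 →
      ∃ t h, Cls β t ∧ g = t * h ∧ fixDim h = fixDim g + 1 ∧
        h = g - β⁻¹ • vecMulVec (A *ᵥ v) ((χ ᵥ* A) ᵥ* g) ∧
        (h - 1).mulVecLin.ker = A.mulVecLin.ker ⊔ (F ∙ v) := by
    intro v χ hv hva
    have hψv : (χ ᵥ* A) ⬝ᵥ v = 1 := by rw [← dotProduct_mulVec, hv]
    have hψK : ∀ x, A *ᵥ x = 0 → (χ ᵥ* A) ⬝ᵥ x = 0 := fun x hx => by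
      rw [← dotProduct_mulVec, hx, dotProduct_zero]
    have hψa : (χ ᵥ* A) ⬝ᵥ (A *ᵥ v) = β - 1 := by rw [← dotProduct_mulVec, hva]
    have hker := ker_step hβ hψv hψK hψa
    refine ⟨rk (A *ᵥ v) (χ ᵥ* A), _, ⟨A *ᵥ v, χ ᵥ* A, ?_, ?_, hψa, rfl⟩, (rk_mul_eq hβ hψa).symm, ?_,
      rfl, hker⟩
    · intro h
      rw [h, dotProduct_zero] at hv
      exact zero_ne_one hv
    · intro h
      rw [h, zero_dotProduct] at hψv
      exact zero_ne_one hψv
    · unfold fixDim
      rw [hker]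
      refine Submodule.finrank_sup_span_singleton fun h => ?_
      have : A *ᵥ v = 0 := h
      rw [this, dotProduct_zero] at hv
      exact zero_ne_one hv
  by_cases hgen : ∃ v, ¬ ∃ c : F, A *ᵥ (A *ᵥ v) = c • (A *ᵥ v)
  · obtain ⟨v, hv⟩ := hgen
    have ha0 : A *ᵥ v ≠ 0 := fun h => hv ⟨0, by rw [h, mulVec_zero, smul_zero]⟩
    have hnm : A *ᵥ (A *ᵥ v) ∉ F ∙ (A *ᵥ v) := fun h => by
      obtain ⟨c, hc⟩ := Submodule.mem_span_singleton.1 h
      exact hv ⟨c, hc.symm⟩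
    obtain ⟨χ₁, h1a⟩ := exists_functional_zero ha0
    obtain ⟨χ₂, h2b, h2a⟩ := exists_functional _ hnm
    have h2a' := h2a _ (Submodule.mem_span_singleton_self _)
    set χ := χ₁ + (β - 1 - χ₁ ⬝ᵥ (A *ᵥ (A *ᵥ v))) • χ₂ with hχ
    have hχv : χ ⬝ᵥ (A *ᵥ v) = 1 := by
      rw [hχ, add_dotProduct, smul_dotProduct, h1a, h2a', smul_zero, add_zero]
    have hχa : χ ⬝ᵥ (A *ᵥ (A *ᵥ v)) = β - 1 := by
      rw [hχ, add_dotProduct, smul_dotProduct, h2b, smul_eq_mul, mul_one, add_sub_cancel]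
    rcases eq_or_lt_of_le hk with hk2 | hk3
    · obtain ⟨t, h, h1, h2, h3, -, -⟩ := build v χ hχv hχa
      exact ⟨t, h, h1, h2, h3, Or.inl (by omega)⟩
    have hk3' : fixDim g + 3 ≤ Fintype.card ι := hk3
    obtain ⟨y, hy, hyn⟩ := SetLike.not_le_iff_exists.1 (not_le_span_pair hk3' (A *ᵥ v) (A *ᵥ (A *ᵥ v)))
    obtain ⟨u, rfl⟩ := hy
    obtain ⟨η, hηu, hη⟩ := exists_functional _ hyn
    have hη1 := hη _ (Submodule.subset_span (Set.mem_insert _ _))
    have hη2 := hη _ (Submodule.subset_span (Set.mem_insert_of_mem _ rfl))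
    obtain ⟨t, h, e1, e2, e3, e4, e5⟩ := build v χ hχv hχa
    by_cases hs : Stuck β h
    swap
    · exact ⟨t, h, e1, e2, e3, Or.inr hs⟩
    obtain ⟨t', h', f1, f2, f3, f4, f5⟩ := build v (χ + η)
      (by rw [add_dotProduct, hχv, hη1, add_zero]) (by rw [add_dotProduct, hχa, hη2, add_zero])
    refine ⟨t', h', f1, f2, f3, Or.inr fun hs' => ?_⟩
    obtain ⟨l, hl, -⟩ := hs
    obtain ⟨l', hl', -⟩ := hs'
    set a := A *ᵥ v with ha
    have image : ∀ (k : Matrix ι ι F) (s : F), (k - 1).mulVecLin.ker = A.mulVecLin.ker ⊔ (F ∙ v) →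
        (k - 1) * (k - 1) = s • (k - 1) → ∀ x, ∃ c : F, A *ᵥ ((k - 1) *ᵥ x) - s • (A *ᵥ x) = c • a := by
      intro k s hker hq x
      have hm : (k - 1) *ᵥ x - s • x ∈ (k - 1).mulVecLin.ker := by
        show (k - 1) *ᵥ ((k - 1) *ᵥ x - s • x) = 0
        rw [mulVec_sub, mulVec_mulVec, hq, smul_mulVec, mulVec_smul, sub_self]
      rw [hker, Submodule.mem_sup] at hm
      obtain ⟨p, hp, q, hq', e⟩ := hm
      obtain ⟨c, rfl⟩ := Submodule.mem_span_singleton.1 hq'
      refine ⟨c, ?_⟩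
      rw [← mulVec_smul, ← mulVec_sub, ← e, mulVec_add, show A *ᵥ p = 0 from hp, zero_add, mulVec_smul]
    have hCx : ∀ (k : Matrix ι ι F) (χ' x : ι → F),
        k = g - β⁻¹ • vecMulVec a ((χ' ᵥ* A) ᵥ* g) →
        A *ᵥ ((k - 1) *ᵥ x) = A *ᵥ (A *ᵥ x) - (β⁻¹ * (χ' ⬝ᵥ (A *ᵥ (g *ᵥ x)))) • (A *ᵥ a) := by
      rintro k χ' x rfl
      rw [← mulVec_smul, ← mulVec_sub]
      refine congrArg (A *ᵥ ·) ?_
      simp only [hA, sub_mulVec, smul_mulVec, vecMulVec_mulVec, one_mulVec, ← dotProduct_mulVec,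
        op_smul_eq_smul, smul_smul]
      abel
    have hdiff : ∀ x, ∃ c : F,
        (β⁻¹ * (η ⬝ᵥ (A *ᵥ (g *ᵥ x)))) • (A *ᵥ a) - (l - l') • (A *ᵥ x) = c • a := by
      intro x
      obtain ⟨c1, hc1⟩ := image h l e5 hl x
      obtain ⟨c2, hc2⟩ := image h' l' f5 hl' x
      rw [hCx h χ x e4] at hc1
      rw [hCx h' (χ + η) x f4, add_dotProduct] at hc2
      refine ⟨c1 - c2, ?_⟩
      rw [sub_smul c1 c2, ← hc1, ← hc2, mul_add, add_smul, sub_smul]
      abel
    rcases eq_or_ne l l' with rfl | hne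
    · -- `g` is invertible on the quotient
      have hgu : ∃ x, A *ᵥ (g *ᵥ x) = A *ᵥ u :=
        ⟨g⁻¹ *ᵥ u, by rw [mulVec_mulVec _ g, Matrix.mul_nonsing_inv g (isUnit_iff_ne_zero.2 hg), one_mulVec]⟩
      obtain ⟨x, hx⟩ := hgu
      obtain ⟨c, hc⟩ := hdiff x
      rw [hx, show η ⬝ᵥ (A *ᵥ u) = 1 from hηu, mul_one, sub_self, zero_smul, sub_zero] at hc
      refine hv ⟨β * c, ?_⟩
      rw [mul_smul, ← hc, smul_smul, mul_inv_cancel₀ hβ, one_smul]
    · apply not_le_span_pair hk3' a (A *ᵥ a)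
      rintro _ ⟨x, rfl⟩
      obtain ⟨c, hc⟩ := hdiff x
      show A *ᵥ x ∈ _
      rw [Submodule.mem_span_pair]
      refine ⟨-((l - l')⁻¹ * c), (l - l')⁻¹ * (β⁻¹ * (η ⬝ᵥ (A *ᵥ (g *ᵥ x)))), ?_⟩
      rw [neg_smul, mul_smul, mul_smul, ← hc, smul_sub, inv_smul_smul₀ (sub_ne_zero.2 hne)]
      abel
  · push Not at hgen
    -- `A` is scalar on its image
    obtain ⟨v, hv⟩ : ∃ v, A *ᵥ v ≠ 0 := by
      by_contra hc
      push Not at hc
      have h1 : A.mulVecLin.ker = ⊤ := eq_top_iff.2 fun x _ => hc x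
      have h2 : fixDim g = Fintype.card ι := by
        unfold fixDim
        rw [h1, finrank_top, Module.finrank_fintype_fun_eq_card]
      omega
    obtain ⟨l, hl⟩ := hgen v
    have hall : ∀ x, A *ᵥ (A *ᵥ x) = l • (A *ᵥ x) := by
      intro x
      obtain ⟨c, hc⟩ := hgen x
      by_cases hx : A *ᵥ x ∈ F ∙ (A *ᵥ v)
      · obtain ⟨d, hd⟩ := Submodule.mem_span_singleton.1 hx
        rw [← hd, mulVec_smul, hl, smul_comm]
      obtain ⟨e, he⟩ := hgen (v + x)
      rw [mulVec_add, mulVec_add, hl, hc, smul_add] at he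
      obtain ⟨χ, hχ, hχv⟩ := exists_functional _ hx
      have hce : c = e := by
        have := congrArg (χ ⬝ᵥ ·) he
        simpa [dotProduct_add, dotProduct_smul, hχ, hχv _ (Submodule.mem_span_singleton_self _)] using this
      subst hce
      rw [add_left_inj] at he
      rw [hc, ← smul_left_injective F hv he]
    have hsq : A * A = l • A := Matrix.ext_of_mulVec_single fun i => by
      rw [← mulVec_mulVec, smul_mulVec, hall]
    have hlβ : l = β - 1 := by_contra fun h => hns ⟨l, hsq, h⟩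
    obtain ⟨χ, hχ⟩ := exists_functional_zero hv
    obtain ⟨t, h, e1, e2, e3, e4, e5⟩ := build v χ hχ (by rw [hall, dotProduct_smul, hχ, smul_eq_mul, mul_one, hlβ])
    refine ⟨t, h, e1, e2, e3, Or.inr fun ⟨s, hs, hsne⟩ => ?_⟩
    -- the new matrix is of the same type
    have hψg : (χ ᵥ* A) ᵥ* g = β • (χ ᵥ* A) := by
      rw [show g = 1 + A by rw [hA]; abel, vecMul_add, vecMul_one, vecMul_vecMul, hsq, hlβ, vecMul_smul,
        sub_smul, one_smul, add_sub_cancel]
    have hh : h - 1 = A - vecMulVec (A *ᵥ v) (χ ᵥ* A) := by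
      rw [e4, hψg, vecMulVec_smul, smul_smul, inv_mul_cancel₀ hβ, one_smul, hA]
      abel
    have hh2 : (h - 1) * (h - 1) = (β - 1) • (h - 1) := by
      rw [hh]
      simp only [Matrix.sub_mul, Matrix.mul_sub, vecMulVec_mul, mul_vecMulVec,
        hsq, vecMul_vecMul, vecMul_smul, sub_mulVec, vecMulVec_mulVec, op_smul_eq_smul, ← dotProduct_mulVec, hall, dotProduct_smul, hχ, hlβ,
        vecMulVec_smul, smul_vecMulVec, smul_sub, smul_eq_mul, mul_one, zero_vecMulVec, sub_self]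
      abel
    rw [hh2] at hs
    have h0 : h - 1 ≠ 0 := fun h0 => by
      have h2 : fixDim h = Fintype.card ι := by
        unfold fixDim
        rw [h0, Matrix.mulVecLin_zero, LinearMap.ker_zero, finrank_top, Module.finrank_fintype_fun_eq_card]
      omega
    exact hsne (smul_left_injective F h0 hs).symm

/-- A stuck matrix spends one factor and is no longer stuck. -/
theorem waste (hβ : β ≠ 0) (hg : g.det ≠ 0) (h1 : 1 ≤ fixDim g) (hk : fixDim g + 2 ≤ Fintype.card ι)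
    (hs : Stuck β g) : ∃ t h, Cls β t ∧ g = t * h ∧ 1 ≤ fixDim h ∧ h ≠ 1 ∧ ¬ Stuck β h := by
  obtain ⟨l, hsq, hlβ⟩ := hs
  set A := g - 1 with hA
  have hall : ∀ x, A *ᵥ (A *ᵥ x) = l • (A *ᵥ x) := fun x => by
    rw [mulVec_mulVec, hsq, smul_mulVec]
  have hgx : ∀ x, g *ᵥ x = x + A *ᵥ x := fun x => by rw [hA, sub_mulVec, one_mulVec]; abel
  have hrn := LinearMap.finrank_range_add_finrank_ker A.mulVecLin
  rw [Module.finrank_fintype_fun_eq_card] at hrn
  change 1 ≤ Module.finrank F A.mulVecLin.ker at h1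
  change Module.finrank F A.mulVecLin.ker + 2 ≤ Fintype.card ι at hk
  obtain ⟨v0, hv0⟩ : ∃ v, A *ᵥ v ≠ 0 := by
    by_contra hc
    push Not at hc
    have h2 : A.mulVecLin.ker = ⊤ := eq_top_iff.2 fun x _ => hc x
    rw [h2, finrank_top, Module.finrank_fintype_fun_eq_card] at hk
    omega
  have hμ : 1 + l ≠ 0 := fun h => hg (Matrix.exists_mulVec_eq_zero_iff.1
    ⟨A *ᵥ v0, hv0, by rw [hgx, hall, eq_neg_of_add_eq_zero_right h, neg_one_smul, add_neg_cancel]⟩)
  obtain ⟨v, hv, hvn⟩ : ∃ v, A *ᵥ v ≠ 0 ∧ v ∉ F ∙ (A *ᵥ v) := by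
    by_cases hm : v0 ∈ F ∙ (A *ᵥ v0)
    swap
    · exact ⟨v0, hv0, hm⟩
    obtain ⟨k, hk0, hk'⟩ : ∃ k ∈ A.mulVecLin.ker, k ≠ 0 :=
      Submodule.exists_mem_ne_zero_of_ne_bot fun h => by rw [h, finrank_bot] at h1; omega
    have hk0' : A *ᵥ k = 0 := hk0
    refine ⟨v0 + k, by rwa [mulVec_add, hk0', add_zero], fun h => ?_⟩
    rw [mulVec_add, hk0', add_zero] at h
    obtain ⟨c, hc⟩ := Submodule.mem_span_singleton.1 hm
    obtain ⟨d, hd⟩ := Submodule.mem_span_singleton.1 ((Submodule.add_mem_iff_right _ hm).1 h)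
    have h0 := hk0'
    rw [← hd, mulVec_smul, hall, smul_smul] at h0
    rcases smul_eq_zero.1 h0 with h0 | h0
    · rcases mul_eq_zero.1 h0 with h0 | h0
      · exact hk' (by rw [← hd, h0, zero_smul])
      · have := congrArg (A *ᵥ ·) hc
        simp [mulVec_smul, hall, h0] at this
        exact hv0 this.symm
    · exact hv0 h0
  set a := A *ᵥ v with ha
  obtain ⟨y, hy⟩ : ∃ y, A *ᵥ y ∉ Submodule.span F {a, v} := by
    by_contra hc
    push Not at hc
    have hle : A.mulVecLin.range ≤ Submodule.span F {a, v} := by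
      rintro _ ⟨x, rfl⟩
      exact hc x
    have h4 : Module.finrank F (Submodule.span F ({a, v} : Set (ι → F))) ≤ 2 := by
      classical
      refine le_trans (finrank_span_le_card _) ?_
      rw [Set.toFinset_insert, Set.toFinset_singleton]
      exact Finset.card_le_two
    have heq := Submodule.eq_of_le_of_finrank_le hle (by omega)
    obtain ⟨x, hx⟩ : v ∈ A.mulVecLin.range := heq ▸ Submodule.subset_span (Set.mem_insert_of_mem _ rfl)
    have hx' : A *ᵥ x = v := hx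
    have hav : a = l • v := by rw [ha, ← hx', hall]
    rcases eq_or_ne l 0 with h0 | h0
    · exact hv (by rw [hav, h0, zero_smul])
    · exact hvn (Submodule.mem_span_singleton.2 ⟨l⁻¹, by rw [hav, inv_smul_smul₀ h0]⟩)
  obtain ⟨χ₁, h₁⟩ := exists_functional_zero hv
  obtain ⟨χ₂, h₂, h₂'⟩ := exists_functional _ hvn
  obtain ⟨η, hη, hη'⟩ := exists_functional _ hy
  have h₂a := h₂' _ (Submodule.mem_span_singleton_self _)
  have hηa := hη' _ (Submodule.subset_span (Set.mem_insert _ _))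
  have hηv := hη' _ (Submodule.subset_span (Set.mem_insert_of_mem _ rfl))
  set ψ₀ := (β - 1) • χ₁ + (1 - (β - 1) * (χ₁ ⬝ᵥ v)) • χ₂
  set ψ := ψ₀ + (1 - ψ₀ ⬝ᵥ (A *ᵥ y)) • η
  have hψa : ψ ⬝ᵥ a = β - 1 := by simp [ψ, ψ₀, add_dotProduct, smul_dotProduct, h₁, h₂a, hηa]
  have hψv : ψ ⬝ᵥ v = 1 := by simp [ψ, ψ₀, add_dotProduct, smul_dotProduct, h₂, hηv]
  have hψy : ψ ⬝ᵥ (A *ᵥ y) = 1 := by
    rw [add_dotProduct, smul_dotProduct, hη, smul_eq_mul, mul_one, add_sub_cancel]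
  set h := g - β⁻¹ • vecMulVec a (ψ ᵥ* g) with hh
  have hC : ∀ x, (h - 1) *ᵥ x = A *ᵥ x - (β⁻¹ * (ψ ⬝ᵥ (g *ᵥ x))) • a := fun x => by
    simp only [hh, hA, sub_mulVec, smul_mulVec, vecMulVec_mulVec, one_mulVec, ← dotProduct_mulVec,
      op_smul_eq_smul, smul_smul]
    abel
  set κ := l - β⁻¹ * ((1 + l) * (β - 1)) with hκ
  have hCa : (h - 1) *ᵥ a = κ • a := by
    rw [hC, hgx, ha, hall, ← ha, dotProduct_add, dotProduct_smul, hψa, smul_eq_mul, hκ, sub_smul]
    congr 3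
    ring
  have hκ0 : κ ≠ 0 := fun h0 => hlβ (by
    rw [hκ] at h0
    field_simp at h0
    linear_combination h0)
  refine ⟨rk a ψ, h, ⟨a, ψ, hv, ?_, hψa, rfl⟩, (rk_mul_eq hβ hψa).symm, ?_, ?_, ?_⟩
  · intro h0
    rw [h0, zero_dotProduct] at hψv
    exact zero_ne_one hψv
  · refine Submodule.one_le_finrank_iff.2 fun h0 => ?_
    have hmem : v ∈ (h - 1).mulVecLin.ker := by
      show (h - 1) *ᵥ v = 0
      rw [hC, hgx, ← ha, dotProduct_add, hψv, hψa, add_sub_cancel, inv_mul_cancel₀ hβ, one_smul, sub_self]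
    rw [h0, Submodule.mem_bot] at hmem
    exact hvn (by simp [hmem])
  · intro h1'
    rw [h1', sub_self, zero_mulVec] at hCa
    exact hv ((smul_eq_zero.1 hCa.symm).resolve_left hκ0)
  · rintro ⟨s, hs, -⟩
    have happ : ∀ x, (h - 1) *ᵥ ((h - 1) *ᵥ x) = s • ((h - 1) *ᵥ x) := fun x => by
      rw [mulVec_mulVec, hs, smul_mulVec]
    have hsκ : s = κ := by
      have := happ a
      rw [hCa, mulVec_smul, hCa, smul_smul, smul_smul] at this
      exact mul_right_cancel₀ hκ0 (smul_left_injective F hv this).symm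
    have := happ y
    rw [hC y, mulVec_sub, mulVec_smul, hCa, hC (A *ᵥ y), hgx (A *ᵥ y), hall, dotProduct_add,
      dotProduct_smul, hψy, smul_eq_mul, mul_one, hsκ, smul_sub, smul_comm κ] at this
    have key : (β - 1) • (A *ᵥ y) = a := by
      have h' : (l - κ) • (A *ᵥ y) = (β⁻¹ * (1 + l)) • a := by
        rw [sub_smul, sub_eq_iff_eq_add]
        rw [← sub_eq_zero] at this ⊢
        rw [← this]
        abel
      have e : l - κ = (β⁻¹ * (1 + l)) * (β - 1) := by rw [hκ]; ring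
      rw [e, mul_smul] at h'
      exact smul_right_injective _ (mul_ne_zero (inv_ne_zero hβ) hμ) h'
    rcases eq_or_ne β 1 with hb | hb
    · rw [hb, sub_self, zero_smul] at key
      exact hv key.symm
    · refine hy (Submodule.span_mono (Set.singleton_subset_iff.2 (Set.mem_insert _ _))
        (Submodule.mem_span_singleton.2 ⟨(β - 1)⁻¹, ?_⟩))
      rw [← key, inv_smul_smul₀ (sub_ne_zero.2 hb)]

theorem main (hβ : β ≠ 0) (h2 : 2 ≤ Fintype.card ι) (hF : ∃ c : F, c ≠ 0 ∧ c ≠ 1) :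
    ∀ (m : ℕ) {g : Matrix ι ι F}, g.det = β ^ m → g ≠ 1 → Fintype.card ι ≤ fixDim g + m →
      (fixDim g + 1 = Fintype.card ι ∨ ¬ Stuck β g) → PP β m g := by
  intro m
  induction m with
  | zero =>
    intro g _ hg1 hle _
    have := fixDim_eq hg1
    omega
  | succ m ih =>
    intro g hdet hg1 hle hor
    have hlt := fixDim_eq hg1
    by_cases h1 : fixDim g + 1 = Fintype.card ι
    · obtain ⟨v, hv⟩ : ∃ v, (g - 1) *ᵥ v ≠ 0 := by
        by_contra hc
        push Not at hc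
        refine hg1 (sub_eq_zero.1 (Matrix.ext_of_mulVec_single fun i => ?_))
        rw [hc, zero_mulVec]
      have htop : (g - 1).mulVecLin.ker ⊔ (F ∙ v) = ⊤ := by
        refine Submodule.eq_top_of_finrank_eq ?_
        rw [Submodule.finrank_sup_span_singleton (fun h => hv h), Module.finrank_fintype_fun_eq_card]
        exact h1
      obtain ⟨χ, hχ⟩ := exists_functional_zero hv
      have e : g = rk ((g - 1) *ᵥ v) (χ ᵥ* (g - 1)) := by
        rw [rk, ← sub_eq_iff_eq_add']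
        refine Matrix.ext_of_mulVec_single fun i => ?_
        rw [vecMulVec_mulVec, op_smul_eq_smul, ← dotProduct_mulVec]
        obtain ⟨p, hp, q, hq, he⟩ := Submodule.mem_sup.1 (htop.ge (Submodule.mem_top (x := Pi.single i (1 : F))))
        obtain ⟨c, rfl⟩ := Submodule.mem_span_singleton.1 hq
        rw [← he, mulVec_add, mulVec_smul, show (g - 1) *ᵥ p = 0 from hp, zero_add, dotProduct_smul, hχ,
          smul_eq_mul, mul_one]
      have hd := hdet
      rw [e, det_rk] at hd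
      rw [e]
      refine split hβ h2 hF (m + 1) hv (by rw [← hd]; ring) (Or.inl fun h0 => ?_) (by omega)
      have : (χ ᵥ* (g - 1)) ⬝ᵥ v = 1 := by rw [← dotProduct_mulVec, hχ]
      rw [h0, zero_dotProduct] at this
      exact zero_ne_one this
    · have hns := hor.resolve_left h1
      obtain ⟨t, h, ht, rfl, hfix, hor'⟩ := step hβ (by rw [hdet]; exact pow_ne_zero _ hβ) (by omega) hns
      refine PP.cons ht (ih ?_ ?_ (by omega) hor')
      · obtain ⟨a, ψ, -, -, hψa, rfl⟩ := ht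
        rw [det_mul, det_rk, hψa, add_sub_cancel, pow_succ'] at hdet
        exact mul_left_cancel₀ hβ hdet
      · rintro rfl
        have : fixDim (1 : Matrix ι ι F) = Fintype.card ι := by
          unfold fixDim
          rw [sub_self, Matrix.mulVecLin_zero, LinearMap.ker_zero, finrank_top, Module.finrank_fintype_fun_eq_card]
        omega

theorem all_nonscalar (hβ : β ≠ 0) (h2 : 2 ≤ Fintype.card ι) (hF : ∃ c : F, c ≠ 0 ∧ c ≠ 1)
    (hg : Nonscalar g) (hdet : g.det = β ^ Fintype.card ι) : PP β (Fintype.card ι) g := by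
  have hg1 : g ≠ 1 := fun h => hg 1 (by rw [h, one_smul])
  by_cases hc : fixDim g + 1 = Fintype.card ι ∨ ¬ Stuck β g
  · exact main hβ h2 hF _ hdet hg1 (by omega) hc
  push Not at hc
  obtain ⟨hc1, hc2⟩ := hc
  have hlt := fixDim_eq hg1
  have h0 : 1 ≤ fixDim g := by
    by_contra h
    obtain ⟨l, hl, -⟩ := hc2
    refine hg (1 + l) (Matrix.ext_of_mulVec_single fun i => ?_)
    have hb : (g - 1).mulVecLin.ker = ⊥ := Submodule.finrank_eq_zero.1 (by unfold fixDim at h; omega)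
    have : (g - 1) *ᵥ Pi.single i 1 - l • Pi.single i 1 ∈ (g - 1).mulVecLin.ker := by
      show (g - 1) *ᵥ _ = 0
      rw [mulVec_sub, mulVec_mulVec, hl, smul_mulVec, mulVec_smul, sub_self]
    rw [hb, Submodule.mem_bot, sub_mulVec, one_mulVec, sub_sub, sub_eq_zero] at this
    rw [this, smul_mulVec, one_mulVec, add_smul, one_smul]
  obtain ⟨t, h, ht, rfl, hh1, hh2, hh3⟩ := waste hβ (by rw [hdet]; exact pow_ne_zero _ hβ) h0 (by omega) hc2
  obtain ⟨n, hn⟩ : ∃ n, Fintype.card ι = n + 1 := ⟨Fintype.card ι - 1, by omega⟩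
  rw [hn] at hdet ⊢
  refine PP.cons ht (main hβ h2 hF n ?_ hh2 (by omega) (Or.inr hh3))
  obtain ⟨a, ψ, -, -, hψa, rfl⟩ := ht
  rw [det_mul, det_rk, hψa, add_sub_cancel, pow_succ'] at hdet
  exact mul_left_cancel₀ hβ hdet

end step

theorem some_scalar {β : F} (hβ : β ≠ 0) (h2 : 2 ≤ Fintype.card ι) (hF : ∃ c : F, c ≠ 0 ∧ c ≠ 1) :
    ∃ z : F, PP β (Fintype.card ι) (z • (1 : Matrix ι ι F)) := by
  rcases eq_or_ne β 1 with rfl | hb
  · obtain ⟨i⟩ : Nonempty ι := Fintype.card_pos_iff.1 (by omega)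
    refine ⟨1, ?_⟩
    have := split hβ h2 hF (Fintype.card ι) (a := Pi.single i (1 : F)) (ψ := 0)
      (by simp [funext_iff, Pi.single_apply]) (by simp) (Or.inr h2) (by omega)
    simpa [rk] using this
  · refine ⟨β, (Finset.univ : Finset ι).toList.map fun i => rk (Pi.single i 1) (Pi.single i (β - 1)),
      by simp, fun y hy => ?_, ?_⟩
    · obtain ⟨i, -, rfl⟩ := List.mem_map.1 hy
      exact ⟨_, _, by simp [funext_iff, Pi.single_apply],
        by simp [funext_iff, Pi.single_apply, sub_eq_zero, hb], by simp, rfl⟩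
    · have key : ∀ l : List ι, l.Nodup → (l.map fun i => rk (Pi.single i 1) (Pi.single i (β - 1))).prod =
          diagonal (fun j => if j ∈ l then β else 1) := by
        intro l
        induction l with
        | nil => simp
        | cons i l ih =>
          intro hl
          obtain ⟨hi, hl⟩ := List.nodup_cons.1 hl
          have hd : rk (Pi.single i (1 : F)) (Pi.single i (β - 1)) =
              diagonal (fun j => if j = i then β else 1) := by
            ext p q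
            simp only [rk, Matrix.add_apply, Matrix.one_apply, vecMulVec_apply, Pi.single_apply, diagonal_apply]
            split_ifs <;> simp_all
          rw [List.map_cons, List.prod_cons, ih hl, hd, diagonal_mul_diagonal]
          congr 1
          funext j
          by_cases hj : j = i <;> simp [hj, hi]
      rw [key _ (Finset.nodup_toList _), smul_one_eq_diagonal]
      simp

end RankOne

/-- A scalar plus a rank-one matrix covers in `n` steps. -/
theorem rankOne_covers (h3 : 3 ≤ Fintype.card ι) (hF : ∃ c : F, c ≠ 0 ∧ c ≠ 1) {x : Matrix ι ι F}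
    (hns : Nonscalar x) (hr : IsRankOne x) (hdet : x.det = 1) :
    (∀ g : Matrix ι ι F, g.det = 1 → Nonscalar g → InPow x (Fintype.card ι) g) ∧
      ∃ z : F, InPow x (Fintype.card ι) (z • 1) := by
  set n := Fintype.card ι
  obtain ⟨c, u, w, rfl⟩ := hr
  have hu : u ≠ 0 := fun h => hns c (by rw [h, zero_vecMulVec, add_zero])
  have hw : w ≠ 0 := fun h => hns c (by rw [h, vecMulVec_zero, add_zero])
  have hc : c ≠ 0 := by
    rintro rfl
    have : Nontrivial ι := Fintype.one_lt_card_iff_nontrivial.1 (by omega)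
    rw [zero_smul, zero_add, Matrix.det_vecMulVec] at hdet
    exact zero_ne_one hdet
  set y := RankOne.rk (c⁻¹ • u) w with hy
  have hx : c • 1 + vecMulVec u w = c • y := by
    rw [hy, RankOne.rk, smul_add, smul_vecMulVec, smul_smul, mul_inv_cancel₀ hc, one_smul]
  rw [hx] at hdet ⊢
  set β := y.det with hβdef
  have hcβ : c ^ n * β = 1 := by rw [← hdet, det_smul]
  have hβ : β ≠ 0 := right_ne_zero_of_mul_eq_one hcβ
  have hy' : RankOne.Cls β y :=
    ⟨_, w, smul_ne_zero (inv_ne_zero hc) hu, hw, by rw [hβdef, hy, RankOne.det_rk, add_sub_cancel_left], rfl⟩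
  have hfull : DetFull y := RankOne.detFull_rk h3
  have lift : ∀ g, RankOne.PP β n g → InPow (c • y) n (c ^ n • g) := by
    rintro g ⟨l, h1, h2, h3'⟩
    exact InPow.smul ⟨l, h1, fun z hz => (RankOne.glSim_cls hy' (h2 z hz)).slSim hfull, h3'⟩ c
  refine ⟨fun g hg hgn => ?_, ?_⟩
  · have hp := RankOne.all_nonscalar (g := (c ^ n)⁻¹ • g) hβ (by omega) hF (fun d hd => hgn (c ^ n * d) ?_) ?_
    · simpa [smul_smul, mul_inv_cancel₀ (pow_ne_zero n hc)] using lift _ hp
    · rw [mul_smul, ← hd, smul_inv_smul₀ (pow_ne_zero n hc)]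
    · rw [det_smul, hg, mul_one, ← eq_inv_of_mul_eq_one_right hcβ]
  · obtain ⟨z, hz⟩ := RankOne.some_scalar (ι := ι) hβ (by omega) hF
    exact ⟨c ^ n * z, by simpa [smul_smul] using lift _ hz⟩

end CfsgLib.PSLCover
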