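import Cfsg.Agent.Lib.PSLCover.ThreeClass

/-!
Scalars as products of `n` conjugates: diagonal matrices, and `c ⊕ A` with a two by two block `A`.

For the second, two factors act on each new pair of coordinates as `A` and a conjugate of its adjugate.
-/

set_option autoImplicit false
set_option linter.unusedSectionVars false
set_option linter.unusedSimpArgs false

namespace CfsgLib.PSLCover

open Matrix

variable {F : Type*} [Field F] {ι κ : Type*} [Fintype ι] [DecidableEq ι] [Fintype κ] [DecidableEq κ]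

theorem glSim_submatrix (σ : Equiv.Perm ι) (x : Matrix ι ι F) : GLSim x (x.submatrix σ σ) := by
  refine ⟨σ.permMatrix F, ?_, ?_⟩
  · rw [Matrix.det_permutation]
    rcases Int.units_eq_one_or (Equiv.Perm.sign σ) with h | h <;> simp [h]
  · rw [Equiv.Perm.permMatrix, PEquiv.toMatrix_toPEquiv_mul, PEquiv.mul_toMatrix_toPEquiv]
    ext i j
    simp

/-- Permuting the diagonal is a conjugation by a matrix of determinant one. -/
theorem slSim_diagonal_perm [Nonempty ι] (σ : Equiv.Perm ι) (d : ι → F) :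
    SLSim (diagonal d) (diagonal (d ∘ σ)) := by
  set i₀ := Classical.arbitrary ι
  set e : F := ((Equiv.Perm.sign σ : ℤ) : F)
  have he : e * e = 1 := by
    rcases Int.units_eq_one_or (Equiv.Perm.sign σ) with h | h <;> simp [e, h]
  refine ⟨diagonal (Function.update 1 i₀ e) * σ.permMatrix F, ?_, ?_⟩
  · rw [det_mul, det_diagonal, Finset.prod_update_of_mem (Finset.mem_univ i₀), Matrix.det_permutation]
    simpa [e] using he
  · ext i j
    simp only [Matrix.mul_diagonal, Matrix.diagonal_mul, Equiv.Perm.permMatrix, PEquiv.toMatrix_apply,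
      Equiv.toPEquiv_apply, Option.mem_def, Option.some_inj, Function.comp_apply]
    by_cases h : σ i = j
    · subst h; simp [mul_comm]
    · simp [h]

theorem prod_map_fromBlocks (c : F) (l : List (Matrix κ κ F)) :
    (l.map fun y => fromBlocks (c • (1 : Matrix ι ι F)) 0 0 y).prod =
      fromBlocks (c ^ l.length • 1) 0 0 l.prod := by
  induction l with
  | nil => simp [fromBlocks_one]
  | cons y l ih =>
    rw [List.map_cons, List.prod_cons, ih, fromBlocks_multiply, List.prod_cons, List.length_cons]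
    simp [smul_smul, pow_succ', mul_comm]

/-- A diagonal matrix: the scalar `det` is a product of `card` conjugates. -/
theorem inPow_scalar_diagonal (d : ι → F) :
    InPow (diagonal d) (Fintype.card ι) ((∏ i, d i) • (1 : Matrix ι ι F)) := by
  suffices h : ∀ (m : ℕ) (f : Fin m → F),
      InPow (diagonal f) m ((∏ i, f i) • (1 : Matrix (Fin m) (Fin m) F)) by
    have e := (Fintype.equivFin ι).symm
    have h1 := (h _ (d ∘ e)).reindex e
    have h2 : (diagonal (d ∘ e)).reindex e e = diagonal d := by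
      ext i j
      simp [diagonal_apply]
    rw [h2, Function.comp_def, Fintype.prod_equiv e (fun i => d (e i)) d (fun _ => rfl)] at h1
    convert h1 using 2
    ext i j
    simp [Matrix.one_apply]
  intro m f
  rcases Nat.eq_zero_or_pos m with rfl | hm
  · exact ⟨[], rfl, by simp, Subsingleton.elim _ _⟩
  have : NeZero m := ⟨by omega⟩
  refine ⟨List.ofFn fun k : Fin m => diagonal (f ∘ Equiv.addRight k), by simp, fun y hy => ?_, ?_⟩
  · obtain ⟨k, rfl⟩ := List.mem_ofFn.1 hy
    exact slSim_diagonal_perm _ _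
  · have h1 := (List.prod_ofFn (f := fun k : Fin m => (f ∘ Equiv.addRight k : Fin m → F)))
    have h2 := map_list_prod (Matrix.diagonalRingHom (Fin m) F) (List.ofFn fun k : Fin m => f ∘ Equiv.addRight k)
    rw [h1, List.map_ofFn] at h2
    rw [Matrix.smul_one_eq_diagonal]
    refine Eq.trans (show _ = _ from h2.symm) ?_
    refine congrArg diagonal (funext fun i => ?_)
    rw [Finset.prod_apply]
    exact Fintype.prod_equiv (Equiv.addLeft i) _ _ fun _ => rfl

/-- Product of `k` conjugates under invertible matrices. -/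
def InGLPow (x : Matrix ι ι F) (k : ℕ) (g : Matrix ι ι F) : Prop :=
  ∃ l : List (Matrix ι ι F), l.length = k ∧ (∀ y ∈ l, GLSim x y) ∧ l.prod = g

theorem InGLPow.inPow {x g : Matrix ι ι F} {k : ℕ} (h : InGLPow x k g) (hx : DetFull x) : InPow x k g := by
  obtain ⟨l, h1, h2, h3⟩ := h
  exact ⟨l, h1, fun y hy => (h2 y hy).slSim hx, h3⟩

theorem InGLPow.reindex {x g : Matrix ι ι F} {k : ℕ} (h : InGLPow x k g) (e : ι ≃ κ) :
    InGLPow (x.reindex e e) k (g.reindex e e) := by
  obtain ⟨l, h1, h2, rfl⟩ := h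
  refine ⟨l.map (Matrix.reindexAlgEquiv F F e), by simpa using h1, fun y hy => ?_, ?_⟩
  · obtain ⟨z, hz, rfl⟩ := List.mem_map.1 hy
    simpa using (h2 z hz).reindex e
  · rw [← map_list_prod]; rfl

theorem reindex_scalar (e : ι ≃ κ) (z : F) : (z • (1 : Matrix ι ι F)).reindex e e = z • 1 := by
  ext i j
  simp [Matrix.one_apply]

/-- A two by two matrix is conjugate to its adjugate. -/
theorem glSim_adjugate_two (A : Matrix (Fin 2) (Fin 2) F) : GLSim A A.adjugate := by
  by_cases hc : A 1 0 = 0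
  · by_cases hb : A 0 1 = 0
    · refine ⟨!![0, 1; 1, 0], by simp [Matrix.det_fin_two], ?_⟩
      ext i j
      fin_cases i <;> fin_cases j <;> simp [Matrix.adjugate_fin_two, Matrix.mul_apply, Fin.sum_univ_two, hb, hc]
    · refine ⟨!![-1, 0; (A 0 0 - A 1 1) / A 0 1, 1], by simp [Matrix.det_fin_two], ?_⟩
      ext i j
      fin_cases i <;> fin_cases j <;> simp [Matrix.adjugate_fin_two, Matrix.mul_apply, Fin.sum_univ_two, hc]
      all_goals field_simp
      all_goals ring
  · refine ⟨!![1, (A 1 1 - A 0 0) / A 1 0; 0, -1], by simp [Matrix.det_fin_two], ?_⟩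
    ext i j
    fin_cases i <;> fin_cases j <;> simp [Matrix.adjugate_fin_two, Matrix.mul_apply, Fin.sum_univ_two]
    all_goals field_simp
    all_goals ring

/-- The scalar statement for `c ⊕ A` with the first block indexed by `κ`. -/
def TwoBlockScalar (κ : Type*) [Fintype κ] [DecidableEq κ] (c : F) (A : Matrix (Fin 2) (Fin 2) F) : Prop :=
  InGLPow (fromBlocks (c • (1 : Matrix κ κ F)) 0 0 A) (Fintype.card κ + 2)
    ((c ^ Fintype.card κ * A.det) • 1)

theorem TwoBlockScalar.equiv {c : F} {A : Matrix (Fin 2) (Fin 2) F} {κ' : Type*} [Fintype κ'] [DecidableEq κ']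
    (h : TwoBlockScalar κ c A) (e : κ ≃ κ') : TwoBlockScalar κ' c A := by
  unfold TwoBlockScalar at h ⊢
  have h1 := h.reindex (Equiv.sumCongr e (Equiv.refl _))
  rw [reindex_scalar, Fintype.card_congr e] at h1
  have h2 : (fromBlocks (c • (1 : Matrix κ κ F)) 0 0 A).reindex (Equiv.sumCongr e (Equiv.refl (Fin 2)))
      (Equiv.sumCongr e (Equiv.refl (Fin 2))) = fromBlocks (c • (1 : Matrix κ' κ' F)) 0 0 A := by
    ext (i | i) (j | j) <;> simp [Matrix.one_apply]
  rwa [h2] at h1

theorem TwoBlockScalar.add_two {c : F} {A : Matrix (Fin 2) (Fin 2) F} (h : TwoBlockScalar κ c A) :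
    TwoBlockScalar (Fin 2 ⊕ κ) c A := by
  unfold TwoBlockScalar at h ⊢
  obtain ⟨l, h1, h2, h3⟩ := h
  set X := fromBlocks (c • (1 : Matrix κ κ F)) 0 0 A with hX
  set Y := fromBlocks (c • (1 : Matrix (Fin 2) (Fin 2) F)) 0 0 X with hY
  let f : Fin 2 ⊕ (κ ⊕ Fin 2) → Fin 2 ⊕ (κ ⊕ Fin 2) :=
    Sum.elim (fun i => Sum.inr (Sum.inr i)) (Sum.elim (fun k => Sum.inr (Sum.inl k)) fun i => Sum.inl i)
  have hf : Function.Involutive f := by rintro (i | k | i) <;> rfl
  have hs : Y.submatrix (hf.toPerm f) (hf.toPerm f) = fromBlocks A 0 0 (c • (1 : Matrix (κ ⊕ Fin 2) _ F)) := by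
    ext (i | i | i) (j | j | j) <;> simp [f, hY, hX, Matrix.one_apply]
  have hA : GLSim Y (fromBlocks A 0 0 (c • (1 : Matrix (κ ⊕ Fin 2) _ F))) := hs ▸ glSim_submatrix _ Y
  have hA' : GLSim Y (fromBlocks A.adjugate 0 0 (c • (1 : Matrix (κ ⊕ Fin 2) _ F))) := by
    obtain ⟨P, hP, e⟩ := glSim_adjugate_two A
    refine hA.trans ⟨fromBlocks P 0 0 1, by simpa [det_fromBlocks_zero₂₁] using hP, ?_⟩
    simp [fromBlocks_multiply, e]
  have key : InGLPow Y (Fintype.card κ + 2 + 2)
      ((c ^ (Fintype.card κ + 2) * A.det) • (1 : Matrix (Fin 2 ⊕ (κ ⊕ Fin 2)) _ F)) := by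
    refine ⟨fromBlocks A 0 0 (c • 1) :: fromBlocks A.adjugate 0 0 (c • 1) ::
      l.map fun y => fromBlocks (c • 1) 0 0 y, by simp [h1], fun y hy => ?_, ?_⟩
    · rcases List.mem_cons.1 hy with rfl | hy
      · exact hA
      rcases List.mem_cons.1 hy with rfl | hy
      · exact hA'
      obtain ⟨z, hz, rfl⟩ := List.mem_map.1 hy
      obtain ⟨P, hP, e⟩ := h2 z hz
      refine ⟨fromBlocks 1 0 0 P, by simpa [det_fromBlocks_zero₂₁] using hP, ?_⟩
      rw [hY]
      simp [fromBlocks_multiply, ← hX, e]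
    · rw [List.prod_cons, List.prod_cons, prod_map_fromBlocks, h1, h3, ← Matrix.mul_assoc, fromBlocks_multiply]
      simp only [Matrix.mul_zero, Matrix.zero_mul, add_zero, zero_add, Matrix.mul_adjugate]
      rw [fromBlocks_multiply, ← fromBlocks_one, fromBlocks_smul]
      simp only [Matrix.mul_zero, Matrix.zero_mul, add_zero, zero_add, smul_zero, Matrix.smul_mul,
        Matrix.mul_smul, Matrix.one_mul, smul_smul, fromBlocks_one]
      ext (i | i | i) (j | j | j) <;> simp [Matrix.one_apply] <;> split_ifs <;> ring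
  have h4 := key.reindex (Equiv.sumAssoc (Fin 2) κ (Fin 2)).symm
  rw [reindex_scalar] at h4
  have h5 : Y.reindex (Equiv.sumAssoc (Fin 2) κ (Fin 2)).symm (Equiv.sumAssoc (Fin 2) κ (Fin 2)).symm =
      fromBlocks (c • (1 : Matrix (Fin 2 ⊕ κ) _ F)) 0 0 A := by
    ext ((i | i) | i) ((j | j) | j) <;> simp [hY, hX, Matrix.one_apply]
  rw [h5] at h4
  convert h4 using 3 <;> simp [Fintype.card_sum] <;> ring

theorem twoBlockScalar_fin_zero (c : F) (A : Matrix (Fin 2) (Fin 2) F) : TwoBlockScalar (Fin 0) c A := by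
  obtain ⟨P, hP, e⟩ := glSim_adjugate_two A
  refine ⟨[fromBlocks (c • 1) 0 0 A, fromBlocks (c • 1) 0 0 A.adjugate], rfl, fun y hy => ?_, ?_⟩
  · rcases List.mem_cons.1 hy with rfl | hy
    · exact GLSim.refl _
    · obtain rfl := List.mem_singleton.1 hy
      refine ⟨fromBlocks 1 0 0 P, by simpa [det_fromBlocks_zero₂₁] using hP, ?_⟩
      simp [fromBlocks_multiply, e]
  · rw [List.prod_cons, List.prod_singleton, fromBlocks_multiply]
    ext (i | i) (j | j)
    · exact i.elim0
    · exact i.elim0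
    · exact j.elim0
    · simp [Matrix.mul_adjugate, Matrix.one_apply]

theorem twoBlockScalar_fin_one {c : F} (hc : c ≠ 0) {A : Matrix (Fin 2) (Fin 2) F} (hA : A.det ≠ 0)
    (hcA : (A - c • 1).det ≠ 0) : TwoBlockScalar (Fin 1) c A := by
  set B : Matrix (Fin 3) (Fin 3) F := !![c, 0, 0; 0, A 0 0, A 0 1; 0, A 1 0, A 1 1] with hB
  have hx : B.reindex finSumFinEquiv.symm finSumFinEquiv.symm =
      fromBlocks (c • (1 : Matrix (Fin 1) (Fin 1) F)) 0 0 A := by
    ext (i | i) (j | j) <;> fin_cases i <;> fin_cases j <;> simp [hB, finSumFinEquiv]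
  have hd : B.det = c * A.det := by
    simp [hB, Matrix.det_fin_three, Matrix.det_fin_two]
    ring
  suffices h : InGLPow B 3 ((c * A.det) • 1) by
    have h1 := h.reindex (finSumFinEquiv (m := 1) (n := 2)).symm
    rw [hx, reindex_scalar] at h1
    unfold TwoBlockScalar
    simpa using h1
  rcases Three.cyc_or_rankOne B with hcyc | ⟨s, u, w, e⟩
  · obtain ⟨a, b, d, ha, hb, hd', he⟩ := Three.scalar_of_simple hcyc (by rw [hd]; exact mul_ne_zero hc hA)
      (μ := c) (by
        simp [hB, Three.sec, Matrix.trace_fin_three, Matrix.det_fin_three]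
        ring)
      (fun e => hcA (by
        rw [Matrix.det_fin_two]
        simp [hB, Three.sec, Matrix.trace_fin_three] at e ⊢
        linear_combination e))
    refine ⟨[a, b, d], rfl, ?_, ?_⟩
    · simp [ha, hb, hd']
    · rw [hd] at he
      simpa [Matrix.mul_assoc] using he
  · have hkk : ∀ i j, B i j = (s • (1 : Matrix (Fin 3) (Fin 3) F) + vecMulVec u w) i j := fun i j => by rw [e]
    have k00 := hkk 0 0
    have k01 := hkk 0 1
    have k02 := hkk 0 2
    have k10 := hkk 1 0
    have k11 := hkk 1 1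
    have k12 := hkk 1 2
    have k20 := hkk 2 0
    have k21 := hkk 2 1
    have k22 := hkk 2 2
    simp [hB, Matrix.vecMulVec_apply] at k00 k01 k02 k10 k11 k12 k20 k21 k22
    by_cases hs : c = s
    · subst hs
      exfalso
      refine hcA ?_
      rw [Matrix.det_fin_two]
      simp [k11, k12, k21, k22]
      ring
    · have hu : u 0 ≠ 0 := fun h => hs (by simpa [h] using k00)
      have hw : w 0 ≠ 0 := fun h => hs (by simpa [h] using k00)
      have hw1 : w 1 = 0 := k01.resolve_left hu
      have hw2 : w 2 = 0 := k02.resolve_left hu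
      have hBd : B = diagonal ![c, s, s] := by
        ext i j
        fin_cases i <;> fin_cases j <;> simp [hB, k11, k12, k21, k22, hw1, hw2]
      obtain ⟨l, h1, h2, h3⟩ := inPow_scalar_diagonal ![c, s, s]
      refine ⟨l, by simpa using h1, fun y hy => hBd ▸ (h2 y hy).glSim, ?_⟩
      rw [h3, ← det_diagonal, ← hBd, hd]

theorem twoBlockScalar {c : F} (hc : c ≠ 0) {A : Matrix (Fin 2) (Fin 2) F} (hA : A.det ≠ 0)
    (hcA : (A - c • 1).det ≠ 0) : TwoBlockScalar κ c A := by
  suffices h : ∀ m : ℕ, TwoBlockScalar (Fin m) c A from (h _).equiv (Fintype.equivFin κ).symm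
  intro m
  induction m using Nat.twoStepInduction with
  | zero => exact twoBlockScalar_fin_zero c A
  | one => exact twoBlockScalar_fin_one hc hA hcA
  | more m ih _ => exact ih.add_two.equiv (finSumFinEquiv.trans (finCongr (Nat.add_comm 2 m)))

theorem detFull_twoBlock [Nonempty κ] (c : F) (A : Matrix (Fin 2) (Fin 2) F) :
    DetFull (fromBlocks (c • (1 : Matrix κ κ F)) 0 0 A) := fun d _ => by
  refine ⟨fromBlocks (diagonal (Function.update 1 (Classical.arbitrary κ) d)) 0 0 1, ?_, ?_⟩
  · rw [det_fromBlocks_zero₂₁, det_diagonal, Finset.prod_update_of_mem (Finset.mem_univ _)]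
    simp
  · simp [fromBlocks_multiply]

/-- `c ⊕ A`: the scalar `det` is a product of `n` conjugates. -/
theorem inPow_scalar_twoBlock [Nonempty κ] {c : F} (hc : c ≠ 0) {A : Matrix (Fin 2) (Fin 2) F}
    (hA : A.det ≠ 0) (hcA : (A - c • 1).det ≠ 0) :
    InPow (fromBlocks (c • (1 : Matrix κ κ F)) 0 0 A) (Fintype.card κ + 2)
      ((c ^ Fintype.card κ * A.det) • 1) :=
  (twoBlockScalar hc hA hcA).inPow (detFull_twoBlock c A)

end CfsgLib.PSLCover
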