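import Cfsg.Agent.Lib.PSLCover.QuadFour
import Cfsg.Agent.Lib.PSLCover.RankOne
import Cfsg.Agent.Lib.PSLCover.Scalar

/-!
Repeated quadratic blocks: the exceptional targets of four conjugates, and scalars.
-/

set_option autoImplicit false
set_option linter.unusedSectionVars false

namespace CfsgLib.PSLCover

open Matrix Polynomial

variable {F : Type*} [Field F]

theorem blockDiagonal_mulVec_apply {ι κ : Type*} [Fintype ι] [DecidableEq ι] [Fintype κ] [DecidableEq κ]
    (M : κ → Matrix ι ι F) (v : ι × κ → F) (i : ι) (k : κ) :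
    (Matrix.blockDiagonal M *ᵥ v) (i, k) = (M k *ᵥ fun j => v (j, k)) i := by
  simp [Matrix.mulVec, dotProduct, Fintype.sum_prod_type, Matrix.blockDiagonal_apply]

theorem glSim_blockDiagonal {ι κ : Type*} [Fintype ι] [DecidableEq ι] [Fintype κ] [DecidableEq κ]
    {M N : κ → Matrix ι ι F} (h : ∀ k, GLSim (M k) (N k)) :
    GLSim (Matrix.blockDiagonal M) (Matrix.blockDiagonal N) := by
  choose P hP e using h
  refine ⟨Matrix.blockDiagonal P, ?_, ?_⟩
  · rw [Matrix.det_blockDiagonal]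
    exact Finset.prod_ne_zero_iff.2 fun k _ => hP k
  · rw [← Matrix.blockDiagonal_mul, ← Matrix.blockDiagonal_mul]
    exact congrArg Matrix.blockDiagonal (funext e)

theorem GLPowNC.blockDiagonal {ι κ : Type*} [Fintype ι] [DecidableEq ι] [Fintype κ] [DecidableEq κ]
    {A : Matrix ι ι F} {m : ℕ} {h : κ → Matrix ι ι F} (H : ∀ k, GLPowNC A m (h k)) :
    GLPowNC (Matrix.blockDiagonal fun _ : κ => A) m (Matrix.blockDiagonal h) := by
  choose l h1 h2 h3 h4 using H
  refine ⟨List.ofFn fun i : Fin m => Matrix.blockDiagonal fun k => (l k).get (Fin.cast (h1 k).symm i), by simp,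
    fun y hy => ?_, ?_, ?_⟩
  · obtain ⟨i, rfl⟩ := List.mem_ofFn.1 hy
    exact glSim_blockDiagonal fun k => h2 k _ (List.get_mem _ _)
  · have e := map_list_prod (Matrix.blockDiagonalRingHom ι κ F)
      (List.ofFn fun i : Fin m => fun k => (l k).get (Fin.cast (h1 k).symm i))
    rw [List.map_ofFn] at e
    refine Eq.trans e.symm ?_
    refine congrArg Matrix.blockDiagonal (funext fun k => ?_)
    rw [Pi.list_prod_apply, List.map_ofFn, ← h3 k]
    refine congrArg List.prod (List.ext_get (by simp [h1 k]) fun i a b => ?_)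
    simp
  · intro v hv c
    obtain ⟨⟨i0, k⟩, hk⟩ := Function.ne_iff.1 hv
    have hvk : (fun j => v (j, k)) ≠ 0 := fun e => hk (congrFun e i0)
    obtain ⟨y, hy, hne⟩ := h4 k _ hvk c
    obtain ⟨j, rfl⟩ := List.get_of_mem hy
    refine ⟨_, List.mem_ofFn.2 ⟨Fin.cast (h1 k) j, rfl⟩, fun e => hne (funext fun i => ?_)⟩
    have := congrFun e (i, k)
    rw [blockDiagonal_mulVec_apply] at this
    exact this

theorem conjBy_eigen_back {ι : Type*} [Fintype ι] [DecidableEq ι] {R z : Matrix ι ι F} {v : ι → F} {c : F}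
    (hR : R.det ≠ 0) (e : conjBy R z *ᵥ v = c • v) : z *ᵥ (R⁻¹ *ᵥ v) = c • (R⁻¹ *ᵥ v) := by
  have := congrArg (fun w => R⁻¹ *ᵥ w) e
  simpa [conjBy, Matrix.mulVec_mulVec, Matrix.mulVec_smul, ← Matrix.mul_assoc,
    Matrix.nonsing_inv_mul R (isUnit_iff_ne_zero.2 hR)] using this

theorem inv_mulVec_ne_zero {ι : Type*} [Fintype ι] [DecidableEq ι] {R : Matrix ι ι F} {v : ι → F}
    (hR : R.det ≠ 0) (hv : v ≠ 0) : R⁻¹ *ᵥ v ≠ 0 := fun e => hv (by
  have := congrArg (fun w => R *ᵥ w) e
  simpa [Matrix.mulVec_mulVec, Matrix.mul_nonsing_inv R (isUnit_iff_ne_zero.2 hR)] using this)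

theorem rootsPoly_pair_comm (x y : F) : rootsPoly (x ::ₘ ({y} : Multiset F)) = rootsPoly (y ::ₘ {x}) := by
  rw [show (x ::ₘ ({y} : Multiset F)) = y ::ₘ {x} from Multiset.cons_swap x y 0]

/-- Four conjugates of a quadratic block with product `s` times a transvection, or `s`. -/
theorem glPowNC_quad_target [Fintype F] (hq : 4 ≤ Fintype.card F) (a : Fin 2 → F) (ha : (comp a).det ≠ 0)
    {β s : F} (hβ : β ≠ 0)
    (hadm : (∀ r r' : F, (comp a).charpoly.eval r = 0 → (comp a).charpoly.eval r' = 0 → r = r') ∧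
        β * β ≠ (comp a).det ^ 2 ∨
      ∃ l m : F, l ≠ m ∧ (comp a).charpoly.eval l = 0 ∧ (comp a).charpoly.eval m = 0 ∧ β = l * l)
    (hs : s = (comp a).det ^ 2 ∨ s = β * β ∧ s ^ 2 = ((comp a).det ^ 2) ^ 2) :
    GLPowNC (comp a) 4 (s • 1) ∧
      ∃ e : F, e ≠ 0 ∧ GLPowNC (comp a) 4 (!![s, s * e; 0, s] : Matrix (Fin 2) (Fin 2) F) := by
  classical
  set d := (comp a).det with hd
  set γ := d ^ 2 / β with hγ
  have hβγ : β * γ = d ^ 2 := mul_div_cancel₀ _ hβ
  have hγ0 : γ ≠ 0 := div_ne_zero (pow_ne_zero _ ha) hβ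
  have hs0 : s ≠ 0 := by
    rcases hs with rfl | ⟨rfl, -⟩
    · exact pow_ne_zero _ ha
    · exact mul_ne_zero hβ hβ
  obtain ⟨R1, R2, L1, L2, hdis, hp1, hp2⟩ : ∃ R1 R2 L1 L2 : Set (F × F),
      (∀ c, (c, c) ∈ R1 → (c, c) ∈ R2 → False) ∧
      HasPair (comp a) (β ::ₘ {γ}) R1 L1 ∧ HasPair (comp a) (β ::ₘ {γ}) R2 L2 := by
    rcases hadm with ⟨hns, hne⟩ | ⟨l, m, hlm, hl, hm, rfl⟩
    · exact ⟨∅, ∅, ∅, ∅, fun c h => h.elim, hasPair_quad a ha hns hne hβ, hasPair_quad a ha hns hne hβ⟩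
    · have hdd : d = l * m := by
        have hl' := hl
        have hm' := hm
        rw [charpoly_comp_two_eval] at hl' hm'
        have ha1 : a 1 = l + m := mul_left_cancel₀ (sub_ne_zero.2 hlm) (by linear_combination hm' - hl')
        rw [hd, det_comp_two]
        linear_combination hl' + l * ha1
      have hmm : γ = m * m := by
        rw [hγ, hdd, div_eq_iff hβ]; ring
      refine ⟨{(l, l)}, {(m, m)}, {(m, m)}, {(l, l)}, fun c h1 h2 => ?_, hmm ▸ hasPair_split a ha hlm hl hm, ?_⟩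
      · simp only [Set.mem_singleton_iff, Prod.mk.injEq] at h1 h2
        exact hlm (h1.1.symm.trans h2.1)
      · have h := hasPair_split a ha hlm.symm hm hl
        rwa [show (m * m ::ₘ ({l * l} : Multiset F)) = (l * l) ::ₘ {m * m} from
          Multiset.cons_swap (m * m) (l * l) 0, ← hmm] at h
  -- the two products with the prescribed spectrum
  have key : ∀ e : F, e * γ ≠ 1 → GLPowNC (comp a) 4 (!![s, s * e; 0, s] : Matrix (Fin 2) (Fin 2) F) := by
    intro e he
    let T1 : Matrix (Fin 2) (Fin 2) F := !![β, 1; 0, γ]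
    let T2 : Matrix (Fin 2) (Fin 2) F := !![s / β, s * (e * γ - 1) / (β * γ); 0, s / γ]
    have hprod : T1 * T2 = !![s, s * e; 0, s] := by
      ext i j
      fin_cases i <;> fin_cases j <;> simp [T1, T2, Matrix.mul_apply, Fin.sum_univ_two]
      all_goals field_simp
      all_goals ring
    obtain ⟨hc1, hq1⟩ := upper_two_cyclic T1 rfl (by simp [T1])
    obtain ⟨hc2, hq2⟩ := upper_two_cyclic T2 rfl
      (by simpa [T2] using (div_ne_zero (mul_ne_zero hs0 (sub_ne_zero.2 he)) (mul_ne_zero hβ hγ0)))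
    have hspec : rootsPoly (s / β ::ₘ ({s / γ} : Multiset F)) = rootsPoly (β ::ₘ {γ}) := by
      rcases hs with h | ⟨h, h'⟩
      · rw [show s / β = γ by rw [hγ, h], show s / γ = β by rw [h, ← hβγ, mul_div_cancel_right₀ _ hγ0],
          rootsPoly_pair_comm]
      · have e1 : s / β = β := by rw [h, mul_div_cancel_right₀ _ hβ]
        have e2 : s / γ = γ := by
          rw [div_eq_iff hγ0]
          refine mul_left_cancel₀ hs0 ?_
          rw [← sq, h', ← hβγ, h]
          ring
        rw [e1, e2]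
    obtain ⟨y1, y2, hy1, hy2, hp⟩ := hp1
    obtain ⟨z1, z2, hz1, hz2, hr⟩ := hp2
    have hT1 : (y1 * y2).det ≠ 0 := by
      rw [det_mul, ← hy1.det_eq, ← hy2.det_eq]; exact mul_ne_zero ha ha
    have hT2 : (z1 * z2).det ≠ 0 := by
      rw [det_mul, ← hz1.det_eq, ← hz2.det_eq]; exact mul_ne_zero ha ha
    obtain ⟨P, hP, eP⟩ := glSim_of_splitCyclic hp.cyc hc1 hT1 (by rw [hp.poly, hq1]; simp [T1])
    obtain ⟨Q, hQ, eQ⟩ := glSim_of_splitCyclic hr.cyc hc2 hT2 (by rw [hr.poly, hq2, ← hspec]; simp [T2])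
    refine ⟨[conjBy P y1, conjBy P y2, conjBy Q z1, conjBy Q z2], rfl, ?_, ?_, ?_⟩
    · intro y hy
      simp only [List.mem_cons, List.not_mem_nil, or_false] at hy
      rcases hy with rfl | rfl | rfl | rfl
      · exact (hy1.trans (glSim_conjBy hP _))
      · exact (hy2.trans (glSim_conjBy hP _))
      · exact (hz1.trans (glSim_conjBy hQ _))
      · exact (hz2.trans (glSim_conjBy hQ _))
    · simp only [List.prod_cons, List.prod_nil, mul_one]
      rw [← Matrix.mul_assoc (conjBy P y1), ← conjBy_mul hP, ← conjBy_mul hQ, conjBy_eq hP eP,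
        conjBy_eq hQ eQ, hprod]
    · intro v hv c
      by_contra h
      push Not at h
      have back := fun {R : Matrix (Fin 2) (Fin 2) F} (hR : R.det ≠ 0) (z : Matrix (Fin 2) (Fin 2) F)
        (e : conjBy R z *ᵥ v = c • v) => conjBy_eigen_back hR e
      have nz := fun {R : Matrix (Fin 2) (Fin 2) F} (hR : R.det ≠ 0) => inv_mulVec_ne_zero hR hv
      refine hdis c (hp.right (c, c) ⟨_, nz hP, back hP _ (h _ ?_), back hP _ (h _ ?_)⟩)
        (hr.right (c, c) ⟨_, nz hQ, back hQ _ (h _ ?_), back hQ _ (h _ ?_)⟩) <;> simp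
  refine ⟨?_, ?_⟩
  · have h := key 0 (by simp)
    convert h using 1
    ext i j
    fin_cases i <;> fin_cases j <;> simp
  · obtain ⟨e, he0, he1⟩ := exists_ne_pair (F := F) (by omega) γ⁻¹
    exact ⟨e, he0, key e fun h => he1 (eq_inv_of_mul_eq_one_left h)⟩

/-- Four conjugates of equal quadratic blocks reach every nonscalar matrix. -/
theorem quads_glPowNC [Fintype F] (hq : 4 ≤ Fintype.card F) (a : Fin 2 → F) (ha : (comp a).det ≠ 0)
    {b : ℕ} (hb : 1 ≤ b) {g : Matrix (Fin 2 × Fin b) (Fin 2 × Fin b) F} (hg : Nonscalar g)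
    (hgd : g.det = (Matrix.blockDiagonal fun _ : Fin b => comp a).det ^ 4) :
    GLPowNC (Matrix.blockDiagonal fun _ : Fin b => comp a) 4 g := by
  classical
  refine quads_glPowNC_of_exception hq a ha hb hg hgd fun β s u w hβ hadm hs hguw => ?_
  obtain ⟨hscal, e, he, htrans⟩ := glPowNC_quad_target hq a ha hβ hadm hs
  set d := (comp a).det with hd
  have hs0 : s ≠ 0 := by
    rcases hs with rfl | ⟨rfl, -⟩
    · exact pow_ne_zero _ ha
    · exact mul_ne_zero hβ hβ
  have hu : u ≠ 0 := fun h => hg s (by rw [hguw, h, zero_vecMulVec, add_zero])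
  have hw : w ≠ 0 := fun h => hg s (by rw [hguw, h, vecMulVec_zero, add_zero])
  have hrk : g = s • RankOne.rk (s⁻¹ • u) w := by
    rw [hguw, RankOne.rk, smul_add, smul_vecMulVec, smul_smul, mul_inv_cancel₀ hs0, one_smul]
  have hwu : w ⬝ᵥ (s⁻¹ • u) = 0 := by
    have h2 : s ^ 2 = (d ^ 2) ^ 2 := by
      rcases hs with rfl | ⟨-, h'⟩
      · rfl
      · exact h'
    have h := hgd
    rw [hrk, det_smul, RankOne.det_rk, det_blockDiagonal_const, Fintype.card_prod, Fintype.card_fin,
      Fintype.card_fin, pow_mul, h2, ← hd, ← pow_mul, ← pow_mul, ← pow_mul,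
      show 2 * (2 * b) = b * 4 by ring] at h
    exact add_eq_left.1 ((mul_eq_left₀ (pow_ne_zero _ ha)).1 h)
  let k0 : Fin b := ⟨0, by omega⟩
  let tgt : Fin b → Matrix (Fin 2) (Fin 2) F := fun k => if k = k0 then !![s, s * e; 0, s] else s • 1
  have htgt : GLPowNC (Matrix.blockDiagonal fun _ : Fin b => comp a) 4 (Matrix.blockDiagonal tgt) :=
    GLPowNC.blockDiagonal fun k => by
      simp only [tgt]
      split_ifs
      · exact htrans
      · exact hscal
  have hform : Matrix.blockDiagonal tgt = s • RankOne.rk (Pi.single ((0 : Fin 2), k0) e) (Pi.single ((1 : Fin 2), k0) 1) := by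
    ext ⟨i, k⟩ ⟨j, k'⟩
    simp only [Matrix.blockDiagonal_apply, tgt, RankOne.rk, Matrix.smul_apply, Matrix.add_apply,
      vecMulVec_apply, Pi.single_apply, Matrix.one_apply, Prod.mk.injEq, smul_eq_mul]
    by_cases h : k = k'
    · subst h
      by_cases h' : k = k0 <;> fin_cases i <;> fin_cases j <;> simp [h']
    · by_cases h1 : k = k0
      · subst h1
        fin_cases i <;> fin_cases j <;> simp [h, Ne.symm h]
      · fin_cases i <;> fin_cases j <;> simp [h, h1]
  refine htgt.of_glSim ?_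
  rw [hform, hrk]
  refine GLSim.smul (RankOne.glSim_cls (β := 1) ?_ ?_) s
  · exact ⟨_, _, by simp [funext_iff, Pi.single_apply, he], by simp [funext_iff, Pi.single_apply],
      by simp, rfl⟩
  · exact ⟨_, w, smul_ne_zero (inv_ne_zero hs0) hu, hw, by rw [hwu, sub_self], rfl⟩

/-- A two by two matrix is conjugate to its adjugate by a matrix of determinant minus one. -/
theorem exists_adjugate_conj (A : Matrix (Fin 2) (Fin 2) F) :
    ∃ P : Matrix (Fin 2) (Fin 2) F, P.det = -1 ∧ P * A = A.adjugate * P := by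
  by_cases hc : A 1 0 = 0
  · by_cases hb : A 0 1 = 0
    · refine ⟨!![0, 1; 1, 0], by simp [Matrix.det_fin_two], ?_⟩
      ext i j
      fin_cases i <;> fin_cases j <;> simp [Matrix.adjugate_fin_two, Matrix.mul_apply, Fin.sum_univ_two, hb, hc]
    · refine ⟨!![-1, 0; (A 0 0 - A 1 1) / A 0 1, 1], by simp [Matrix.det_fin_two], ?_⟩
      ext i j
      fin_cases i <;> fin_cases j <;> simp [Matrix.adjugate_fin_two, Matrix.mul_apply, Fin.sum_univ_two, hc]
      all_goals field_simp
      all_goals ring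
  · refine ⟨!![1, (A 1 1 - A 0 0) / A 1 0; 0, -1], by simp [Matrix.det_fin_two], ?_⟩
    ext i j
    fin_cases i <;> fin_cases j <;> simp [Matrix.adjugate_fin_two, Matrix.mul_apply, Fin.sum_univ_two]
    all_goals field_simp
    all_goals ring

/-- Equal two by two blocks: alternate `X` and its blockwise adjugate. -/
theorem inPow_scalar_blocks {b : ℕ} (A : Matrix (Fin 2) (Fin 2) F) (hb : Even b) (m : ℕ) :
    InPow (Matrix.blockDiagonal fun _ : Fin b => A) (2 * m)
      (A.det ^ m • (1 : Matrix (Fin 2 × Fin b) (Fin 2 × Fin b) F)) := by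
  obtain ⟨P, hP, e⟩ := exists_adjugate_conj A
  have hadj : SLSim (Matrix.blockDiagonal fun _ : Fin b => A) (Matrix.blockDiagonal fun _ : Fin b => A.adjugate) :=
    ⟨Matrix.blockDiagonal fun _ => P, by
      rw [Matrix.det_blockDiagonal, Finset.prod_const, Finset.card_univ, Fintype.card_fin, hP, hb.neg_one_pow], by
      rw [← Matrix.blockDiagonal_mul, ← Matrix.blockDiagonal_mul]
      exact congrArg Matrix.blockDiagonal (funext fun _ => e)⟩
  induction m with
  | zero => exact ⟨[], rfl, by simp, by simp⟩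
  | succ m ih =>
    have h := (inPow_one (SLSim.refl _)).append (inPow_one hadj)
    have h' := ih.append h
    rw [← Matrix.blockDiagonal_mul, Matrix.smul_mul, Matrix.one_mul] at h'
    simp only [Matrix.mul_adjugate] at h'
    rw [show (fun _ : Fin b => A.det • (1 : Matrix (Fin 2) (Fin 2) F)) =
        A.det • (1 : Fin b → Matrix (Fin 2) (Fin 2) F) from rfl, Matrix.blockDiagonal_smul, Matrix.blockDiagonal_one,
        smul_smul, ← pow_succ] at h'
    rwa [show 2 * (m + 1) = 2 * m + (1 + 1) by ring]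

/-- Two two by two blocks: a scalar in four factors. -/
theorem inPow_scalar_two_twos (A B : Matrix (Fin 2) (Fin 2) F) :
    InPow (fromBlocks A 0 0 B) 4 ((A.det * B.det) • (1 : Matrix (Fin 2 ⊕ Fin 2) (Fin 2 ⊕ Fin 2) F)) := by
  obtain ⟨P, hP, eP⟩ := exists_adjugate_conj A
  obtain ⟨Q, hQ, eQ⟩ := exists_adjugate_conj B
  let S : Matrix (Fin 2 ⊕ Fin 2) (Fin 2 ⊕ Fin 2) F := fromBlocks 0 1 1 0
  have hS : S.det = 1 := by
    have e : S = fromBlocks 1 1 0 1 * fromBlocks 1 0 (-1) 1 * fromBlocks 1 1 0 1 *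
        fromBlocks (-1 : Matrix (Fin 2) (Fin 2) F) 0 0 1 := by
      simp [S, fromBlocks_multiply]
    rw [e]
    simp [det_fromBlocks_zero₂₁, det_fromBlocks_zero₁₂, Matrix.det_neg]
  have hswap : ∀ C D : Matrix (Fin 2) (Fin 2) F, SLSim (fromBlocks C 0 0 D) (fromBlocks D 0 0 C) :=
    fun C D => ⟨S, hS, by simp [S, fromBlocks_multiply]⟩
  have hadj : SLSim (fromBlocks A 0 0 B) (fromBlocks A.adjugate 0 0 B.adjugate) :=
    ⟨fromBlocks P 0 0 Q, by rw [det_fromBlocks_zero₂₁, hP, hQ]; ring, by simp [fromBlocks_multiply, eP, eQ]⟩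
  have h := ((inPow_one (SLSim.refl _)).append (inPow_one hadj)).append
    ((inPow_one (hswap A B)).append (inPow_one (hadj.trans (hswap _ _))))
  convert h using 1
  simp only [fromBlocks_multiply, Matrix.mul_adjugate, Matrix.mul_zero, Matrix.zero_mul, add_zero, zero_add,
    Matrix.smul_mul, Matrix.mul_smul, Matrix.one_mul, smul_smul]
  rw [← fromBlocks_one, fromBlocks_smul, smul_zero, mul_comm B.det A.det]; simp

end CfsgLib.PSLCover
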