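import Cfsg.Agent.Lib.PSLCover.Scalar
import Cfsg.Agent.Lib.PSLCover.N3
import Cfsg.Agent.Lib.PSLCover.Reindex
import Cfsg.Agent.Lib.PSLCover.RankOne

/-!
A scalar as a product of `n` conjugates, for a matrix within rank two of a scalar.

Scaled, the matrix is `1 + N` with `N` of rank two; four normal forms occur: `N` invertible on its image,
one Jordan block of size three, two of size two, and one of size two next to an eigenvalue.
-/

set_option autoImplicit false
set_option linter.unusedSectionVars false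

namespace CfsgLib.PSLCover

open Matrix

variable {F : Type*} [Field F] {ι κ : Type*} [Fintype ι] [DecidableEq ι] [Fintype κ] [DecidableEq κ]

namespace RankTwo

theorem exists_zero_sum (hF : ∃ c : F, c ≠ 0 ∧ c ≠ 1) :
    ∀ m, 2 ≤ m → ∃ f : List F, f.length = m ∧ (∀ c ∈ f, c ≠ 0) ∧ f.sum = 0 := by
  intro m
  induction m using Nat.twoStepInduction with
  | zero => intro h; omega
  | one => intro h; omega
  | more m ih _ =>
    intro _
    rcases Nat.lt_or_ge m 2 with hm | hm
    · interval_cases m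
      · exact ⟨[1, -1], rfl, by simp, by simp⟩
      · obtain ⟨c, h0, h1⟩ := hF
        refine ⟨[-1, c, 1 - c], rfl, ?_, by simp⟩
        intro e he
        simp only [List.mem_cons, List.not_mem_nil, or_false] at he
        rcases he with rfl | rfl | rfl
        exacts [neg_ne_zero.2 one_ne_zero, h0, sub_ne_zero.2 (Ne.symm h1)]
    · obtain ⟨f, h1, h2, h3⟩ := ih hm
      refine ⟨1 :: -1 :: f, by simp [h1], ?_, by simp [h3]⟩
      intro e he
      simp only [List.mem_cons] at he
      rcases he with rfl | rfl | he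
      exacts [one_ne_zero, neg_ne_zero.2 one_ne_zero, h2 e he]

/-- A square-zero perturbation: commuting factors with coefficients of sum zero. -/
theorem inPow_square_zero (hF : ∃ c : F, c ≠ 0 ∧ c ≠ 1) {N : Matrix ι ι F} (hN : N * N = 0)
    (hs : ∀ a : F, a ≠ 0 → SLSim (1 + N) (1 + a • N)) {n : ℕ} (hn : 2 ≤ n) : InPow (1 + N) n 1 := by
  obtain ⟨f, h1, h2, h3⟩ := exists_zero_sum hF n hn
  refine ⟨f.map fun a => 1 + a • N, by simp [h1], fun y hy => ?_, ?_⟩
  · obtain ⟨a, ha, rfl⟩ := List.mem_map.1 hy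
    exact hs a (h2 a ha)
  · have key : ∀ f : List F, (f.map fun a => 1 + a • N).prod = 1 + f.sum • N := by
      intro f
      induction f with
      | nil => simp
      | cons a f ih =>
        rw [List.map_cons, List.prod_cons, ih, List.sum_cons, Matrix.add_mul, Matrix.one_mul, Matrix.mul_add,
          Matrix.mul_one, Matrix.smul_mul, Matrix.mul_smul, hN, smul_zero, smul_zero, add_smul]
        abel
    rw [key, h3, zero_smul, add_zero]

/-- `diag(1, …, μ, …, 1) + c E` with the entry off the special position. -/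
def dte (μ : F) (t p q : ι) (c : F) : Matrix ι ι F :=
  diagonal (Function.update 1 t μ) + Matrix.single p q c

theorem exists_perm_three {t p q t' p' q' : ι} (h1 : t ≠ p) (h2 : t ≠ q) (h3 : p ≠ q) (h1' : t' ≠ p')
    (h2' : t' ≠ q') (h3' : p' ≠ q') : ∃ σ : Equiv.Perm ι, σ t' = t ∧ σ p' = p ∧ σ q' = q := by
  set σ1 := Equiv.swap t' t
  set σ2 := Equiv.swap (σ1 p') p * σ1
  have a1 : σ1 t' = t := Equiv.swap_apply_left _ _
  have a2 : σ2 p' = p := by simp [σ2]
  have a1' : σ2 t' = t := by
    simp only [σ2, Equiv.Perm.mul_apply, a1]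
    refine Equiv.swap_apply_of_ne_of_ne ?_ h1
    rw [← a1]; exact fun e => h1' (σ1.injective e)
  refine ⟨Equiv.swap (σ2 q') q * σ2, ?_, ?_, by simp⟩
  · simp only [Equiv.Perm.mul_apply, a1']
    refine Equiv.swap_apply_of_ne_of_ne ?_ h2
    rw [← a1']; exact fun e => h2' (σ2.injective e)
  · simp only [Equiv.Perm.mul_apply, a2]
    refine Equiv.swap_apply_of_ne_of_ne ?_ h3
    rw [← a2]; exact fun e => h3' (σ2.injective e)

theorem dte_submatrix {μ c : F} {t p q t' p' q' : ι} (σ : Equiv.Perm ι) (ht : σ t' = t) (hp : σ p' = p)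
    (hq : σ q' = q) : (dte μ t p q c).submatrix σ σ = dte μ t' p' q' c := by
  ext i j
  have e1 : σ i = t ↔ i = t' := by rw [← ht]; exact σ.injective.eq_iff
  have e2 : p = σ i ↔ p' = i := by rw [← hp]; exact σ.injective.eq_iff
  have e3 : q = σ j ↔ q' = j := by rw [← hq]; exact σ.injective.eq_iff
  simp only [dte, submatrix_apply, Matrix.add_apply, diagonal_apply, Matrix.single_apply, σ.injective.eq_iff,
    Function.update_apply, Pi.one_apply, e1, e2, e3]

theorem glSim_dte_scale {μ c c' : F} {t p q : ι} (hc : c ≠ 0) (hc' : c' ≠ 0) (hpq : p ≠ q) :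
    GLSim (dte μ t p q c) (dte μ t p q c') := by
  refine ⟨diagonal (Function.update 1 p (c' / c)), ?_, ?_⟩
  · rw [det_diagonal, Finset.prod_update_of_mem (Finset.mem_univ p)]
    simpa using div_ne_zero hc' hc
  · simp only [dte, Matrix.mul_add, Matrix.add_mul, Matrix.diagonal_mul_diagonal]
    congr 1
    · exact congrArg diagonal (funext fun i => mul_comm _ _)
    · ext i j
      simp only [Matrix.diagonal_mul, Matrix.mul_diagonal, Matrix.single_apply]
      by_cases h : p = i ∧ q = j
      · obtain ⟨rfl, rfl⟩ := h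
        simp [hpq.symm, div_mul_cancel₀ _ hc]
      · simp [h]

theorem glSim_dte {μ c c' : F} {t p q t' p' q' : ι} (hc : c ≠ 0) (hc' : c' ≠ 0) (h1 : t ≠ p) (h2 : t ≠ q)
    (h3 : p ≠ q) (h1' : t' ≠ p') (h2' : t' ≠ q') (h3' : p' ≠ q') :
    GLSim (dte μ t p q c) (dte μ t' p' q' c') := by
  obtain ⟨σ, s1, s2, s3⟩ := exists_perm_three h1 h2 h3 h1' h2' h3'
  exact (dte_submatrix (μ := μ) (c := c) σ s1 s2 s3 ▸ glSim_submatrix σ (dte μ t p q c)).trans
    (glSim_dte_scale hc hc' h3')

theorem prod_dte (μ : F) {p q : ι} (hpq : p ≠ q) :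
    ∀ l : List (ι × F), (l.map Prod.fst).Nodup → (∀ e ∈ l, e.1 ≠ p ∧ e.1 ≠ q) →
      (l.map fun e => dte μ e.1 p q e.2).prod =
        diagonal (fun j => if j ∈ l.map Prod.fst then μ else 1) + Matrix.single p q (l.map Prod.snd).sum := by
  intro l
  induction l with
  | nil => intro _ _; simp
  | cons e l ih =>
    intro hnd hne
    rw [List.map_cons, List.nodup_cons] at hnd
    obtain ⟨he1, he2⟩ := hne e List.mem_cons_self
    have hql : q ∉ l.map Prod.fst := fun h => by
      obtain ⟨e', he', rfl⟩ := List.mem_map.1 h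
      exact (hne e' (List.mem_cons_of_mem _ he')).2 rfl
    rw [List.map_cons, List.prod_cons, ih hnd.2 fun e' he' => hne e' (List.mem_cons_of_mem _ he')]
    have hL : ∀ (δ : ι → F) (x : F), δ p = 1 → diagonal δ * Matrix.single p q x = Matrix.single p q x := by
      intro δ x h
      ext i j
      simp only [Matrix.diagonal_mul, Matrix.single_apply]
      by_cases hij : p = i ∧ q = j
      · obtain ⟨rfl, rfl⟩ := hij; simp [h]
      · simp [hij]
    have hR : ∀ (δ : ι → F) (x : F), δ q = 1 → Matrix.single p q x * diagonal δ = Matrix.single p q x := by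
      intro δ x h
      ext i j
      simp only [Matrix.mul_diagonal, Matrix.single_apply]
      by_cases hij : p = i ∧ q = j
      · obtain ⟨rfl, rfl⟩ := hij; simp [h]
      · simp [hij]
    have hz : ∀ x y : F, Matrix.single p q x * Matrix.single p q y = 0 := fun x y =>
      Matrix.single_mul_single_of_ne (h := hpq.symm) ..
    simp only [dte, Matrix.add_mul, Matrix.mul_add, Matrix.diagonal_mul_diagonal, List.map_cons, List.sum_cons,
      hz, hL (Function.update 1 e.1 μ) _ (by simp [Ne.symm he1])]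
    rw [hR _ _ (if_neg hql), add_zero, Matrix.single_add, ← add_assoc]
    congr 2
    refine congrArg diagonal (funext fun j => ?_)
    rcases eq_or_ne j e.1 with rfl | hj
    · simp [hnd.1]
    · simp only [List.mem_cons, hj, false_or, Function.update_of_ne hj, Pi.one_apply, one_mul]

/-- `diag(μ, 1, …) + E`: the scalar `μ`. -/
theorem inGLPow_dte (hF : ∃ c : F, c ≠ 0 ∧ c ≠ 1) {μ : F} (hn : 4 ≤ Fintype.card ι) {t p q : ι} (h1 : t ≠ p)
    (h2 : t ≠ q) (h3 : p ≠ q) : InGLPow (dte μ t p q 1) (Fintype.card ι) (μ • 1) := by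
  classical
  obtain ⟨f⟩ := Function.Embedding.nonempty_of_card_le (α := Fin 4) (β := ι) (by simpa using hn)
  set rest := ((Finset.univ.erase (f 0)).erase (f 1)).toList with hrest
  have hne : ∀ {i j : Fin 4}, i ≠ j → f i ≠ f j := fun h e => h (f.injective e)
  have hlen : rest.length + 2 = Fintype.card ι := by
    rw [hrest, Finset.length_toList, Finset.card_erase_of_mem, Finset.card_erase_of_mem, Finset.card_univ]
    · omega
    · exact Finset.mem_univ _
    · exact Finset.mem_erase.2 ⟨hne (by decide), Finset.mem_univ _⟩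
  obtain ⟨cs, hcs, hcs0, hsum⟩ := exists_zero_sum hF rest.length (by omega)
  have hmem : ∀ x, x ∈ rest ↔ x ≠ f 1 ∧ x ≠ f 0 := fun x => by simp [hrest]
  have hfst : (rest.zip cs).map Prod.fst = rest := List.map_fst_zip (by omega)
  have hsnd : (rest.zip cs).map Prod.snd = cs := List.map_snd_zip (by omega)
  refine ⟨([(f 0, (1 : F)), (f 1, -1)].map fun e => dte μ e.1 (f 2) (f 3) e.2) ++
    (rest.zip cs).map (fun e => dte μ e.1 (f 0) (f 1) e.2), ?_, fun y hy => ?_, ?_⟩
  · simp only [List.length_append, List.length_map, List.length_cons, List.length_nil, List.length_zip]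
    omega
  · rcases List.mem_append.1 hy with hy | hy
    · obtain ⟨e, he, rfl⟩ := List.mem_map.1 hy
      simp only [List.mem_cons, List.not_mem_nil, or_false] at he
      rcases he with rfl | rfl
      · exact glSim_dte one_ne_zero one_ne_zero h1 h2 h3 (hne (by decide)) (hne (by decide)) (hne (by decide))
      · exact glSim_dte one_ne_zero (neg_ne_zero.2 one_ne_zero) h1 h2 h3 (hne (by decide)) (hne (by decide))
          (hne (by decide))
    · obtain ⟨e, he, rfl⟩ := List.mem_map.1 hy
      obtain ⟨ha, hb⟩ := List.of_mem_zip (a := e.1) (b := e.2) he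
      exact glSim_dte one_ne_zero (hcs0 _ hb) h1 h2 h3 ((hmem _).1 ha).2 ((hmem _).1 ha).1 (hne (by decide))
  · rw [List.prod_append, prod_dte μ (hne (by decide)), prod_dte μ (hne (by decide)), hfst, hsnd, hsum]
    · simp only [List.map_cons, List.map_nil, List.sum_cons, List.sum_nil, add_zero, add_neg_cancel,
        Matrix.single_zero, Matrix.diagonal_mul_diagonal, Matrix.smul_one_eq_diagonal]
      refine congrArg diagonal (funext fun j => ?_)
      simp only [hmem, List.mem_cons, List.not_mem_nil, or_false]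
      by_cases h0 : j = f 0
      · simp [h0]
      · by_cases h1' : j = f 1
        · simp [h1']
        · simp [h0, h1']
    · rw [hfst]; exact Finset.nodup_toList _
    · intro e he
      obtain ⟨ha, -⟩ := List.of_mem_zip (a := e.1) (b := e.2) he
      exact ⟨((hmem _).1 ha).2, ((hmem _).1 ha).1⟩
    · simp [hne]
    · intro e he
      simp only [List.mem_cons, List.not_mem_nil, or_false] at he
      rcases he with rfl | rfl <;> exact ⟨hne (by decide), hne (by decide)⟩

theorem inGLPow_pairs {X X' : Matrix ι ι F} (h : GLSim X X') (he : X * X' = 1) :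
    ∀ k, InGLPow X (2 * k) (1 : Matrix ι ι F) := by
  intro k
  induction k with
  | zero => exact ⟨[], rfl, by simp, rfl⟩
  | succ k ih =>
    obtain ⟨l, h1, h2, h3⟩ := ih
    refine ⟨X :: X' :: l, by simp [h1]; omega, fun y hy => ?_, ?_⟩
    · simp only [List.mem_cons] at hy
      rcases hy with rfl | rfl | hy
      exacts [GLSim.refl _, h, h2 y hy]
    · rw [List.prod_cons, List.prod_cons, ← Matrix.mul_assoc, he, Matrix.one_mul, h3]

/-- A unipotent Jordan block of size three. -/
def jordan : Matrix (Fin 3) (Fin 3) F := !![1, 0, 0; 1, 1, 0; 0, 1, 1]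

theorem inGLPow_jordan [Fintype F] (h4 : 4 ≤ Fintype.card F) (m : ℕ) :
    InGLPow (fromBlocks (1 : Matrix (Fin m) (Fin m) F) 0 0 jordan) (m + 3) 1 := by
  set X := fromBlocks (1 : Matrix (Fin m) (Fin m) F) 0 0 (jordan : Matrix (Fin 3) (Fin 3) F) with hX
  set X' := fromBlocks (1 : Matrix (Fin m) (Fin m) F) 0 0 (!![1, 0, 0; -1, 1, 0; 1, -1, 1] : Matrix (Fin 3) (Fin 3) F)
  have hsim : GLSim X X' := by
    refine ⟨fromBlocks 1 0 0 !![1, 0, 0; 0, -1, 0; 0, 1, 1], by
      simp [det_fromBlocks_zero₂₁, Matrix.det_fin_three], ?_⟩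
    have e3 : (!![1, 0, 0; 0, -1, 0; 0, 1, 1] : Matrix (Fin 3) (Fin 3) F) * jordan =
        !![1, 0, 0; -1, 1, 0; 1, -1, 1] * !![1, 0, 0; 0, -1, 0; 0, 1, 1] := by
      ext i j
      fin_cases i <;> fin_cases j <;> simp [jordan, Matrix.mul_apply, Fin.sum_univ_three]
    rw [hX, fromBlocks_multiply, fromBlocks_multiply, e3]
    simp
  have hinv : X * X' = 1 := by
    have e3 : jordan * (!![1, 0, 0; -1, 1, 0; 1, -1, 1] : Matrix (Fin 3) (Fin 3) F) = 1 := by
      ext i j
      fin_cases i <;> fin_cases j <;> simp [jordan, Matrix.mul_apply, Fin.sum_univ_three]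
    rw [hX, fromBlocks_multiply, e3]
    simp
  rcases Nat.even_or_odd (m + 3) with ⟨k, hk⟩ | ⟨k, hk⟩
  · rw [show m + 3 = 2 * k by omega]
    exact inGLPow_pairs hsim hinv k
  · have hr : ¬ IsRankOne (jordan : Matrix (Fin 3) (Fin 3) F) := by
      rintro ⟨c, u, w, e⟩
      have e01 := congrFun (congrFun e 0) 1
      have e00 := congrFun (congrFun e 0) 0
      have e10 := congrFun (congrFun e 1) 0
      have e11 := congrFun (congrFun e 1) 1
      have e20 := congrFun (congrFun e 2) 0
      have e21 := congrFun (congrFun e 2) 1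
      simp [jordan, vecMulVec_apply] at e01 e00 e10 e11 e20 e21
      rcases e20 with h | h
      · rw [h] at e21; simp at e21
      · rw [h] at e10; simp at e10
    obtain ⟨l, h1, h2, h3⟩ := (inPow_three h4 (x := (jordan : Matrix (Fin 3) (Fin 3) F))
      (by simp [jordan, Matrix.det_fin_three]) hr).2
    obtain ⟨l', g1, g2, g3⟩ := inGLPow_pairs hsim hinv (k - 1)
    refine ⟨(l.map fun y => fromBlocks ((1 : F) • (1 : Matrix (Fin m) (Fin m) F)) 0 0 y) ++ l',
      by simp [h1, g1]; omega, fun y hy => ?_, ?_⟩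
    · rcases List.mem_append.1 hy with hy | hy
      · obtain ⟨z, hz, rfl⟩ := List.mem_map.1 hy
        obtain ⟨P, hP, e⟩ := (h2 z hz).glSim
        exact ⟨fromBlocks 1 0 0 P, by simpa [det_fromBlocks_zero₂₁] using hP, by simp [hX, fromBlocks_multiply, e]⟩
      · exact g2 y hy
    · rw [List.prod_append, g3, Matrix.mul_one, prod_map_fromBlocks, h1, h3]
      simp

/-- Normal form from an invariant family spanning the image. -/
theorem exists_model {n r : ℕ} {N : Matrix (Fin n) (Fin n) F} {v : Fin r → Fin n → F}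
    (hind : LinearIndependent F v) (M0 : Matrix (Fin r) (Fin r) F) (hN : ∀ j, N *ᵥ v j = ∑ i, M0 i j • v i)
    (himg : ∀ x, N *ᵥ x ∈ Submodule.span F (Set.range fun j => N *ᵥ v j)) :
    ∃ m : ℕ, m + r = n ∧ ∃ e : Fin m ⊕ Fin r ≃ Fin n,
      GLSim ((fromBlocks (0 : Matrix (Fin m) (Fin m) F) 0 0 M0).reindex e e) N := by
  classical
  set S := Submodule.span F (Set.range v) with hS
  set K := LinearMap.ker N.mulVecLin with hK
  have htop : ∀ x, ∃ s ∈ S, x - s ∈ K := fun x => by
    obtain ⟨c, hc⟩ := Submodule.mem_span_range_iff_exists_fun F |>.1 (himg x)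
    refine ⟨∑ j, c j • v j, Submodule.sum_mem _ fun j _ => Submodule.smul_mem _ _ (Submodule.subset_span ⟨j, rfl⟩), ?_⟩
    show N *ᵥ (x - ∑ j, c j • v j) = 0
    rw [Matrix.mulVec_sub, Matrix.mulVec_sum, sub_eq_zero, ← hc]
    exact Finset.sum_congr rfl fun j _ => (Matrix.mulVec_smul _ _ _).symm
  obtain ⟨W', hW'⟩ := Submodule.exists_isCompl (K ⊓ S)
  set W := W' ⊓ K
  have hSW : IsCompl S W := by
    constructor
    · rw [disjoint_iff, eq_bot_iff]
      rintro x ⟨hxS, hxW', hxK⟩
      exact hW'.inf_eq_bot.le ⟨⟨hxK, hxS⟩, hxW'⟩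
    · rw [codisjoint_iff, eq_top_iff]
      intro x _
      obtain ⟨s, hs, hk⟩ := htop x
      obtain ⟨p, hp, q, hq, hpq⟩ := Submodule.mem_sup.1 (hW'.sup_eq_top.ge (Submodule.mem_top (x := x - s)))
      have hqK : q ∈ K := by
        rw [show q = (x - s) - p by rw [← hpq]; abel]
        exact K.sub_mem hk hp.1
      rw [show x = (s + p) + q by rw [add_assoc, hpq]; abel]
      exact Submodule.add_mem_sup (S.add_mem hs hp.2) ⟨hq, hqK⟩
  set m := Module.finrank F W
  have hcard : m + r = n := by
    have h := Submodule.finrank_add_eq_of_isCompl hSW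
    rw [hS, finrank_span_eq_card hind, Fintype.card_fin, Module.finrank_fintype_fun_eq_card, Fintype.card_fin] at h
    omega
  set bW := Module.finBasis F W
  refine ⟨m, hcard, finSumFinEquiv.trans (finCongr hcard), ?_⟩
  set e : Fin m ⊕ Fin r ≃ Fin n := finSumFinEquiv.trans (finCongr hcard)
  set P : Matrix (Fin n) (Fin n) F := Matrix.of fun i j =>
    Sum.elim (fun k => ((bW k : W) : Fin n → F) i) (fun k => v k i) (e.symm j) with hPdef
  have hPe : ∀ z : Fin m ⊕ Fin r → F, P *ᵥ (z ∘ e.symm) =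
      (∑ k, z (Sum.inl k) • ((bW k : W) : Fin n → F)) + ∑ k, z (Sum.inr k) • v k := fun z => by
    funext i
    simp only [Matrix.mulVec, dotProduct, hPdef, Matrix.of_apply, Function.comp_apply, Pi.add_apply,
      Finset.sum_apply, Pi.smul_apply, smul_eq_mul]
    rw [← Equiv.sum_comp e (fun j => Sum.elim _ _ (e.symm j) * z (e.symm j)), Fintype.sum_sum_type]
    simp [mul_comm]
  refine ⟨P, fun hd => ?_, ?_⟩
  · obtain ⟨w, hw, hPw⟩ := Matrix.exists_mulVec_eq_zero_iff.2 hd
    have h := hPe (w ∘ e)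
    rw [show (w ∘ e) ∘ e.symm = w from funext fun i => by simp, hPw] at h
    have hA : (∑ k, (w ∘ e) (Sum.inl k) • ((bW k : W) : Fin n → F)) ∈ W :=
      Submodule.sum_mem _ fun k _ => Submodule.smul_mem _ _ (bW k).2
    have hB : (∑ k, (w ∘ e) (Sum.inr k) • v k) ∈ S :=
      Submodule.sum_mem _ fun k _ => Submodule.smul_mem _ _ (Submodule.subset_span ⟨k, rfl⟩)
    have hB0 : (∑ k, (w ∘ e) (Sum.inr k) • v k) = 0 :=
      (Submodule.disjoint_def.1 hSW.disjoint) _ hB (by
        rw [show (∑ k, (w ∘ e) (Sum.inr k) • v k) = -(∑ k, (w ∘ e) (Sum.inl k) • ((bW k : W) : Fin n → F)) from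
          eq_neg_of_add_eq_zero_right h.symm]
        exact W.neg_mem hA)
    rw [hB0, add_zero] at h
    have hw1 := Fintype.linearIndependent_iff.1 hind _ hB0
    have hw2 := Fintype.linearIndependent_iff.1
      (bW.linearIndependent.map' W.subtype (Submodule.ker_subtype W)) _ h.symm
    refine hw (funext fun i => ?_)
    rw [← e.apply_symm_apply i]
    rcases e.symm i with k | k
    exacts [hw2 k, hw1 k]
  · refine Matrix.ext_of_mulVec_single fun j => ?_
    rw [← Matrix.mulVec_mulVec, ← Matrix.mulVec_mulVec, Matrix.mulVec_single_one, Matrix.mulVec_single_one]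
    rw [show (reindex e e (fromBlocks (0 : Matrix (Fin m) (Fin m) F) 0 0 M0)).col j =
      (fun s => fromBlocks (0 : Matrix (Fin m) (Fin m) F) 0 0 M0 s (e.symm j)) ∘ e.symm from rfl, hPe,
      show P.col j = Sum.elim (fun k => ((bW k : W) : Fin n → F)) v (e.symm j) from funext fun i => by
        simp only [Matrix.col_apply, hPdef, Matrix.of_apply]
        rcases e.symm j with k | k <;> rfl]
    rcases e.symm j with k | k
    · simp only [Sum.elim_inl, fromBlocks_apply₁₁, fromBlocks_apply₂₁, Matrix.zero_apply, zero_smul,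
        Finset.sum_const_zero, add_zero]
      exact (show N *ᵥ ((bW k : W) : Fin n → F) = 0 from (bW k).2.2).symm
    · simp only [Sum.elim_inr, fromBlocks_apply₁₂, fromBlocks_apply₂₂, Matrix.zero_apply, zero_smul,
        Finset.sum_const_zero, zero_add]
      exact (hN k).symm

theorem glSim_one_add {M N : Matrix ι ι F} (h : GLSim M N) : GLSim (1 + M) (1 + N) := by
  obtain ⟨P, hP, e⟩ := h
  exact ⟨P, hP, by rw [Matrix.mul_add, Matrix.add_mul, Matrix.mul_one, Matrix.one_mul, e]⟩

theorem conjBy_smul_one {P : Matrix ι ι F} (hP : P.det ≠ 0) (z : F) : conjBy P (z • 1) = z • 1 := by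
  rw [conjBy, Matrix.mul_smul, Matrix.smul_mul, Matrix.mul_one,
    Matrix.mul_nonsing_inv P (isUnit_iff_ne_zero.2 hP)]

/-- Transfer from a model. -/
theorem inPow_of_model {n m r : ℕ} {N : Matrix (Fin n) (Fin n) F} {M0 : Matrix (Fin r) (Fin r) F}
    (e : Fin m ⊕ Fin r ≃ Fin n) (hs : GLSim ((fromBlocks (0 : Matrix (Fin m) (Fin m) F) 0 0 M0).reindex e e) N)
    {z : F} {k : ℕ} (h : InPow (fromBlocks (1 : Matrix (Fin m) (Fin m) F) 0 0 (1 + M0)) k (z • 1)) :
    InPow (1 + N) k (z • 1) := by
  obtain ⟨P, hP, eP⟩ := glSim_one_add hs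
  have h2 := (h.reindex e).conjBy hP
  rw [reindex_scalar, conjBy_smul_one hP] at h2
  have hX : (fromBlocks (1 : Matrix (Fin m) (Fin m) F) 0 0 (1 + M0)).reindex e e =
      1 + (fromBlocks (0 : Matrix (Fin m) (Fin m) F) 0 0 M0).reindex e e := by
    rw [← reindex_scalar e (1 : F) |>.trans (one_smul F _), one_smul]
    ext i j
    simp only [Matrix.add_apply, Matrix.reindex_apply, Matrix.submatrix_apply]
    rcases e.symm i with a | a <;> rcases e.symm j with b | b <;> simp [Matrix.one_apply]
  rwa [hX, conjBy_eq hP eP] at h2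

theorem detFull_model {m r : ℕ} (hm : 0 < m) (A : Matrix (Fin r) (Fin r) F) :
    DetFull (fromBlocks (1 : Matrix (Fin m) (Fin m) F) 0 0 A) := by
  haveI : Nonempty (Fin m) := ⟨⟨0, hm⟩⟩
  simpa using detFull_blocks_scalar (ι := Fin m) (1 : F) A

variable [Fintype F]

theorem inPow_one_add (h4 : 4 ≤ Fintype.card F) {n : ℕ} (hn : 4 ≤ n) {N : Matrix (Fin n) (Fin n) F}
    (hd : (1 + N).det ≠ 0) (h2 : Module.finrank F (LinearMap.range N.mulVecLin) = 2) :
    ∃ z : F, InPow (1 + N) n (z • 1) := by
  classical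
  have hF : ∃ c : F, c ≠ 0 ∧ c ≠ 1 := exists_ne_pair (by omega) 1
  set I := LinearMap.range N.mulVecLin with hI
  have hmemI : ∀ x, N *ᵥ x ∈ I := fun x => ⟨x, rfl⟩
  -- an independent pair in the image spans it
  have hspan : ∀ {a b : Fin n → F}, a ∈ I → b ∈ I → LinearIndependent F ![a, b] →
      ∀ x, x ∈ I → x ∈ Submodule.span F (Set.range ![a, b]) := by
    intro a b ha hb hab x hx
    have hle : Submodule.span F (Set.range ![a, b]) ≤ I :=
      Submodule.span_le.2 (by rintro _ ⟨i, rfl⟩; fin_cases i <;> assumption)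
    rw [Submodule.eq_of_le_of_finrank_le hle (by rw [finrank_span_eq_card hab, h2, Fintype.card_fin])]
    exact hx
  -- the image of the family contains such a pair
  have himg : ∀ {r : ℕ} (v : Fin r → Fin n → F) {a b : Fin n → F}, a ∈ I → b ∈ I → LinearIndependent F ![a, b] →
      a ∈ Submodule.span F (Set.range fun j => N *ᵥ v j) → b ∈ Submodule.span F (Set.range fun j => N *ᵥ v j) →
      ∀ x, N *ᵥ x ∈ Submodule.span F (Set.range fun j => N *ᵥ v j) := by
    intro r v a b ha hb hab ha' hb' x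
    refine Submodule.span_le.2 ?_ (hspan ha hb hab _ (hmemI x))
    rintro _ ⟨i, rfl⟩
    fin_cases i <;> assumption
  by_cases hz : ∃ z ∈ I, z ≠ 0 ∧ N *ᵥ z = 0
  swap
  · -- invertible on the image
    push Not at hz
    let bI := (Module.finBasisOfFinrankEq F I h2)
    let v : Fin 2 → Fin n → F := fun i => (bI i : Fin n → F)
    have hind : LinearIndependent F v := bI.linearIndependent.map' I.subtype (Submodule.ker_subtype I)
    let M0 : Matrix (Fin 2) (Fin 2) F := fun i j => bI.repr ⟨N *ᵥ v j, hmemI _⟩ i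
    have hN : ∀ j, N *ᵥ v j = ∑ i, M0 i j • v i := fun j => by
      have := congrArg Subtype.val (bI.sum_repr ⟨N *ᵥ v j, hmemI _⟩)
      simp only [Submodule.coe_sum, Submodule.coe_smul] at this
      exact this.symm
    have hinj : ∀ c : Fin 2 → F, ∑ j, c j • (N *ᵥ v j) = 0 → c = 0 := fun c hc => by
      have h0 : N *ᵥ (∑ j, c j • v j) = 0 := by
        rw [Matrix.mulVec_sum, ← hc]; exact Finset.sum_congr rfl fun j _ => Matrix.mulVec_smul _ _ _
      have h1 : ∑ j, c j • v j = 0 := by
        by_contra hne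
        exact hz _ (I.sum_mem fun j _ => I.smul_mem _ (bI j).2) hne h0
      exact funext (Fintype.linearIndependent_iff.1 hind c h1)
    have hNi : LinearIndependent F ![N *ᵥ v 0, N *ᵥ v 1] := by
      refine Fintype.linearIndependent_iff.2 fun c hc => congrFun (hinj c ?_)
      simpa [Fin.sum_univ_two] using hc
    obtain ⟨m, hm, e, hs⟩ := exists_model hind M0 hN
      (himg v (hmemI _) (hmemI _) hNi (Submodule.subset_span ⟨0, rfl⟩) (Submodule.subset_span ⟨1, rfl⟩))
    have hm0 : 0 < m := by omega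
    haveI : Nonempty (Fin m) := ⟨⟨0, hm0⟩⟩
    have hM0 : M0.det ≠ 0 := fun h => by
      obtain ⟨c, hc, hMc⟩ := Matrix.exists_mulVec_eq_zero_iff.2 h
      refine hc (hinj c ?_)
      simp only [hN, Finset.smul_sum, smul_smul]
      rw [Finset.sum_comm]
      refine Finset.sum_eq_zero fun i _ => ?_
      rw [← Finset.sum_smul]
      have := congrFun hMc i
      simp only [Matrix.mulVec, dotProduct, Pi.zero_apply] at this
      rw [Finset.sum_congr rfl (fun j _ => mul_comm (c j) (M0 i j)), this, zero_smul]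
    have hA : (1 + M0).det ≠ 0 := by
      have h := (glSim_one_add hs).det_eq
      rw [show (1 : Matrix (Fin n) (Fin n) F) + (fromBlocks (0 : Matrix (Fin m) (Fin m) F) 0 0 M0).reindex e e =
        (fromBlocks (1 : Matrix (Fin m) (Fin m) F) 0 0 (1 + M0)).reindex e e by
          ext i j
          simp only [Matrix.add_apply, Matrix.reindex_apply, Matrix.submatrix_apply, Matrix.one_apply]
          rcases hi : e.symm i with a | a <;> rcases hj : e.symm j with b | b <;>
            simp [Matrix.one_apply, e.symm.injective.eq_iff.symm, hi, hj],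
        Matrix.det_reindex_self, det_fromBlocks_zero₂₁, det_one, one_mul] at h
      rwa [h]
    have h := inPow_scalar_twoBlock (κ := Fin m) (c := (1 : F)) one_ne_zero hA (by simpa using hM0)
    rw [one_smul, Fintype.card_fin, show m + 2 = n from hm, one_pow, one_mul] at h
    exact ⟨_, inPow_of_model e hs h⟩
  obtain ⟨z, hzI, hz0, hNz⟩ := hz
  by_cases hsq : ∀ x, N *ᵥ (N *ᵥ x) = 0
  · -- square zero
    let bI := (Module.finBasisOfFinrankEq F I h2)
    obtain ⟨p, hp⟩ : ((bI 0 : I) : Fin n → F) ∈ I := (bI 0).2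
    obtain ⟨q, hq⟩ : ((bI 1 : I) : Fin n → F) ∈ I := (bI 1).2
    have hp' : N *ᵥ p = (bI 0 : Fin n → F) := hp
    have hq' : N *ᵥ q = (bI 1 : Fin n → F) := hq
    have hab : LinearIndependent F ![N *ᵥ p, N *ᵥ q] := by
      have h := bI.linearIndependent.map' I.subtype (Submodule.ker_subtype I)
      rw [show (![N *ᵥ p, N *ᵥ q] : Fin 2 → Fin n → F) = I.subtype ∘ bI from
        funext fun i => by fin_cases i <;> [exact hp'; exact hq']]
      exact h
    let v : Fin 4 → Fin n → F := ![p, q, N *ᵥ p, N *ᵥ q]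
    let M0 : Matrix (Fin 4) (Fin 4) F := !![0, 0, 0, 0; 0, 0, 0, 0; 1, 0, 0, 0; 0, 1, 0, 0]
    have hind : LinearIndependent F v := by
      refine Fintype.linearIndependent_iff.2 fun c hc => ?_
      simp [v, Fin.sum_univ_four] at hc
      have h1 := congrArg (N *ᵥ ·) hc
      simp [Matrix.mulVec_add, Matrix.mulVec_smul, hsq] at h1
      obtain ⟨c0, c1⟩ := LinearIndependent.pair_iff.1 hab _ _ h1
      rw [c0, c1, zero_smul, zero_smul, zero_add, zero_add] at hc
      obtain ⟨c2, c3⟩ := LinearIndependent.pair_iff.1 hab _ _ hc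
      intro i; fin_cases i <;> assumption
    have hN : ∀ j, N *ᵥ v j = ∑ i, M0 i j • v i := fun j => by
      fin_cases j <;> simp [v, M0, Fin.sum_univ_four, hsq]
    obtain ⟨m, hm, e, hs⟩ := exists_model hind M0 hN
      (himg v (hmemI _) (hmemI _) hab (Submodule.subset_span ⟨0, rfl⟩) (Submodule.subset_span ⟨1, rfl⟩))
    refine ⟨1, inPow_of_model e hs ?_⟩
    rw [one_smul, show fromBlocks (1 : Matrix (Fin m) (Fin m) F) 0 0 (1 + M0) = 1 + fromBlocks 0 0 0 M0 by
      rw [← fromBlocks_one, fromBlocks_add]; simp]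
    refine inPow_square_zero hF ?_ (fun a ha => ⟨fromBlocks 1 0 0 (diagonal ![1, a⁻¹, a, 1]), ?_, ?_⟩) (by omega)
    · rw [fromBlocks_multiply, ← fromBlocks_zero]
      congr 1 <;> simp
      ext i j
      fin_cases i <;> fin_cases j <;> simp [M0, Matrix.mul_apply, Fin.sum_univ_four]
    · simp [det_fromBlocks_zero₂₁, Matrix.det_diagonal, Fin.prod_univ_four, inv_mul_cancel₀ ha]
    · rw [Matrix.mul_add, Matrix.add_mul, Matrix.mul_one, Matrix.one_mul, Matrix.smul_mul,
        fromBlocks_multiply, fromBlocks_multiply, fromBlocks_smul]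
      congr 2 <;> simp
      ext i j
      fin_cases i <;> fin_cases j <;>
        simp [M0, Matrix.mul_diagonal, Matrix.diagonal_mul, Matrix.vecMul_diagonal, mul_inv_cancel₀ ha]
  push Not at hsq
  obtain ⟨x0, hx0⟩ := hsq
  set a := N *ᵥ x0 with ha
  have hza : LinearIndependent F ![z, a] := by
    refine LinearIndependent.pair_iff.2 fun s t h => ?_
    have h' := congrArg (N *ᵥ ·) h
    simp [Matrix.mulVec_add, Matrix.mulVec_smul, hNz] at h'
    have ht : t = 0 := h'.resolve_right hx0
    rw [ht, zero_smul, add_zero] at h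
    exact ⟨(smul_eq_zero.1 h).resolve_right hz0, ht⟩
  obtain ⟨c, hc⟩ := Submodule.mem_span_range_iff_exists_fun F |>.1
    (hspan hzI (hmemI x0) hza _ (hmemI a))
  simp [Fin.sum_univ_two] at hc
  -- `N a = c 0 • z + c 1 • a`
  rcases eq_or_ne (c 1) 0 with hν | hν
  · -- one Jordan block
    rw [hν, zero_smul, add_zero] at hc
    have hc0 : c 0 ≠ 0 := fun h => hx0 (by rw [← hc, h, zero_smul])
    let v : Fin 3 → Fin n → F := ![x0, a, N *ᵥ a]
    let M0 : Matrix (Fin 3) (Fin 3) F := !![0, 0, 0; 1, 0, 0; 0, 1, 0]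
    have hNNa : N *ᵥ (N *ᵥ a) = 0 := by rw [← hc, Matrix.mulVec_smul, hNz, smul_zero]
    have hind : LinearIndependent F v := by
      refine Fintype.linearIndependent_iff.2 fun d hd => ?_
      simp [v, Fin.sum_univ_three] at hd
      have h1 := congrArg (N *ᵥ ·) hd
      simp [Matrix.mulVec_add, Matrix.mulVec_smul, hNNa, ← ha] at h1
      have h1' := congrArg (N *ᵥ ·) h1
      simp [Matrix.mulVec_add, Matrix.mulVec_smul, hNNa] at h1'
      have d0 : d 0 = 0 := h1'.resolve_right hx0
      simp [d0] at h1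
      have d1 : d 1 = 0 := h1.resolve_right hx0
      simp [d0, d1] at hd
      intro i; fin_cases i
      exacts [d0, d1, hd.resolve_right hx0]
    have hN : ∀ j, N *ᵥ v j = ∑ i, M0 i j • v i := fun j => by
      fin_cases j <;> simp [v, M0, Fin.sum_univ_three, hNNa, ← ha]
    obtain ⟨m, hm, e, hs⟩ := exists_model hind M0 hN
      (himg v hzI (hmemI _) hza (by
        rw [show z = (c 0)⁻¹ • (N *ᵥ a) by rw [← hc, inv_smul_smul₀ hc0]]
        exact Submodule.smul_mem _ _ (Submodule.subset_span ⟨1, rfl⟩)) (Submodule.subset_span ⟨0, rfl⟩))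
    refine ⟨1, inPow_of_model e hs ?_⟩
    rw [one_smul, show (1 : Matrix (Fin 3) (Fin 3) F) + M0 = jordan by
      ext i j; fin_cases i <;> fin_cases j <;> simp [M0, jordan], ← hm]
    exact (inGLPow_jordan h4 m).inPow (detFull_model (by omega) _)
  · -- a block of size two and an eigenvalue
    set ν := c 1
    set u := a + (c 0 / ν) • z with hu
    have hNu : N *ᵥ u = ν • u := by
      rw [hu, Matrix.mulVec_add, Matrix.mulVec_smul, hNz, smul_zero, add_zero, ← hc, smul_add, smul_smul,
        mul_div_cancel₀ _ hν, add_comm]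
    have huI : u ∈ I := I.add_mem (hmemI _) (I.smul_mem _ hzI)
    have hzu : LinearIndependent F ![z, u] := by
      refine LinearIndependent.pair_iff.2 fun s t h => ?_
      rw [hu, smul_add, smul_smul, ← add_assoc, add_right_comm, ← add_smul] at h
      obtain ⟨h1, h2⟩ := LinearIndependent.pair_iff.1 hza _ _ h
      subst h2
      simpa using h1
    obtain ⟨w, hw⟩ := hzI
    have hw' : N *ᵥ w = z := hw
    let v : Fin 3 → Fin n → F := ![w, z, u]
    let M0 : Matrix (Fin 3) (Fin 3) F := !![0, 0, 0; 1, 0, 0; 0, 0, ν]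
    have hind : LinearIndependent F v := by
      refine Fintype.linearIndependent_iff.2 fun d hd => ?_
      simp [v, Fin.sum_univ_three] at hd
      have h1 := congrArg (N *ᵥ ·) hd
      simp [Matrix.mulVec_add, Matrix.mulVec_smul, hw', hNz, hNu, smul_smul] at h1
      obtain ⟨d0, d2⟩ := LinearIndependent.pair_iff.1 hzu _ _ h1
      have d2' : d 2 = 0 := (mul_eq_zero.1 d2).resolve_right hν
      simp [d0, d2'] at hd
      intro i; fin_cases i
      exacts [d0, hd.resolve_right hz0, d2']
    have hN : ∀ j, N *ᵥ v j = ∑ i, M0 i j • v i := fun j => by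
      fin_cases j <;> simp [v, M0, Fin.sum_univ_three, hw', hNz, hNu]
    obtain ⟨m, hm, e, hs⟩ := exists_model hind M0 hN
      (himg v ⟨w, hw⟩ huI hzu (hw' ▸ Submodule.subset_span ⟨0, rfl⟩) (by
        rw [show u = ν⁻¹ • (N *ᵥ u) by rw [hNu, inv_smul_smul₀ hν]]
        exact Submodule.smul_mem _ _ (Submodule.subset_span ⟨2, rfl⟩)))
    refine ⟨1 + ν, inPow_of_model e hs ?_⟩
    rw [show fromBlocks (1 : Matrix (Fin m) (Fin m) F) 0 0 (1 + M0) =
      dte (1 + ν) (Sum.inr 2) (Sum.inr 1) (Sum.inr 0) 1 by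
        ext (i | i) (j | j)
        · simp [dte, Matrix.one_apply, Matrix.diagonal_apply, Function.update_apply]
        · simp [dte, Matrix.diagonal_apply, Function.update_apply]
        · simp [dte, Matrix.diagonal_apply, Function.update_apply]
        · fin_cases i <;> fin_cases j <;> simp [dte, M0, Matrix.diagonal_apply, Function.update_apply]]
    have h := inGLPow_dte (μ := 1 + ν) hF (ι := Fin m ⊕ Fin 3) (by simp; omega)
      (t := Sum.inr 2) (p := Sum.inr 1) (q := Sum.inr 0) (by simp) (by simp) (by simp)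
    rw [Fintype.card_sum, Fintype.card_fin, Fintype.card_fin, hm] at h
    refine h.inPow ?_
    rw [show dte (1 + ν) (Sum.inr 2 : Fin m ⊕ Fin 3) (Sum.inr 1) (Sum.inr 0) 1 =
      fromBlocks (1 : Matrix (Fin m) (Fin m) F) 0 0 (1 + M0) by
        ext (i | i) (j | j)
        · simp [dte, Matrix.one_apply, Matrix.diagonal_apply, Function.update_apply]
        · simp [dte, Matrix.diagonal_apply, Function.update_apply]
        · simp [dte, Matrix.diagonal_apply, Function.update_apply]
        · fin_cases i <;> fin_cases j <;> simp [dte, M0, Matrix.diagonal_apply, Function.update_apply]]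
    exact detFull_model (by omega) _

end RankTwo

/-- Within rank two of a scalar: some scalar is a product of `n` conjugates. -/
theorem inPow_scalar_rankTwo [Fintype F] (h4 : 4 ≤ Fintype.card F) {n : ℕ} (hn : 4 ≤ n)
    {x : Matrix (Fin n) (Fin n) F} (hd : x.det = 1) (hr : ¬ IsRankOne x) {c : F}
    (h2 : (x - c • 1).rank ≤ 2) : ∃ z : F, InPow x n (z • 1) := by
  have hc : c ≠ 0 := by
    rintro rfl
    rw [zero_smul, sub_zero, Matrix.rank_of_isUnit x ((Matrix.isUnit_iff_isUnit_det x).2 (by rw [hd]; exact isUnit_one)),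
      Fintype.card_fin] at h2
    omega
  set N := c⁻¹ • (x - c • 1) with hN
  have hx : x = c • (1 + N) := by
    rw [hN, smul_add, smul_smul, mul_inv_cancel₀ hc, one_smul]; abel
  have hrange : LinearMap.range N.mulVecLin = LinearMap.range (x - c • 1).mulVecLin := by
    refine le_antisymm ?_ ?_
    · rintro _ ⟨v, rfl⟩
      exact ⟨c⁻¹ • v, by simp [hN, Matrix.mulVec_smul, Matrix.smul_mulVec]⟩
    · rintro _ ⟨v, rfl⟩
      exact ⟨c • v, by simp [hN, Matrix.mulVec_smul, Matrix.smul_mulVec, smul_smul, mul_inv_cancel₀ hc]⟩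
  have hle : Module.finrank F (LinearMap.range N.mulVecLin) ≤ 2 := by rw [hrange]; exact h2
  have hge : ¬ Module.finrank F (LinearMap.range N.mulVecLin) ≤ 1 := fun h => by
    obtain ⟨u, hu⟩ := finrank_le_one_iff.1 h
    choose w hw using fun j : Fin n => hu ⟨N *ᵥ Pi.single j 1, ⟨_, rfl⟩⟩
    refine hr ⟨c, c • (u : Fin n → F), w, ?_⟩
    rw [hx, smul_add, Matrix.smul_vecMulVec]
    congr 2
    ext i j
    have := congrFun (congrArg Subtype.val (hw j)) i
    simp [Matrix.mulVec_single_one] at this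
    rw [vecMulVec_apply, ← this, mul_comm]
  obtain ⟨z, hz⟩ := RankTwo.inPow_one_add h4 hn
    (N := N) (by rw [hx, det_smul] at hd; exact right_ne_zero_of_mul_eq_one hd) (by omega)
  exact ⟨c ^ n * z, by rw [hx, ← smul_smul]; exact hz.smul c⟩

end CfsgLib.PSLCover
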