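import Cfsg.Agent.Lib.PSLCover.BlockPair
import Cfsg.Agent.Lib.PSLCover.Cyclic

/-!
A cyclic four by four matrix of determinant one: the identity is a product of four conjugates.

The pair of companion conjugates has a regular unipotent product `T`, and `T` is conjugate to its inverse, all by
matrices of determinant one as the Krylov determinants agree.
-/

set_option autoImplicit false
set_option linter.unusedSectionVars false

namespace CfsgLib.PSLCover

open Matrix Polynomial

variable {K : Type*} [Field K] {n : ℕ}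

/-- Equal Krylov determinants: conjugate by a matrix of determinant one. -/
theorem slSim_of_cyclicVec {A B : Matrix (Fin n) (Fin n) K} {v w : Fin n → K} (hv : IsCyclicVec A v)
    (h : A.charpoly = B.charpoly) (hd : (kry A v).det = (kry B w).det) : SLSim A B := by
  have hA : IsUnit (kry A v).det := isUnit_iff_ne_zero.mpr (kry_det_ne hv)
  obtain ⟨P, hPdef⟩ : ∃ P, P = kry B w * (kry A v)⁻¹ := ⟨_, rfl⟩
  have hPK : P * kry A v = kry B w := hPdef ▸ Matrix.nonsing_inv_mul_cancel_right _ _ hA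
  have hcol : ∀ j ≤ n, P *ᵥ (A ^ j *ᵥ v) = B ^ j *ᵥ w := by
    intro j hj
    rcases hj.eq_or_lt with rfl | hj
    · rw [pow_mulVec_top, pow_mulVec_top, Matrix.mulVec_neg, Matrix.mulVec_mulVec, hPK, h]
    · funext i
      have := congrFun (congrFun hPK i) ⟨j, hj⟩
      simpa [kry, Matrix.mul_apply, Matrix.mulVec, dotProduct] using this
  refine ⟨P, ?_, ?_⟩
  · have := congrArg Matrix.det hPK
    rw [det_mul, ← hd] at this
    exact (mul_eq_right₀ hA.ne_zero).1 this
  · have e : P * A * kry A v = B * P * kry A v := by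
      rw [Matrix.mul_assoc B P, hPK]
      ext i j
      have h1 := congrFun (hcol ((j : ℕ) + 1) j.is_lt) i
      simp only [pow_succ', ← Matrix.mulVec_mulVec] at h1
      change ((P * A) *ᵥ (A ^ (j : ℕ) *ᵥ v)) i = (B *ᵥ (B ^ (j : ℕ) *ᵥ w)) i
      rw [← Matrix.mulVec_mulVec]
      exact h1
    have := congrArg (fun M => M * (kry A v)⁻¹) e
    simpa [Matrix.mul_nonsing_inv_cancel_right _ _ hA] using this

section Four

variable {F : Type*} [Field F]

theorem det_kry_four {M : Matrix (Fin 4) (Fin 4) F} (h10 : M 1 0 = 1) (h21 : M 2 1 = 1) (h32 : M 3 2 = 1)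
    (h00 : M 0 0 = 0) (h20 : M 2 0 = 0) (h30 : M 3 0 = 0) (h31 : M 3 1 = 0) :
    (kry M (Pi.single 0 1)).det = 1 := by
  have c1 : M *ᵥ Pi.single 0 1 = Pi.single 1 1 := by
    funext i; fin_cases i <;> simp [h00, h10, h20, h30]
  have c2 : M *ᵥ Pi.single 1 1 = ![M 0 1, M 1 1, 1, 0] := by
    funext i; fin_cases i <;> simp [h21, h31]
  have c3 : (M *ᵥ ![M 0 1, M 1 1, 1, 0]) 3 = 1 := by
    simp [Matrix.mulVec, dotProduct, Fin.sum_univ_four, h30, h31, h32]
  have hk : kry M (Pi.single 0 1) = Matrix.of fun i j =>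
      ![Pi.single 0 1, Pi.single 1 1, ![M 0 1, M 1 1, 1, 0], M *ᵥ ![M 0 1, M 1 1, 1, 0]] j i := by
    have p0 : M ^ 0 *ᵥ Pi.single 0 1 = Pi.single 0 1 := by rw [pow_zero, Matrix.one_mulVec]
    have p1 : M ^ 1 *ᵥ Pi.single 0 1 = Pi.single 1 1 := by rw [pow_one, c1]
    have p2 : M ^ 2 *ᵥ Pi.single 0 1 = ![M 0 1, M 1 1, 1, 0] := by
      rw [pow_two, ← Matrix.mulVec_mulVec, c1, c2]
    have p3 : M ^ 3 *ᵥ Pi.single 0 1 = M *ᵥ ![M 0 1, M 1 1, 1, 0] := by
      rw [pow_succ', ← Matrix.mulVec_mulVec, p2]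
    ext i j
    fin_cases j
    exacts [congrFun p0 i, congrFun p1 i, congrFun p2 i, congrFun p3 i]
  rw [hk]
  have htri : (Matrix.of fun i j =>
      (![Pi.single 0 1, Pi.single 1 1, ![M 0 1, M 1 1, 1, 0], M *ᵥ ![M 0 1, M 1 1, 1, 0]] : Fin 4 → Fin 4 → F) j i).BlockTriangular id := by
    intro i j hij
    fin_cases i <;> fin_cases j <;> simp_all
  rw [Matrix.det_of_isUpperTriangular htri, Fin.prod_univ_four]
  simp [c3]

/-- The identity as a product of four conjugates of a companion matrix of size four. -/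
theorem inPow_scalar_comp_four [Fintype F] (hq : 3 ≤ Fintype.card F) (a : Fin 4 → F) (ha : (comp a).det = 1) :
    InPow (comp a) 4 (1 : Matrix (Fin 4) (Fin 4) F) := by
  have ha0 : (comp a).det ≠ 0 := by rw [ha]; exact one_ne_zero
  set k := (revComp a)⁻¹ 3 3
  obtain ⟨u, hu, hu'⟩ := exists_ne_pair hq (a 3 - 1 - k)
  let T0 : Matrix (Fin 4) (Fin 4) F := !![1, u, 0, 0; 0, 1, 1, 0; 0, 0, 1, 0; 0, 0, 0, 1]
  obtain ⟨y, M, T, hy, hM, hyM, htri, hdiag, hcol, hyrev, htr⟩ := exists_hess_pair a ha0 T0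
    (fun i j hij => by fin_cases i <;> fin_cases j <;> simp [T0] at hij ⊢)
    (fun i => by fin_cases i <;> simp [T0])
    (by simp [T0, Fin.prod_univ_four, ha])
  have hlast : (Fin.last 3 : Fin 4) = 3 := rfl
  have d : ∀ i, T i i = 1 := fun i => by rw [hdiag]; fin_cases i <;> simp [T0]
  have t10 := htri 1 0 (by decide)
  have t20 := htri 2 0 (by decide)
  have t30 := htri 3 0 (by decide)
  have t21 := htri 2 1 (by decide)
  have t31 := htri 3 1 (by decide)
  have t32 := htri 3 2 (by decide)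
  have t01 : T 0 1 = u := by rw [hcol 0 1 (by decide)]; simp [T0]
  have t02 : T 0 2 = 0 := by rw [hcol 0 2 (by decide)]; simp [T0]
  have t12 : T 1 2 = 1 := by rw [hcol 1 2 (by decide)]; simp [T0]
  have hH : ∀ i j : Fin 4, j ≠ 3 → (revComp a)⁻¹ i j = if i.val = j.val + 1 then 1 else 0 :=
    fun i j hj => revComp_inv_col a ha0 i j hj
  have t23 : T 2 3 ≠ 0 := by
    intro e
    refine hu' ?_
    rw [hlast, Fin.sum_univ_three, Fin.sum_univ_four] at htr
    simp [T0, hH, d, e] at htr
    linear_combination -htr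
  -- the left factor
  have hy1 : SLSim (comp a) y := by
    refine hyrev ▸ ⟨(1 : Matrix (Fin 4) (Fin 4) F).submatrix Fin.revPerm id, ?_, ?_⟩
    · rw [Matrix.det_permute, Matrix.det_one, mul_one,
        show Equiv.Perm.sign (Fin.revPerm : Equiv.Perm (Fin 4)) = 1 from by decide]
      simp
    · ext i j
      fin_cases i <;> fin_cases j <;> simp [revComp, Matrix.mul_apply, Fin.sum_univ_four, Matrix.one_apply]
  -- the right factor
  have hY : IsUnit (revComp a).det := isUnit_iff_ne_zero.2 ((glSim_revComp a).det_eq ▸ ha0)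
  have hMT : M = (revComp a)⁻¹ * T := by
    rw [← hyM, hyrev, ← Matrix.mul_assoc, Matrix.nonsing_inv_mul _ hY, Matrix.one_mul]
  have hkc : (kry (comp a) (Pi.single 0 1)).det = 1 :=
    det_kry_four rfl rfl rfl rfl rfl rfl rfl
  have hkM : (kry M (Pi.single 0 1)).det = 1 := by
    refine det_kry_four ?_ ?_ ?_ ?_ ?_ ?_ ?_ <;>
      simp [hMT, Matrix.mul_apply, Fin.sum_univ_four, hH, d, t10, t20, t30, t21, t31, t32, t01, t02, t12]
  have hM1 : SLSim (comp a) M :=
    slSim_of_cyclicVec (isCyclicVec_of_det (by rw [hkc]; exact one_ne_zero)) (charpoly_eq_of_glSim hM)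
      (hkc.trans hkM.symm)
  -- `T` and its inverse
  have hTd : T.det = 1 := by rw [← hyM, det_mul, ← hy.det_eq, ← hM.det_eq, ha, one_mul]
  have hTu : IsUnit T.det := hTd ▸ isUnit_one
  have hTp : T.charpoly = (X - C (1 : F)) ^ 4 := by
    rw [charpoly_upper T htri, rootsPoly, Multiset.map_map]
    simp [Function.comp_def, d]
    ring
  have hN : (T - 1) ^ 4 = 0 := by
    have := Matrix.aeval_self_charpoly T
    rw [hTp] at this
    simpa using this
  have hSN : (T⁻¹ - 1) ^ 4 = 0 := by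
    have e : T⁻¹ - 1 = -(T⁻¹ * (T - 1)) := by
      rw [Matrix.mul_sub, Matrix.nonsing_inv_mul T hTu, Matrix.mul_one, neg_sub]
    have hcomm : Commute T⁻¹ (T - 1) := by
      show T⁻¹ * (T - 1) = (T - 1) * T⁻¹
      rw [Matrix.mul_sub, Matrix.sub_mul, Matrix.nonsing_inv_mul T hTu, Matrix.mul_nonsing_inv T hTu,
        Matrix.mul_one, Matrix.one_mul]
    rw [e, Even.neg_pow (by decide), hcomm.mul_pow, hN, Matrix.mul_zero]
  have hTc : SplitCyclic T := by
    refine splitCyclic_of_first _ (by rw [charpoly_upper T htri]) 0 fun c v hv h0 => ?_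
    have e : ∀ i, (T *ᵥ v) i = c * v i := fun i => by rw [hv]; simp
    have e0 := e 0
    have e1 := e 1
    have e2 := e 2
    have e3 := e 3
    simp [Matrix.mulVec, dotProduct, Fin.sum_univ_four, d, t10, t20, t30, t21, t31, t32, t01, t02, t12, h0]
      at e0 e1 e2 e3
    have h3 : v 3 = 0 := by
      rcases mul_eq_zero.1 (show (1 - c) * v 3 = 0 by linear_combination e3) with h | h
      · rw [← sub_eq_zero.1 h] at e2
        simpa [t23] using e2
      · exact h
    rw [h3] at e0 e1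
    simp [hu] at e0
    rw [e0] at e1
    simp at e1
    funext i
    fin_cases i <;> simp [h0, h3, e0, e1]
  obtain ⟨v, hv⟩ := hTc.exists_cyclicVec (by rw [hTd]; exact one_ne_zero)
  have hkS : (kry T⁻¹ v).det = (kry T v).det := by
    have e : (T * T * T) * kry T⁻¹ v = (kry T v).submatrix id (Fin.revPerm : Equiv.Perm (Fin 4)) := by
      have hcol : ∀ (A B : Matrix (Fin 4) (Fin 4) F) (w : Fin 4 → F) (i j : Fin 4),
          (B * kry A w) i j = (B *ᵥ (A ^ (j : ℕ) *ᵥ w)) i := fun A B w i j => by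
        simp [Matrix.mul_apply, Matrix.mulVec, dotProduct, kry]
      ext i j
      rw [hcol, Matrix.submatrix_apply]
      fin_cases j <;>
        simp [kry, pow_succ, pow_succ', Matrix.mulVec_mulVec, Matrix.mul_assoc, Matrix.mul_nonsing_inv T hTu,
          Matrix.mul_nonsing_inv_cancel_left T _ hTu]
    have := congrArg Matrix.det e
    rw [Matrix.det_permute', det_mul, det_mul, det_mul, hTd,
      show Equiv.Perm.sign (Fin.revPerm : Equiv.Perm (Fin 4)) = 1 from by decide] at this
    simpa using this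
  have hSp : T⁻¹.charpoly = (X - C (1 : F)) ^ 4 :=
    (isCyclicVec_of_det (by rw [hkS]; exact kry_det_ne hv)).charpoly_eq ((monic_X_sub_C 1).pow 4)
      (by rw [natDegree_pow, natDegree_X_sub_C, mul_one]) (by simp [hSN])
  obtain ⟨Q, hQ, eQ⟩ := slSim_of_cyclicVec hv (hTp.trans hSp.symm) hkS.symm
  have hQ0 : Q.det ≠ 0 := by rw [hQ]; exact one_ne_zero
  have hconj : ∀ {z : Matrix (Fin 4) (Fin 4) F}, SLSim (comp a) z → SLSim (comp a) (conjBy Q z) := fun {z} h =>
    h.trans ⟨Q, hQ, by rw [conjBy, mul_assoc, Matrix.nonsing_inv_mul Q (isUnit_iff_ne_zero.2 hQ0), mul_one]⟩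
  refine ⟨[y, M, conjBy Q y, conjBy Q M], rfl, ?_, ?_⟩
  · intro z hz
    simp only [List.mem_cons, List.not_mem_nil, or_false] at hz
    rcases hz with rfl | rfl | rfl | rfl
    exacts [hy1, hM1, hconj hy1, hconj hM1]
  · simp only [List.prod_cons, List.prod_nil, mul_one]
    rw [← Matrix.mul_assoc, ← conjBy_mul hQ0, hyM, conjBy_eq hQ0 eQ, Matrix.mul_nonsing_inv T hTu]

end Four

end CfsgLib.PSLCover
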