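import Cfsg.Agent.Lib.PSLCover.Basic
import Mathlib.LinearAlgebra.Matrix.ProjectiveSpecialLinearGroup

/-!
From products of conjugate matrices to products of conjugates in `PSL_n`.
-/

set_option autoImplicit false

namespace CfsgLib.PSLCover

open Matrix

variable {F : Type*} [Field F] {n : ℕ}

theorem mem_center_of_eq_smul_one (hn : 0 < n) {A : Matrix.SpecialLinearGroup (Fin n) F} {z : F}
    (h : (A : Matrix (Fin n) (Fin n) F) = z • 1) : A ∈ Subgroup.center (Matrix.SpecialLinearGroup (Fin n) F) := by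
  haveI : Nonempty (Fin n) := ⟨⟨0, hn⟩⟩
  refine Matrix.SpecialLinearGroup.mem_center_iff.2 ⟨z, ?_, ?_⟩
  · have h1 := A.property
    rwa [h, Matrix.det_smul, Matrix.det_one, mul_one] at h1
  · rw [h, scalar_apply, smul_one_eq_diagonal]

theorem statement_of_covers (hn : 3 ≤ n)
    (H : ∀ x : Matrix (Fin n) (Fin n) F, x.det = 1 → Nonscalar x →
      (∀ g : Matrix (Fin n) (Fin n) F, g.det = 1 → Nonscalar g → InPow x n g) ∧
        ∃ z : F, InPow x n (z • 1)) :
    ∀ x : ProjectiveSpecialLinearGroup (Fin n) F, x ≠ 1 → ∀ g : ProjectiveSpecialLinearGroup (Fin n) F,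
      ∃ f : Fin n → ProjectiveSpecialLinearGroup (Fin n) F,
        g = (List.ofFn fun i => f i * x * (f i)⁻¹).prod := by
  intro x hx g
  obtain ⟨X, rfl⟩ := QuotientGroup.mk_surjective x
  obtain ⟨G, rfl⟩ := QuotientGroup.mk_surjective g
  have hX : Nonscalar (X : Matrix (Fin n) (Fin n) F) := fun c hc =>
    hx ((QuotientGroup.eq_one_iff X).2 (mem_center_of_eq_smul_one (by omega) hc))
  obtain ⟨H1, z, hz⟩ := H _ X.property hX
  obtain ⟨G', hG', hpow⟩ : ∃ G' : Matrix.SpecialLinearGroup (Fin n) F,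
      (G' : ProjectiveSpecialLinearGroup (Fin n) F) = (G : ProjectiveSpecialLinearGroup (Fin n) F) ∧
        InPow (X : Matrix (Fin n) (Fin n) F) n G' := by
    by_cases hG : Nonscalar (G : Matrix (Fin n) (Fin n) F)
    · exact ⟨G, rfl, H1 _ G.property hG⟩
    · simp only [Nonscalar, not_forall, not_not] at hG
      obtain ⟨c, hc⟩ := hG
      have hdet : (z • (1 : Matrix (Fin n) (Fin n) F)).det = 1 := by rw [hz.det, X.property, one_pow]
      refine ⟨⟨z • 1, hdet⟩, ?_, hz⟩
      rw [(QuotientGroup.eq_one_iff _).2 (mem_center_of_eq_smul_one (by omega) hc)]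
      exact (QuotientGroup.eq_one_iff _).2 (mem_center_of_eq_smul_one (by omega) (z := z) rfl)
  obtain ⟨l, hl, hc, hp⟩ := hpow
  have hP : ∀ i : Fin n, ∃ P : Matrix.SpecialLinearGroup (Fin n) F,
      ((P * X * P⁻¹ : Matrix.SpecialLinearGroup (Fin n) F) : Matrix (Fin n) (Fin n) F) = l.get (Fin.cast hl.symm i) := by
    intro i
    obtain ⟨P, hP, e⟩ := hc _ (List.get_mem l (Fin.cast hl.symm i))
    refine ⟨⟨P, hP⟩, ?_⟩
    change P * (X : Matrix (Fin n) (Fin n) F) * P.adjugate = _
    simp only [e, mul_assoc, mul_adjugate, hP, one_smul, mul_one]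
  choose P hP using hP
  refine ⟨fun i => (P i : ProjectiveSpecialLinearGroup (Fin n) F), ?_⟩
  have key : (List.ofFn fun i => P i * X * (P i)⁻¹).prod = G' := by
    let φ : Matrix.SpecialLinearGroup (Fin n) F →* Matrix (Fin n) (Fin n) F :=
      ⟨⟨fun A => (A : Matrix (Fin n) (Fin n) F), Matrix.SpecialLinearGroup.coe_one⟩, Matrix.SpecialLinearGroup.coe_mul⟩
    refine Subtype.ext ?_
    change φ (List.ofFn fun i => P i * X * (P i)⁻¹).prod = _
    rw [map_list_prod, List.map_ofFn, ← hp]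
    congr 1
    refine List.ext_get (by simp [hl]) fun i h1 h2 => ?_
    simp only [List.get_ofFn, Function.comp_apply]
    exact hP _
  rw [← hG', ← key, ← QuotientGroup.mk'_apply, map_list_prod, List.map_ofFn]
  rfl

end CfsgLib.PSLCover
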