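import Cfsg.Agent.Lib.PSLCover.MainBase
import Cfsg.Agent.Lib.PSLCover.Scalar2
import Cfsg.Agent.Lib.PSLCover.Decomp
import Cfsg.Agent.Lib.PSLCover.RankOne
import Cfsg.Agent.Lib.PSLCover.Quads
import Cfsg.Agent.Lib.PSLCover.Scalar4
import Cfsg.Agent.Lib.PSLCover.Wrapper

/-!
The assembly: every nonscalar matrix of determinant one covers in n factors, up to scalars.
-/

set_option autoImplicit false
set_option linter.unusedSectionVars false

namespace CfsgLib.PSLCover

open Matrix Polynomial

universe u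
variable {F : Type u} [Field F] [Fintype F]

/-- Chains without all determinants in the centralizer: four factors up to scalars. -/
def SlClassCover (F : Type u) [Field F] : Prop :=
  ∀ {n : ℕ}, 4 ≤ n → ∀ {x : Matrix (Fin n) (Fin n) F}, Chain x → x.det = 1 → ¬DetFull x →
    ∀ {g : Matrix (Fin n) (Fin n) F}, Nonscalar g → g.det = 1 → ∃ z : F, z ^ n = 1 ∧ InPow x 4 (z • g)

theorem scalar_small (hq : 4 ≤ Fintype.card F) {n : ℕ} (hn : 4 ≤ n) {x : Matrix (Fin n) (Fin n) F} (hx : x.det = 1)
    (hr : ¬IsRankOne x) (h2 : ∃ c : F, (x - c • 1).rank ≤ 2) : ∃ z : F, InPow x n (z • 1) :=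
  let ⟨_, hc⟩ := h2
  inPow_scalar_rankTwo hq hn hx hr hc

/-- No translate of small rank: one factor less than the size. -/
theorem Big.glPowNC (hq : 4 ≤ Fintype.card F) : ∀ {n : ℕ}, 5 ≤ n → ∀ {x : Matrix (Fin n) (Fin n) F},
    Big x → x.det ≠ 0 → ∀ g : Matrix (Fin n) (Fin n) F, Nonscalar g → g.det = x.det ^ (n - 1) →
      GLPowNC x (n - 1) g := by
  intro n hn
  induction n, hn using Nat.le_induction with
  | base =>
    intro x hb hx g hg hgd
    rcases chain_or_five x hb with hc | ⟨a, l, -, hs⟩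
    · exact hc.glPowNC_four hq hx g hg hgd
    · exact glPowNC_block_single hq (by norm_num) a hx hs hg hgd
  | succ n hn ih =>
    intro x hb hx g hg hgd
    rcases chain_or_peel x hb hx with hc | ⟨l, x2, hs, hb2, hd2, hl⟩
    · exact glPowNC_of_le (by simp only [Fintype.card_fin]; omega) hb.nonscalar hx (by omega)
        (hc.glPowNC_four hq hx) g hg hgd
    · simp only [Nat.add_sub_cancel] at x2 hs hb2 hd2 hgd ⊢
      obtain ⟨k, rfl⟩ : ∃ k, n = k + 1 := ⟨n - 1, by omega⟩
      refine GLPowNC.replace_glSimE hs (fun g' h1 h2 => ?_) hg hgd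
      exact (peel_gl (by simp only [Fintype.card_fin]; omega) hb2.nonscalar hd2 hl
        (fun H h3 h4 => ih hb2 hd2 H h3 h4) g' h1 h2).glPowNC

/-- A translate of rank two: as many factors as the size. -/
theorem glPowNC_small (hq : 4 ≤ Fintype.card F) : ∀ {n : ℕ}, 4 ≤ n → ∀ {x : Matrix (Fin n) (Fin n) F},
    ¬IsRankOne x → ∀ c : F, (x - c • 1).rank ≤ 2 → x.det ≠ 0 →
      ∀ g : Matrix (Fin n) (Fin n) F, Nonscalar g → g.det = x.det ^ n → GLPowNC x n g := by
  intro n hn
  induction n, hn using Nat.le_induction with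
  | base =>
    intro x hr c _ hx g hg hgd
    rcases chain_or_four x hr with hc | ⟨a, l, -, hs⟩
    · exact hc.glPowNC_four hq hx g hg hgd
    · exact glPowNC_block_single hq le_rfl a hx hs hg hgd
  | succ n hn ih =>
    intro x hr c h2 hx g hg hgd
    obtain ⟨x2, hs, hr2, h22⟩ := exists_peel_small (by omega) x c h2 hr
    simp only [Nat.add_sub_cancel] at x2 hs hr2 h22
    have hd := hs.det_eq
    rw [Matrix.det_fromBlocks_zero₂₁] at hd
    have hx' := hx
    rw [hd] at hx'
    obtain ⟨h1, hd2⟩ := mul_ne_zero_iff.1 hx'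
    have hc0 : c ≠ 0 := fun e => h1 (by simp [e])
    refine GLPowNC.replace_glSimE hs (fun g' h1 h2 => ?_) hg hgd
    exact (peel_gl (by simp only [Fintype.card_fin]; omega) (nonscalar_of_not_isRankOne hr2) hd2 hc0
      (fun H h3 h4 => ih hr2 c h22 hd2 H h3 h4) g' h1 h2).glPowNC

theorem coversUpto_four (HS : SlClassCover F) (hq : 4 ≤ Fintype.card F) {x : Matrix (Fin 4) (Fin 4) F} (hx : x.det = 1)
    (hr : ¬IsRankOne x) : CoversUpto x 4 := by
  have hx0 : x.det ≠ 0 := by rw [hx]; exact one_ne_zero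
  have hns : CoversNS x 4 := by
    by_cases hf : DetFull x
    · refine coversNS_of_glPowNC hf hx fun g hg hgd => ?_
      rcases chain_or_four x hr with hc | ⟨a, l, -, hs⟩
      · exact hc.glPowNC_four hq hx0 g hg hgd
      · exact glPowNC_block_single hq le_rfl a hx0 hs hg hgd
    · rcases chain_or_four x hr with hc | ⟨a, l, -, hs⟩
      · intro g hg hgd
        obtain ⟨z, -, hz⟩ := HS le_rfl hc hx hf hg hgd
        exact ⟨z, hz⟩
      · exact absurd ((detFull_single_right _ _).of_glSimE hs) hf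
  refine hns.add_scalar ?_
  by_cases h2 : ∃ c : F, (x - c • 1).rank ≤ 2
  · exact scalar_small hq le_rfl hx hr h2
  · have hb : Big x := fun c => by_contra fun h => h2 ⟨c, by omega⟩
    rcases chain_or_four x hr with hc | ⟨a, l, hl, hs⟩
    · exact scalar_four hq hc hx
    · exfalso
      refine h2 ⟨l, ?_⟩
      rw [rank_sub_smul_of_glSimE hs]
      exact rank_block_single_le a hl

theorem coversUpto_ge_five (HS : SlClassCover F) (hq : 4 ≤ Fintype.card F) {n : ℕ} (hn : 5 ≤ n) {x : Matrix (Fin n) (Fin n) F}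
    (hx : x.det = 1) (hr : ¬IsRankOne x) : CoversUpto x n := by
  have hx0 : x.det ≠ 0 := by rw [hx]; exact one_ne_zero
  have hcard : 3 ≤ Fintype.card (Fin n) := by rw [Fintype.card_fin]; omega
  by_cases h2 : ∃ c : F, (x - c • 1).rank ≤ 2
  · obtain ⟨c, hc⟩ := h2
    have hf : DetFull x := by
      obtain ⟨x2, hs, -⟩ := exists_peel_small hn x c hc hr
      exact (detFull_single_left c x2).of_glSimE hs
    exact (coversNS_of_glPowNC hf hx (glPowNC_small hq (by omega) hr c hc hx0)).add_scalar
      (scalar_small hq (by omega) hx hr ⟨c, hc⟩)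
  · have hb : Big x := fun c => by_contra fun h => h2 ⟨c, by omega⟩
    by_cases hf : DetFull x
    · exact CoversNS.of_lt hcard hb.nonscalar hx (by omega : n - 1 < n)
        (coversNS_of_glPowNC hf hx (Big.glPowNC hq hn hb hx0))
    · have hc : Chain x := by
        rcases chain_or_peel x hb hx0 with hc | ⟨l, x2, hs, -⟩
        · exact hc
        · exact absurd ((detFull_single_left l x2).of_glSimE hs) hf
      refine CoversNS.of_lt hcard hb.nonscalar hx (by omega : 4 < n) fun g hg hgd => ?_
      obtain ⟨z, -, hz⟩ := HS (by omega) hc hx hf hg hgd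
      exact ⟨z, hz⟩

/-- Every nonscalar matrix of determinant one covers in as many factors as its size, up to scalars. -/
theorem covers_upto (HS : SlClassCover F) (hq : 4 ≤ Fintype.card F) {n : ℕ} (hn : 3 ≤ n) {x : Matrix (Fin n) (Fin n) F}
    (hx : x.det = 1) (hns : Nonscalar x) : CoversUpto x n := by
  by_cases hr : IsRankOne x
  · have hF : ∃ c : F, c ≠ 0 ∧ c ≠ 1 := by
      obtain ⟨t, t', ht, ht', hne⟩ := exists_two_units hq
      by_cases h : t = 1
      · exact ⟨t', ht', fun e => hne (h.trans e.symm)⟩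
      · exact ⟨t, ht, h⟩
    obtain ⟨h1, h2⟩ := rankOne_covers (by rw [Fintype.card_fin]; exact hn) hF hns hr hx
    rw [Fintype.card_fin] at h1 h2
    exact CoversNS.add_scalar (fun g hg hgd => ⟨1, by rw [one_smul]; exact h1 g hgd hg⟩) h2
  · rcases Nat.lt_or_ge n 4 with h3 | h4
    · obtain rfl : n = 3 := by omega
      exact fun g hg => inPow_three_smul hq hx hr g hg
    rcases Nat.lt_or_ge n 5 with h5 | h5
    · obtain rfl : n = 4 := by omega
      exact coversUpto_four HS hq hx hr
    · exact coversUpto_ge_five HS hq h5 hx hr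


end CfsgLib.PSLCover
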