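import Cfsg.Agent.Lib.PSLCover.MainLemmas
import Cfsg.Agent.Lib.PSLCover.RankOne
import Cfsg.Agent.Lib.PSLCover.Quads
import Cfsg.Agent.Lib.PSLCover.Scalar4
import Cfsg.Agent.Lib.PSLCover.Wrapper

/-!
Assembly lemmas: chains in four factors, scalars at size four, passage to the projective group.
-/

set_option autoImplicit false
set_option linter.unusedSectionVars false

namespace CfsgLib.PSLCover

open Matrix Polynomial

universe u
variable {F : Type u} [Field F] [Fintype F]

theorem Chain.two_le {n : ℕ} {x : Matrix (Fin n) (Fin n) F} (h : Chain x) : 2 ≤ n := by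
  cases h with
  | one a hd h =>
    obtain ⟨e, -⟩ := h
    have := Fintype.card_congr e
    simp only [Fintype.card_fin] at this
    omega
  | cons a hd x2 h hc hann =>
    obtain ⟨e, -⟩ := h
    have := Fintype.card_congr e
    simp only [Fintype.card_sum, Fintype.card_fin] at this
    omega

theorem inPow_scalar_of_glSimE {ι κ : Type*} [Fintype ι] [DecidableEq ι] [Fintype κ] [DecidableEq κ]
    {x : Matrix ι ι F} {y : Matrix κ κ F} (h : GLSimE x y) {k : ℕ} {z : F} (hy : InPow y k (z • 1)) :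
    InPow x k (z • 1) := by
  obtain ⟨e, P, hP, eP⟩ := h
  obtain ⟨l, h1, h2, h3⟩ := hy
  have hP' : IsUnit P.det := isUnit_iff_ne_zero.2 hP
  have hQ : (P⁻¹).det ≠ 0 := by
    rw [Matrix.det_nonsing_inv, Ring.inverse_eq_inv']; exact inv_ne_zero hP
  have key : InPow (x.reindex e e) k (z • 1) := by
    refine ⟨l.map (conjBy P⁻¹), by simpa using h1, fun w hw => ?_, ?_⟩
    · obtain ⟨u, hu, rfl⟩ := List.mem_map.1 hw
      obtain ⟨R, hR, eR⟩ := h2 u hu
      refine ⟨P⁻¹ * R * P, ?_, ?_⟩
      · rw [det_mul, det_mul, hR, mul_one, Matrix.det_nonsing_inv, Ring.inverse_eq_inv', inv_mul_cancel₀ hP]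
      · rw [conjBy, Matrix.nonsing_inv_nonsing_inv P hP']
        calc P⁻¹ * R * P * x.reindex e e = P⁻¹ * (R * (P * x.reindex e e)) := by simp only [Matrix.mul_assoc]
          _ = P⁻¹ * (R * y * P) := by rw [eP, Matrix.mul_assoc R y P]
          _ = P⁻¹ * u * (R * P) := by rw [eR]; simp only [Matrix.mul_assoc]
          _ = P⁻¹ * u * P * (P⁻¹ * R * P) := by
            simp only [Matrix.mul_assoc, Matrix.mul_nonsing_inv_cancel_left _ _ hP']
    · rw [← conjBy_prod hQ, h3, conjBy, Matrix.mul_smul, Matrix.mul_one, Matrix.smul_mul,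
        Matrix.mul_nonsing_inv _ (isUnit_iff_ne_zero.2 hQ)]
  have := key.reindex (e := e.symm)
  simpa [Matrix.reindex_apply, Matrix.submatrix_submatrix, Matrix.submatrix_smul] using this

theorem scalar_four (hq : 4 ≤ Fintype.card F) {x : Matrix (Fin 4) (Fin 4) F} (hc : Chain x) (hx : x.det = 1) :
    ∃ z : F, InPow x 4 (z • 1) := by
  cases hc with
  | @one _ d _ a hd h =>
    obtain ⟨e, -⟩ := id h
    have := Fintype.card_congr e
    simp only [Fintype.card_fin] at this
    obtain rfl : d = 3 := by omega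
    exact ⟨1, inPow_scalar_of_glSimE h (by
      rw [one_smul]; exact inPow_scalar_comp_four (by omega) a (by rw [← h.det_eq, hx]))⟩
  | @cons _ d m _ a hd x2 h hc hann =>
    obtain ⟨e, -⟩ := id h
    have := Fintype.card_congr e
    simp only [Fintype.card_sum, Fintype.card_fin] at this
    have := hc.two_le
    obtain rfl : d = 1 := by omega
    obtain rfl : m = 2 := by omega
    exact ⟨_, inPow_scalar_of_glSimE h (inPow_scalar_two_twos (comp a) x2)⟩

theorem statement_of_covers_upto {n : ℕ} (hn : 3 ≤ n)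
    (H : ∀ x : Matrix (Fin n) (Fin n) F, x.det = 1 → Nonscalar x → CoversUpto x n) :
    ∀ x : Matrix.ProjectiveSpecialLinearGroup (Fin n) F, x ≠ 1 →
      ∀ g : Matrix.ProjectiveSpecialLinearGroup (Fin n) F,
        ∃ f : Fin n → Matrix.ProjectiveSpecialLinearGroup (Fin n) F,
          g = (List.ofFn fun i => f i * x * (f i)⁻¹).prod := by
  intro x hx g
  obtain ⟨X, rfl⟩ := QuotientGroup.mk_surjective x
  obtain ⟨G, rfl⟩ := QuotientGroup.mk_surjective g
  have hX : Nonscalar (X : Matrix (Fin n) (Fin n) F) := fun c hc =>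
    hx ((QuotientGroup.eq_one_iff X).2 (mem_center_of_eq_smul_one (by omega) hc))
  obtain ⟨z, hpow⟩ := H _ X.property hX _ G.property
  have hdet : (z • (G : Matrix (Fin n) (Fin n) F)).det = 1 := by rw [hpow.det, X.property, one_pow]
  set G' : Matrix.SpecialLinearGroup (Fin n) F := ⟨z • (G : Matrix (Fin n) (Fin n) F), hdet⟩ with hG'
  have hmk : (G' : Matrix.ProjectiveSpecialLinearGroup (Fin n) F) = G := by
    symm
    refine QuotientGroup.eq.2 (mem_center_of_eq_smul_one (by omega) (z := z) ?_)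
    change Matrix.adjugate (G : Matrix (Fin n) (Fin n) F) * (z • (G : Matrix (Fin n) (Fin n) F)) = _
    rw [Matrix.mul_smul, Matrix.adjugate_mul, G.property, one_smul]
  obtain ⟨l, hl, hc, hp⟩ := hpow
  have hP : ∀ i : Fin n, ∃ P : Matrix.SpecialLinearGroup (Fin n) F,
      ((P * X * P⁻¹ : Matrix.SpecialLinearGroup (Fin n) F) : Matrix (Fin n) (Fin n) F) =
        l.get (Fin.cast hl.symm i) := by
    intro i
    obtain ⟨P, hP, e⟩ := hc _ (List.get_mem l (Fin.cast hl.symm i))
    refine ⟨⟨P, hP⟩, ?_⟩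
    change P * (X : Matrix (Fin n) (Fin n) F) * P.adjugate = _
    simp only [e, mul_assoc, mul_adjugate, hP, one_smul, mul_one]
  choose P hP using hP
  refine ⟨fun i => (P i : Matrix.ProjectiveSpecialLinearGroup (Fin n) F), ?_⟩
  have key : (List.ofFn fun i => P i * X * (P i)⁻¹).prod = G' := by
    let φ : Matrix.SpecialLinearGroup (Fin n) F →* Matrix (Fin n) (Fin n) F :=
      ⟨⟨fun A => (A : Matrix (Fin n) (Fin n) F), Matrix.SpecialLinearGroup.coe_one⟩,
        Matrix.SpecialLinearGroup.coe_mul⟩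
    refine Subtype.ext ?_
    change φ (List.ofFn fun i => P i * X * (P i)⁻¹).prod = _
    rw [map_list_prod, List.map_ofFn]
    refine Eq.trans ?_ hp
    congr 1
    refine List.ext_get (by simp [hl]) fun i h1 h2 => ?_
    simp only [List.get_ofFn, Function.comp_apply]
    exact hP _
  rw [← hmk, ← key, ← QuotientGroup.mk'_apply, map_list_prod, List.map_ofFn]
  rfl

/-- Four factors for chains, up to conjugation. -/
theorem Chain.glPowNC_four (hq : 4 ≤ Fintype.card F) {n : ℕ} {x : Matrix (Fin n) (Fin n) F}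
    (hc : Chain x) (hx : x.det ≠ 0) :
    ∀ g : Matrix (Fin n) (Fin n) F, Nonscalar g → g.det = x.det ^ 4 → GLPowNC x 4 g := by
  intro g hg hgd
  rcases hc.flex_or_quads hq hx with ⟨hf, -⟩ | ⟨a, b, hb, ha, hs⟩
  · exact hf.glPowNC hq hx hg hgd
  · refine GLPowNC.replace_glSimE hs (fun g' h1 h2 => quads_glPowNC hq a ha hb h1 h2) hg hgd

end CfsgLib.PSLCover
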