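import Cfsg.Agent.Lib.PSLCover.ShapeLemmas
import Cfsg.Agent.Lib.PSLCover.Extend
import Cfsg.Agent.Lib.PSLCover.N3
import Cfsg.Agent.Lib.PSLCover.DetFullLemmas

/-!
Lemmas for the assembly: base cases with four factors, iteration, and ranks.
-/

set_option autoImplicit false
set_option linter.unusedSectionVars false

namespace CfsgLib.PSLCover

open Matrix Polynomial

variable {F : Type*} [Field F] {ι κ : Type*} [Fintype ι] [DecidableEq ι] [Fintype κ] [DecidableEq κ]

theorem detFull_single_left (c : F) (x2 : Matrix κ κ F) :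
    DetFull (fromBlocks (c • (1 : Matrix Unit Unit F)) 0 0 x2) := detFull_blocks_scalar c x2

theorem detFull_single_right (A : Matrix ι ι F) (c : F) :
    DetFull (fromBlocks A 0 0 (c • (1 : Matrix Unit Unit F))) :=
  (detFull_single_left c A).of_glSimE (glSimE_sumComm _ _)

theorem Big.nonscalar {x : Matrix ι ι F} (h : Big x) : Nonscalar x := fun c e => by
  have h3 := h c
  rw [e, sub_self, Matrix.rank_zero] at h3
  omega

theorem nonscalar_of_not_isRankOne {x : Matrix ι ι F} (h : ¬IsRankOne x) : Nonscalar x := fun c e =>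
  h ⟨c, 0, 0, by rw [e, Matrix.zero_vecMulVec, add_zero]⟩

/-- A root of the polynomial is a left eigenvalue. -/
theorem det_comp_sub_eq_zero {d : ℕ} (a : Fin (d + 1) → F) {l : F} (h : (compPoly a).IsRoot l) :
    (comp a - l • 1).det = 0 := by
  rw [← Matrix.exists_vecMul_eq_zero_iff]
  refine ⟨fun i => l ^ (i : ℕ), fun e => one_ne_zero ((pow_zero l).symm.trans (congrFun e 0)), ?_⟩
  funext j
  rw [Matrix.vecMul_sub, Matrix.vecMul_smul, Matrix.vecMul_one, Pi.zero_apply, Pi.sub_apply, Pi.smul_apply,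
    smul_eq_mul, sub_eq_zero, Matrix.vecMul, dotProduct]
  by_cases hj : j = Fin.last d
  · subst hj
    simp only [comp_last, Fin.val_last]
    have h' := h
    rw [Polynomial.IsRoot.def, compPoly, eval_sub, eval_pow, eval_X, eval_finsetSum, sub_eq_zero] at h'
    rw [← pow_succ', h']
    exact Finset.sum_congr rfl fun i _ => by simp only [eval_mul, eval_C, eval_pow, eval_X]; ring
  · have hj' : (j : ℕ) + 1 < d + 1 := by
      have := j.isLt
      have : (j : ℕ) ≠ d := fun e => hj (Fin.ext e)
      omega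
    rw [Finset.sum_eq_single ⟨j + 1, hj'⟩ (fun i _ hi => by
      rw [comp_lt a hj, if_neg (fun e => hi (Fin.ext e)), mul_zero]) (by simp)]
    rw [comp_lt a hj, if_pos rfl, mul_one, pow_succ']

theorem rank_lt_card {M : Matrix ι ι F} (h : M.det = 0) : M.rank < Fintype.card ι := by
  obtain ⟨v, hv, hMv⟩ := Matrix.exists_mulVec_eq_zero_iff.2 h
  have h1 := LinearMap.finrank_range_add_finrank_ker M.mulVecLin
  have h2 : LinearMap.ker M.mulVecLin ≠ ⊥ := fun e => hv (by
    have : v ∈ LinearMap.ker M.mulVecLin := by simpa using hMv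
    rwa [e, Submodule.mem_bot] at this)
  have h3 := Submodule.one_le_finrank_iff.2 h2
  rw [Module.finrank_pi] at h1
  rw [Matrix.rank]
  omega

theorem rank_sub_smul_of_glSimE {x : Matrix ι ι F} {y : Matrix κ κ F} (h : GLSimE x y) (c : F) :
    (x - c • 1).rank = (y - c • 1).rank := by
  obtain ⟨e, P, hP, eP⟩ := h
  have hP' : IsUnit P.det := isUnit_iff_ne_zero.2 hP
  rw [← Matrix.rank_reindex e e (x - c • 1)]
  have hA : (x - c • 1).reindex e e = x.reindex e e - c • 1 := by
    ext i j
    simp [Matrix.one_apply]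
  have h1 : P * (x.reindex e e - c • 1) = (y - c • 1) * P := by
    rw [Matrix.mul_sub, Matrix.sub_mul, eP, Matrix.mul_smul, Matrix.smul_mul, Matrix.mul_one, Matrix.one_mul]
  rw [hA, ← Matrix.rank_mul_eq_right_of_isUnit_det P (x.reindex e e - c • 1) hP', h1,
    Matrix.rank_mul_eq_left_of_isUnit_det P _ hP']

/-- A block with a repeated eigenvalue has a translate of small rank. -/
theorem rank_block_single_le {d : ℕ} (a : Fin (d + 1) → F) {l : F} (hl : (compPoly a).IsRoot l) :
    (fromBlocks (comp a) 0 0 (l • (1 : Matrix Unit Unit F)) - l • 1).rank ≤ d := by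
  have e : fromBlocks (comp a) 0 0 (l • (1 : Matrix Unit Unit F)) - l • 1 =
      fromRows (1 : Matrix (Fin (d + 1)) (Fin (d + 1)) F) 0 * (comp a - l • 1) *
        fromCols (1 : Matrix (Fin (d + 1)) (Fin (d + 1)) F) (0 : Matrix (Fin (d + 1)) Unit F) := by
    rw [Matrix.fromRows_mul, Matrix.fromRows_mul_fromCols]
    ext (i | i) (j | j) <;> simp [Matrix.one_apply]
  rw [e]
  refine (rank_mul_le_left _ _).trans ((rank_mul_le_right _ _).trans ?_)
  have := rank_lt_card (det_comp_sub_eq_zero a hl)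
  rw [Fintype.card_fin] at this
  omega

variable [Fintype F]

/-- Four factors for a large block with one further eigenvalue. -/
theorem glPowNC_block_single (hq : 4 ≤ Fintype.card F) {n d : ℕ} (hd : 2 ≤ d) (a : Fin (d + 1) → F) {l : F}
    {x : Matrix (Fin n) (Fin n) F} (hx : x.det ≠ 0)
    (hs : GLSimE x (fromBlocks (comp a) 0 0 (l • (1 : Matrix Unit Unit F)))) {g : Matrix (Fin n) (Fin n) F}
    (hg : Nonscalar g) (hgd : g.det = x.det ^ 4) : GLPowNC x 4 g := by
  have h := hs.det_eq
  rw [Matrix.det_fromBlocks_zero₂₁] at h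
  rw [h] at hx
  obtain ⟨ha, hl⟩ := mul_ne_zero_iff.1 hx
  have hl' : l ≠ 0 := fun e => hl (by simp [e])
  exact ((flex_block_single hq (by omega) a ha hl').of_glSimE hs).glPowNC hq (h ▸ mul_ne_zero ha hl) hg hgd

/-- More factors. -/
theorem glPowNC_of_le {x : Matrix ι ι F} (hn : 3 ≤ Fintype.card ι) (hx : Nonscalar x) (hxd : x.det ≠ 0)
    {j k : ℕ} (hjk : j ≤ k) (h : ∀ g : Matrix ι ι F, Nonscalar g → g.det = x.det ^ j → GLPowNC x j g) :
    ∀ g : Matrix ι ι F, Nonscalar g → g.det = x.det ^ k → GLPowNC x k g := by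
  induction k, hjk using Nat.le_induction with
  | base => exact h
  | succ k _ ih => exact fun g _ hgd => GLPowNC.extend hn hx hxd ih hgd

/-- Every matrix of determinant one, up to a scalar. -/
def CoversUpto (x : Matrix ι ι F) (k : ℕ) : Prop :=
  ∀ g : Matrix ι ι F, g.det = 1 → ∃ z : F, InPow x k (z • g)

/-- Nonscalar matrices of determinant one, up to a scalar. -/
def CoversNS (x : Matrix ι ι F) (k : ℕ) : Prop :=
  ∀ g : Matrix ι ι F, Nonscalar g → g.det = 1 → ∃ z : F, InPow x k (z • g)

theorem CoversNS.extend (hn : 3 ≤ Fintype.card ι) {x : Matrix ι ι F} (hx : Nonscalar x) (hxd : x.det = 1)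
    {k : ℕ} (h : CoversNS x k) : CoversUpto x (k + 1) := by
  intro g hg
  have hu : IsUnit x.det := by rw [hxd]; exact isUnit_one
  obtain ⟨y, hy, hns⟩ : ∃ y, SLSim x y ∧ Nonscalar (g * y⁻¹) := by
    by_cases hns : Nonscalar (g * x⁻¹)
    · exact ⟨x, SLSim.refl x, hns⟩
    · simp only [Nonscalar, not_forall, not_not] at hns
      obtain ⟨c, hc⟩ := hns
      obtain ⟨y, hy, hne⟩ := exists_conj_not_smul hn hx
      have hyu : IsUnit y.det := by rw [← hy.glSim.det_eq]; exact hu
      refine ⟨y, hy, fun e he => ?_⟩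
      have hg1 : g = c • x := by
        have := congrArg (· * x) hc
        simpa [Matrix.mul_assoc, Matrix.nonsing_inv_mul x hu] using this
      have hg2 : g = e • y := by
        have := congrArg (· * y) he
        simpa [Matrix.mul_assoc, Matrix.nonsing_inv_mul y hyu] using this
      have he0 : e ≠ 0 := fun e' => by
        rw [e', zero_smul] at hg2
        haveI : Nonempty ι := Fintype.card_pos_iff.1 (by omega)
        rw [hg2, Matrix.det_zero] at hg
        exact zero_ne_one hg
      exact hne (e⁻¹ * c) (by rw [← smul_smul, ← hg1, hg2, inv_smul_smul₀ he0])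
  have hyd : y.det = 1 := by rw [← hy.glSim.det_eq, hxd]
  obtain ⟨z, hz⟩ := h (g * y⁻¹) hns (by
    rw [det_mul, Matrix.det_nonsing_inv, hg, hyd, Ring.inverse_one, one_mul])
  refine ⟨z, ?_⟩
  have := hz.append (inPow_one hy)
  rwa [Matrix.smul_mul, Matrix.nonsing_inv_mul_cancel_right _ _ (by rw [hyd]; exact isUnit_one)] at this

theorem CoversNS.of_lt (hn : 3 ≤ Fintype.card ι) {x : Matrix ι ι F} (hx : Nonscalar x) (hxd : x.det = 1)
    {j k : ℕ} (hjk : j < k) (h : CoversNS x j) : CoversUpto x k := by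
  induction k, hjk using Nat.le_induction with
  | base => exact h.extend hn hx hxd
  | succ k _ ih => exact CoversNS.extend hn hx hxd fun g _ hg => ih g hg

theorem coversNS_of_glPowNC {x : Matrix ι ι F} (hf : DetFull x) (hxd : x.det = 1) {k : ℕ}
    (h : ∀ g : Matrix ι ι F, Nonscalar g → g.det = x.det ^ k → GLPowNC x k g) : CoversNS x k := fun g hg hgd =>
  ⟨1, by rw [one_smul]; exact ((h g hg (by rw [hgd, hxd, one_pow])).inPowNC hf).inPow⟩

theorem CoversNS.add_scalar {x : Matrix ι ι F} {k : ℕ} (h : CoversNS x k)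
    (hz : ∃ z : F, InPow x k (z • 1)) : CoversUpto x k := by
  intro g hg
  by_cases hns : Nonscalar g
  · exact h g hns hg
  · simp only [Nonscalar, not_forall, not_not] at hns
    obtain ⟨c, rfl⟩ := hns
    obtain ⟨z, hz⟩ := hz
    by_cases hc : c = 0
    · subst hc
      rcases isEmpty_or_nonempty ι with hi | hi
      · exact ⟨z, by rwa [show (0 : F) • (1 : Matrix ι ι F) = 1 from Subsingleton.elim _ _]⟩
      · rw [zero_smul, Matrix.det_zero] at hg; exact absurd hg zero_ne_one
    · exact ⟨z / c, by rwa [smul_smul, div_mul_cancel₀ z hc]⟩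

end CfsgLib.PSLCover
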