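import Cfsg.Agent.Lib.PSLCover.Basic

/-!
Pairs of conjugates with a split cyclic product, and their common eigenvectors.
-/

set_option autoImplicit false
set_option linter.unusedSectionVars false

namespace CfsgLib.PSLCover

open Matrix Polynomial

variable {F : Type*} [Field F] {ι : Type*} [Fintype ι] [DecidableEq ι]

/-- A common right eigenvector with eigenvalues `l`. -/
def CommonR (y1 y2 : Matrix ι ι F) (l : F × F) : Prop :=
  ∃ v : ι → F, v ≠ 0 ∧ y1 *ᵥ v = l.1 • v ∧ y2 *ᵥ v = l.2 • v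

/-- A common left eigenvector with eigenvalues `l`. -/
def CommonL (y1 y2 : Matrix ι ι F) (l : F × F) : Prop :=
  ∃ w : ι → F, w ≠ 0 ∧ w ᵥ* y1 = l.1 • w ∧ w ᵥ* y2 = l.2 • w

/-- The product polynomial of a multiset of roots. -/
noncomputable def rootsPoly (S : Multiset F) : F[X] := (S.map fun s => X - C s).prod

/-- `y1 * y2` is split cyclic with spectrum `S`; common eigenvectors only for `R`, `L`. -/
structure IsPair (y1 y2 : Matrix ι ι F) (S : Multiset F) (R L : Set (F × F)) : Prop where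
  cyc : SplitCyclic (y1 * y2)
  poly : (y1 * y2).charpoly = rootsPoly S
  right : ∀ l, CommonR y1 y2 l → l ∈ R
  left : ∀ l, CommonL y1 y2 l → l ∈ L

theorem eigen_ker {A : Matrix ι ι F} {v : ι → F} {c : F} (h : A *ᵥ v = c • v) :
    (A - c • 1) *ᵥ v = 0 := by
  simp [Matrix.sub_mulVec, Matrix.smul_mulVec, h]

theorem eval_charpoly_of_right {A : Matrix ι ι F} {v : ι → F} {c : F} (hv : v ≠ 0)
    (h : A *ᵥ v = c • v) : A.charpoly.eval c = 0 := by
  rw [Matrix.eval_charpoly]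
  refine Matrix.exists_mulVec_eq_zero_iff.1 ⟨v, hv, ?_⟩
  simp [Matrix.sub_mulVec, Matrix.scalar_apply, h]

theorem eval_charpoly_of_left {A : Matrix ι ι F} {w : ι → F} {c : F} (hw : w ≠ 0)
    (h : w ᵥ* A = c • w) : A.charpoly.eval c = 0 := by
  rw [← Matrix.charpoly_transpose]
  exact eval_charpoly_of_right hw (by rw [Matrix.mulVec_transpose]; exact h)

theorem CommonR.mul {y1 y2 : Matrix ι ι F} {l : F × F} {v : ι → F} (h1 : y1 *ᵥ v = l.1 • v)
    (h2 : y2 *ᵥ v = l.2 • v) : (y1 * y2) *ᵥ v = (l.1 * l.2) • v := by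
  rw [← Matrix.mulVec_mulVec, h2, Matrix.mulVec_smul, h1, smul_smul, mul_comm]

theorem CommonL.mul {y1 y2 : Matrix ι ι F} {l : F × F} {w : ι → F} (h1 : w ᵥ* y1 = l.1 • w)
    (h2 : w ᵥ* y2 = l.2 • w) : w ᵥ* (y1 * y2) = (l.1 * l.2) • w := by
  rw [← Matrix.vecMul_vecMul, h1, Matrix.smul_vecMul, h2, smul_smul]

theorem eval_rootsPoly_eq_zero {S : Multiset F} {c : F} (h : (rootsPoly S).eval c = 0) : c ∈ S := by
  rw [rootsPoly, eval_multiset_prod, Multiset.prod_eq_zero_iff, Multiset.map_map, Multiset.mem_map] at h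
  obtain ⟨s, hs, e⟩ := h
  simp only [Function.comp_apply, eval_sub, eval_X, eval_C, sub_eq_zero] at e
  rwa [e]

theorem charpoly_eq_of_glSim {x y : Matrix ι ι F} (h : GLSim x y) : x.charpoly = y.charpoly := by
  obtain ⟨P, hP, e⟩ := h
  have h1 : y = conjBy P x := (conjBy_eq hP e).symm
  rw [h1, conjBy, Matrix.charpoly_mul_comm, ← mul_assoc,
    Matrix.nonsing_inv_mul P (isUnit_iff_ne_zero.2 hP), one_mul]

theorem trace_eq_of_glSim {x y : Matrix ι ι F} (h : GLSim x y) : x.trace = y.trace := by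
  obtain ⟨P, hP, e⟩ := h
  have h1 : y = conjBy P x := (conjBy_eq hP e).symm
  rw [h1, conjBy, Matrix.trace_mul_comm, ← mul_assoc,
    Matrix.nonsing_inv_mul P (isUnit_iff_ne_zero.2 hP), one_mul]

theorem CommonR.eigen {x y1 y2 : Matrix ι ι F} (h1 : GLSim x y1) (h2 : GLSim x y2) {l : F × F}
    (h : CommonR y1 y2 l) :
    x.charpoly.eval l.1 = 0 ∧ x.charpoly.eval l.2 = 0 ∧ (y1 * y2).charpoly.eval (l.1 * l.2) = 0 := by
  obtain ⟨v, hv, e1, e2⟩ := h
  refine ⟨?_, ?_, eval_charpoly_of_right hv (CommonR.mul e1 e2)⟩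
  · rw [charpoly_eq_of_glSim h1]; exact eval_charpoly_of_right hv e1
  · rw [charpoly_eq_of_glSim h2]; exact eval_charpoly_of_right hv e2

theorem CommonL.eigen {x y1 y2 : Matrix ι ι F} (h1 : GLSim x y1) (h2 : GLSim x y2) {l : F × F}
    (h : CommonL y1 y2 l) :
    x.charpoly.eval l.1 = 0 ∧ x.charpoly.eval l.2 = 0 ∧ (y1 * y2).charpoly.eval (l.1 * l.2) = 0 := by
  obtain ⟨v, hv, e1, e2⟩ := h
  refine ⟨?_, ?_, eval_charpoly_of_left hv (CommonL.mul e1 e2)⟩
  · rw [charpoly_eq_of_glSim h1]; exact eval_charpoly_of_left hv e1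
  · rw [charpoly_eq_of_glSim h2]; exact eval_charpoly_of_left hv e2

end CfsgLib.PSLCover
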