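import Cfsg.Agent.Lib.PSLCover.ChainStep

/-!
Pairs for repeated quadratic blocks.
-/

set_option autoImplicit false
set_option linter.unusedSectionVars false

namespace CfsgLib.PSLCover

open Matrix Polynomial

variable {F : Type*} [Field F] [Fintype F]

/-- One copy as an index equivalence. -/
def quadOne : Fin 2 ≃ Fin 2 × Fin 1 where
  toFun i := (i, 0)
  invFun p := p.1
  left_inv _ := rfl
  right_inv p := Prod.ext rfl (Subsingleton.elim _ _)

/-- One more copy as an index equivalence. -/
def quadCons (b : ℕ) : Fin 2 ⊕ Fin 2 × Fin b ≃ Fin 2 × Fin (b + 1) where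
  toFun := Sum.elim (fun i => (i, 0)) fun p => (p.1, p.2.succ)
  invFun p := Fin.cases (Sum.inl p.1) (fun j => Sum.inr (p.1, j)) p.2
  left_inv := by rintro (i | ⟨i, j⟩) <;> simp
  right_inv := by
    rintro ⟨i, j⟩
    cases j using Fin.cases <;> simp

theorem reindex_quadOne (A : Matrix (Fin 2) (Fin 2) F) :
    A.reindex quadOne quadOne = Matrix.blockDiagonal fun _ : Fin 1 => A := by
  ext ⟨i, j⟩ ⟨k, l⟩
  simp [quadOne, Matrix.blockDiagonal_apply, Subsingleton.elim j l]

theorem reindex_quadCons (A : Matrix (Fin 2) (Fin 2) F) (b : ℕ) :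
    (fromBlocks A 0 0 (Matrix.blockDiagonal fun _ : Fin b => A)).reindex (quadCons b) (quadCons b) =
      Matrix.blockDiagonal fun _ : Fin (b + 1) => A := by
  ext ⟨i, j⟩ ⟨k, l⟩
  cases j using Fin.cases <;> cases l using Fin.cases <;>
    simp [quadCons, Matrix.blockDiagonal_apply, Fin.succ_ne_zero, (Fin.succ_ne_zero _).symm]

theorem det_blockDiagonal_const (A : Matrix (Fin 2) (Fin 2) F) (b : ℕ) :
    (Matrix.blockDiagonal fun _ : Fin b => A).det = A.det ^ b := by
  rw [Matrix.det_blockDiagonal, Finset.prod_const, Finset.card_univ, Fintype.card_fin]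

/-- Repeat a pair along equal blocks. -/
theorem hasPair_repeat {A : Matrix (Fin 2) (Fin 2) F} (hA : A.det ≠ 0) {S : Multiset F} {R L : Set (F × F)}
    (h : HasPair A S R L) (hdis : ∀ l ∈ L, l ∈ R → False) (b : ℕ) :
    HasPair (Matrix.blockDiagonal fun _ : Fin (b + 1) => A) ((b + 1) • S) R Set.univ := by
  induction b with
  | zero =>
    rw [show ((0 + 1) • S : Multiset F) = S from one_nsmul S, ← reindex_quadOne]
    exact (h.mono subset_rfl (Set.subset_univ _)).reindex quadOne
  | succ b ih =>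
    rw [← reindex_quadCons, succ_nsmul' S (b + 1)]
    refine HasPair.reindex (quadCons (b + 1)) ((HasPair.glue 0 hA h ih fun l hl hr _ _ => hdis l hl hr).mono
      ?_ subset_rfl)
    rintro l (hl | ⟨hl, -⟩) <;> exact hl

theorem exists_admissible (hq : 4 ≤ Fintype.card F) (d : F) : ∃ β : F, β ≠ 0 ∧ β * β ≠ d ^ 2 := by
  classical
  by_contra h
  push Not at h
  have hsub : (Finset.univ : Finset F) ⊆ {0, d, -d} := fun β _ => by
    by_cases hb : β = 0
    · simp [hb]
    · have h2 : (β - d) * (β + d) = 0 := by linear_combination h β hb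
      rcases mul_eq_zero.1 h2 with e | e
      · simp [sub_eq_zero.1 e]
      · simp [eq_neg_of_add_eq_zero_left e]
  have := (Finset.card_le_card hsub).trans Finset.card_le_three
  rw [Finset.card_univ] at this
  omega

/-- Equal quadratic blocks have two pairs. -/
theorem twoPairs_quads (hq : 4 ≤ Fintype.card F) (a : Fin 2 → F) (ha : (comp a).det ≠ 0) (b : ℕ) :
    TwoPairs (Matrix.blockDiagonal fun _ : Fin (b + 1) => comp a) := by
  by_cases hs : ∃ l m : F, l ≠ m ∧ (comp a).charpoly.eval l = 0 ∧ (comp a).charpoly.eval m = 0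
  · obtain ⟨l, m, hlm, hl, hm⟩ := hs
    refine ⟨_, _, {(l, l)}, {(m, m)}, fun c h1 h2 => ?_,
      hasPair_repeat ha (hasPair_split a ha hlm hl hm) ?_ b,
      hasPair_repeat ha (hasPair_split a ha hlm.symm hm hl) ?_ b⟩
    · simp only [Set.mem_singleton_iff, Prod.mk.injEq] at h1 h2
      exact hlm (h1.1.symm.trans h2.1)
    · rintro p h1 h2; rw [Set.mem_singleton_iff] at h1 h2; exact hlm (by simpa [h1] using h2.symm)
    · rintro p h1 h2; rw [Set.mem_singleton_iff] at h1 h2; exact hlm (by simpa [h1] using h2)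
  · push Not at hs
    obtain ⟨β, hβ, hβ2⟩ := exists_admissible hq (comp a).det
    have h := hasPair_repeat ha (hasPair_quad a ha
      (fun r r' hr hr' => by_contra fun hne => hs r r' hne hr hr') hβ2 hβ) (fun l h => h.elim) b
    exact ⟨_, _, ∅, ∅, fun c h => h.elim, h, h⟩

end CfsgLib.PSLCover
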