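import Cfsg.Agent.Lib.PSLCover.SLCore
import Cfsg.Agent.Lib.PSLCover.RankOne
import Cfsg.Agent.Lib.PSLCover.Scalar

/-!
Exact classes: every block is one two-dimensional Jordan block.
-/

set_option autoImplicit false
set_option linter.unusedSectionVars false

namespace CfsgLib.PSLCover

open Matrix Polynomial

variable {F : Type*} [Field F]

/-- The upper unipotent-by-scalar block. -/
def jordanTwo (μ u : F) : Matrix (Fin 2) (Fin 2) F := !![μ, u; 0, μ]

theorem glSim_comp_jordanTwo (a : Fin 2 → F) {μ : F} (hf : (comp a).charpoly = (X - C μ) * (X - C μ)) {u : F}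
    (hu : u ≠ 0) : GLSim (comp a) (jordanTwo μ u) := by
  have e0 := congrArg (eval 0) hf
  have e1 := congrArg (eval 1) hf
  rw [charpoly_comp_two_eval] at e0 e1
  simp at e0 e1
  have ha0 : a 0 = -(μ * μ) := by linear_combination -e0
  have ha1 : a 1 = 2 * μ := by linear_combination -e1 + e0
  refine ⟨!![0, u; 1, μ], by simpa [Matrix.det_fin_two] using hu, ?_⟩
  ext i j
  fin_cases i <;> fin_cases j <;>
    simp [jordanTwo, Matrix.mul_apply, Fin.sum_univ_two, comp, Fin.ext_iff, ha0, ha1] <;> ring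

theorem glSim_blockDiagonal_two {b : ℕ} {M N : Fin b → Matrix (Fin 2) (Fin 2) F}
    (h : ∀ k, GLSim (M k) (N k)) : GLSim (Matrix.blockDiagonal M) (Matrix.blockDiagonal N) := by
  choose P hP e using h
  refine ⟨Matrix.blockDiagonal P, ?_, ?_⟩
  · rw [Matrix.det_blockDiagonal]
    exact Finset.prod_ne_zero_iff.2 fun k _ => hP k
  · rw [← Matrix.blockDiagonal_mul, ← Matrix.blockDiagonal_mul]
    exact congrArg Matrix.blockDiagonal (funext e)

/-- Scaling the entry above the diagonal by squares keeps the exact class. -/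
theorem slSim_jordanBlocks {b : ℕ} (μ : F) (r : Fin b → F) (hr : ∀ k, r k ≠ 0) :
    SLSim (Matrix.blockDiagonal fun _ : Fin b => jordanTwo μ 1)
      (Matrix.blockDiagonal fun k => jordanTwo μ (r k ^ 2)) := by
  refine ⟨Matrix.blockDiagonal fun k => !![r k, 0; 0, (r k)⁻¹], ?_, ?_⟩
  · rw [Matrix.det_blockDiagonal]
    exact Finset.prod_eq_one fun k _ => by simp [Matrix.det_fin_two, mul_inv_cancel₀ (hr k)]
  · rw [← Matrix.blockDiagonal_mul, ← Matrix.blockDiagonal_mul]
    refine congrArg Matrix.blockDiagonal (funext fun k => ?_)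
    have hk := hr k
    ext i j
    fin_cases i <;> fin_cases j <;> simp [jordanTwo, Matrix.mul_apply, Fin.sum_univ_two] <;> field_simp

/-- Five elements: four exact conjugates give a transvection. -/
theorem inPow_jordanBlocks_transvection {b : ℕ} (k0 : Fin b) {μ : F} (hμ4 : μ ^ 4 = 1) (h5 : (5 : F) = 0)
    (h2 : (2 : F) ≠ 0) :
    InPow (Matrix.blockDiagonal fun _ : Fin b => jordanTwo μ 1) 4
      (RankOne.rk (Pi.single ((0 : Fin 2), k0) (16 * μ ^ 3)) (Pi.single ((1 : Fin 2), k0) 1)) := by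
  classical
  let r : Fin 4 → Fin b → F := fun i k => if k = k0 then 2 else ![1, 2, 1, 2] i
  have hr : ∀ i k, r i k ≠ 0 := fun i k => by
    simp only [r]
    split_ifs
    · exact h2
    · fin_cases i <;> simp [h2]
  refine ⟨List.ofFn fun i => Matrix.blockDiagonal fun k => jordanTwo μ (r i k ^ 2), by simp, fun y hy => ?_, ?_⟩
  · obtain ⟨i, rfl⟩ := List.mem_ofFn.1 hy
    exact slSim_jordanBlocks μ (r i) (hr i)
  · simp only [List.ofFn_succ, List.ofFn_zero, List.prod_cons, List.prod_nil, mul_one,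
      ← Matrix.blockDiagonal_mul]
    ext ⟨i, k⟩ ⟨j, k'⟩
    simp only [Matrix.blockDiagonal_apply, RankOne.rk, Matrix.add_apply, vecMulVec_apply, Pi.single_apply,
      Matrix.one_apply, Prod.mk.injEq]
    have hμ4' : μ * μ * μ * μ = 1 := by linear_combination hμ4
    by_cases hk : k = k'
    · subst hk
      by_cases hk0 : k = k0
      · fin_cases i <;> fin_cases j <;>
          simp [jordanTwo, r, hk0, Matrix.mul_apply, Fin.sum_univ_two] <;>
          first | linear_combination hμ4' | ring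
      · fin_cases i <;> fin_cases j <;>
          simp [jordanTwo, r, hk0, Matrix.mul_apply, Fin.sum_univ_two] <;>
          first | linear_combination hμ4' | linear_combination 2 * μ ^ 3 * h5
    · by_cases hk0 : k = k0
      · subst hk0
        fin_cases i <;> fin_cases j <;> simp [hk, Ne.symm hk]
      · fin_cases i <;> fin_cases j <;> simp [hk, hk0]

variable [Fintype F]

theorem two_ne_zero_of_not_detFull {x : Matrix (Fin 2) (Fin 2) F} (h : ¬ DetFull x) : (2 : F) ≠ 0 := by
  intro h2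
  refine h (detFull_of_pow x fun δ _ => ?_)
  have hinj : Function.Injective fun c : F => c ^ 2 := fun c d e => by
    have e' : (c - d) ^ 2 = 0 := by linear_combination e + (d * d - c * d) * h2
    exact sub_eq_zero.1 (sq_eq_zero_iff.1 e')
  obtain ⟨c, hc⟩ := (Finite.injective_iff_surjective.1 hinj) δ
  exact ⟨c, by simpa using hc⟩

/-- The pair with spectrum `-μ²` twice. -/
theorem lowPair_neg (a : Fin 2 → F) {μ : F} (hμ : μ ≠ 0) (h2 : (2 : F) ≠ 0)
    (hf : (comp a).charpoly = (X - C μ) * (X - C μ)) : LowPair (comp a) (-(μ * μ) ::ₘ {-(μ * μ)}) := by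
  set w : F := -(4 * (μ * μ)) with hw
  have h4 : (4 : F) ≠ 0 := by
    rw [show (4 : F) = 2 * 2 by norm_num]; exact mul_ne_zero h2 h2
  have hw0 : w ≠ 0 := neg_ne_zero.2 (mul_ne_zero h4 (mul_ne_zero hμ hμ))
  let y2 : Matrix (Fin 2) (Fin 2) F := !![μ, 0; w, μ]
  have hy2 : GLSim (comp a) y2 := by
    refine (glSim_comp_jordanTwo a hf hw0).trans ⟨!![0, 1; 1, 0], by simp [Matrix.det_fin_two], ?_⟩
    ext i j
    fin_cases i <;> fin_cases j <;> simp [jordanTwo, y2, Matrix.mul_apply, Fin.sum_univ_two]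
  have hT : jordanTwo μ 1 * y2 = !![μ * μ + w, μ; μ * w, μ * μ] := by
    ext i j
    fin_cases i <;> fin_cases j <;> simp [jordanTwo, y2, Matrix.mul_apply, Fin.sum_univ_two]
  have hpoly : (jordanTwo μ 1 * y2).charpoly = rootsPoly (-(μ * μ) ::ₘ {-(μ * μ)}) := by
    rw [hT, Matrix.charpoly_fin_two, Matrix.trace_fin_two, Matrix.det_fin_two]
    simp [rootsPoly, hw, map_mul, map_add, map_neg, map_ofNat]
    ring
  refine ⟨jordanTwo μ 1, y2, glSim_comp_jordanTwo a hf one_ne_zero, hy2,
    ⟨splitCyclic_of_first _ hpoly 0 fun c v hv h0 => ?_, hpoly, ?_, fun _ _ => Set.mem_univ _⟩⟩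
  · rw [hT] at hv
    have e := congrFun hv 0
    simp [Matrix.mulVec, dotProduct, Fin.sum_univ_two, h0, hμ] at e
    exact funext fun i => by fin_cases i <;> assumption
  · rintro ⟨l1, l2⟩ ⟨v, hv, e1, e2⟩
    exfalso
    have a0 := congrFun e1 0
    have a1 := congrFun e1 1
    have b0 := congrFun e2 0
    have b1 := congrFun e2 1
    simp [jordanTwo, y2, Matrix.mulVec, dotProduct, Fin.sum_univ_two] at a0 a1 b0 b1
    have hv1 : v 1 = 0 := by
      rcases a1 with h | h
      · subst h
        linear_combination a0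
      · exact h
    have hv0 : v 0 = 0 := by
      rw [hv1] at b1
      simpa [hw0] using b1
    exact hv (funext fun i => by fin_cases i <;> assumption)

/-- The tail of the spectrum. -/
noncomputable def jordanSpec (μ β : F) : ℕ → Multiset F
  | 0 => β ::ₘ {(μ * μ) ^ 2 / β}
  | k + 1 => (-(μ * μ) ::ₘ {-(μ * μ)}) + jordanSpec μ β k

theorem lowPair_jordanSpec (a : Fin 2 → F) {μ : F} (hμ : μ ≠ 0) (h2 : (2 : F) ≠ 0)
    (hf : (comp a).charpoly = (X - C μ) * (X - C μ)) (hd : (comp a).det = μ * μ) (hns : OneRoot a) {β : F}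
    (hβ : β * β ≠ (μ * μ) ^ 2) (hβ0 : β ≠ 0) :
    ∀ k, LowPair (Matrix.blockDiagonal fun _ : Fin (k + 1) => comp a) (jordanSpec μ β k) := by
  intro k
  induction k with
  | zero =>
    rw [← reindex_quadOne]
    refine HasPair.reindex quadOne ?_
    have h := lowPair_quad a (by rw [hd]; exact mul_ne_zero hμ hμ) hns (b := β) (by rw [hd]; exact hβ) hβ0
    rw [hd] at h
    exact h
  | succ k ih =>
    rw [← reindex_quadCons]
    exact HasPair.reindex _ (LowPair.glue 0 (by rw [hd]; exact mul_ne_zero hμ hμ) (lowPair_neg a hμ h2 hf) ih)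

theorem count_jordanSpec [DecidableEq F] (μ β : F) {c : F} (hc : c ≠ -(μ * μ)) :
    ∀ k, (jordanSpec μ β k).count c = (β ::ₘ ({(μ * μ) ^ 2 / β} : Multiset F)).count c
  | 0 => rfl
  | k + 1 => by
    rw [jordanSpec, Multiset.count_add, count_jordanSpec μ β hc k]
    simp [hc]

/-- All blocks are one Jordan block of size two. -/
theorem jordan_cover (hq : 4 ≤ Fintype.card F) {n m : ℕ} (hn : 4 ≤ n) {x : Matrix (Fin n) (Fin n) F}
    (a : Fin 2 → F) (x2 : Matrix (Fin m) (Fin m) F) (h : GLSimE x (fromBlocks (comp a) 0 0 x2)) (hc : Chain x2)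
    (hann : aeval x2 (compPoly a) = 0) (hx : x.det = 1) (hnf : ¬ DetFull x)
    {g : Matrix (Fin n) (Fin n) F} (hg : Nonscalar g) (hgd : g.det = 1) :
    ∃ z : F, z ^ n = 1 ∧ InPow x 4 (z • g) := by
  classical
  -- every block is `comp a`
  have hd2 : x2.det ≠ 0 := by
    have e := h.det_eq
    rw [hx, Matrix.det_fromBlocks_zero₂₁] at e
    exact right_ne_zero_of_mul_eq_one e.symm
  have hann' : x2 * x2 + (-a 1) • x2 + (-a 0) • 1 = 0 := by
    rw [← hann]
    simp [compPoly, Fin.sum_univ_two, sq, Algebra.algebraMap_eq_smul_one]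
    abel
  obtain ⟨-, hno⟩ | ⟨a', b, hb, -, hs2⟩ := hc.flex_or_quads hq hd2
  · exact absurd hann' (hno _ _)
  obtain rfl : a = a' := by
    refine comp_two_unique a a' ?_
    obtain ⟨e, P, hP, eP⟩ := hs2
    set Bd := Matrix.blockDiagonal fun _ : Fin b => comp a' with hBd
    have hA : x2.reindex e e * x2.reindex e e + (-a 1) • x2.reindex e e + (-a 0) • (1 : Matrix _ _ F) = 0 := by
      have := congrArg (Matrix.reindexAlgEquiv F F e) hann'
      rw [map_add, map_add, map_mul, map_smul, map_smul, map_one, map_zero] at this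
      exact this
    have hB : Bd * Bd + (-a 1) • Bd + (-a 0) • 1 = 0 := by
      have hu : IsUnit P.det := isUnit_iff_ne_zero.2 hP
      rw [← conjBy_eq hP eP, ← conjBy_mul hP]
      have := congrArg (conjBy P) hA
      simpa [conjBy, Matrix.mul_add, Matrix.add_mul, Matrix.mul_nonsing_inv P hu] using this
    ext i j
    have := congrFun (congrFun hB (i, ⟨0, hb⟩)) (j, ⟨0, hb⟩)
    simp only [hBd, ← Matrix.blockDiagonal_mul, Matrix.add_apply, Matrix.smul_apply, Matrix.blockDiagonal_apply,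
      Matrix.one_apply, Prod.mk.injEq, and_true, if_true, smul_eq_mul, Matrix.zero_apply] at this
    simp only [Matrix.sub_apply, Matrix.smul_apply, Matrix.one_apply, smul_eq_mul, Matrix.zero_apply]
    linear_combination this
  have hs : GLSimE x (Matrix.blockDiagonal fun _ : Fin (b + 1) => comp a) := by
    refine h.trans ((GLSimE.fromBlocks_right _ hs2).trans ⟨quadCons b, ?_⟩)
    rw [reindex_quadCons]
    exact GLSim.refl _
  have hnf2 : ¬ DetFull (comp a) := fun hf => hnf ((hf.blocks_left x2).of_glSimE h)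
  have h2 := two_ne_zero_of_not_detFull hnf2
  obtain ⟨μ, hf⟩ := quad_double a hnf2
  have hns := oneRoot_of_not_detFull a hnf2
  have hd : (comp a).det = μ * μ := by
    rw [Matrix.det_eq_sign_charpoly_coeff, hf]
    simp [Polynomial.coeff_zero_eq_eval_zero]
  have hμ : μ ≠ 0 := by
    rintro rfl
    have e := h.det_eq
    rw [hx, Matrix.det_fromBlocks_zero₂₁, hd, zero_mul, zero_mul] at e
    exact one_ne_zero e
  set a0 := μ * μ with ha0
  have ha00 : a0 ≠ 0 := mul_ne_zero hμ hμ
  have hne0 : a0 ≠ -a0 := fun e => by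
    have : (2 : F) * a0 = 0 := by linear_combination e
    exact (mul_ne_zero h2 ha00) this
  have hcard : n = 2 * (b + 1) := by
    obtain ⟨e, -⟩ := hs
    simpa using Fintype.card_congr e
  obtain ⟨k, rfl⟩ : ∃ k, b = k + 1 := ⟨b - 1, by omega⟩
  -- the full classes
  have full : ∀ β : F, β * β ≠ a0 ^ 2 → β ≠ 0 →
      FullSpec x ((a0 ::ₘ {a0}) + jordanSpec μ β k) ∧ ((a0 ::ₘ {a0}) + jordanSpec μ β k).count β = 1 := by
    intro β hβ hβ0
    have h1 : FreePair (Matrix.blockDiagonal fun _ : Fin (k + 1 + 1) => comp a)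
        ((a0 ::ₘ {a0}) + jordanSpec μ β k) := by
      rw [← reindex_quadCons]
      exact (FreePair.glue 0 (by rw [hd]; exact ha00) (freePair_quad hq a hμ hf)
        (lowPair_jordanSpec a hμ h2 hf hd hns hβ hβ0 k)).reindex _
    have c1 : β ≠ a0 := fun e => hβ (by rw [e, sq])
    have c2 : β ≠ -a0 := fun e => hβ (by rw [e]; ring)
    have c3 : β ≠ a0 ^ 2 / β := fun e => hβ (by rw [eq_div_iff hβ0] at e; exact e)
    have hcount : ((a0 ::ₘ {a0}) + jordanSpec μ β k).count β = 1 := by
      rw [Multiset.count_add, count_jordanSpec μ β c2]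
      simp [c1, ← ha0, c3]
    exact ⟨(h1.of_glSimE hs).fullSpec (by omega) (by rw [hx]; exact one_ne_zero) hcount, hcount⟩
  obtain ⟨β, hβ0, hβ⟩ := exists_admissible hq a0
  obtain ⟨hfull, hcount⟩ := full β hβ hβ0
  set S := (a0 ::ₘ {a0}) + jordanSpec μ β k with hS
  by_cases h6 : 6 ≤ Fintype.card F
  · obtain ⟨β', -, hβ'⟩ := Finset.exists_mem_notMem_of_card_lt_card (t := (Finset.univ : Finset F))
      (s := {0, a0, -a0, β, a0 ^ 2 / β}) (lt_of_le_of_lt Finset.card_le_five (by rw [Finset.card_univ]; omega))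
    simp only [Finset.mem_insert, Finset.mem_singleton, not_or] at hβ'
    obtain ⟨n0, n1, n2, n3, n4⟩ := hβ'
    have hb' : β' * β' ≠ a0 ^ 2 := fun e => by
      have e' : (β' - a0) * (β' + a0) = 0 := by linear_combination e
      exact (mul_eq_zero.1 e').elim (fun h => n1 (sub_eq_zero.1 h)) fun h => n2 (eq_neg_of_add_eq_zero_left h)
    obtain ⟨hfull', hcount'⟩ := full β' hb' n0
    refine cover_of_two hq hx ⟨_, _, fun e => ?_, hfull, hfull'⟩ hg hgd
    rw [← e, Multiset.count_add, count_jordanSpec μ β n2] at hcount'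
    simp [n1, n3, ← ha0, n4] at hcount'
  -- five elements
  have h5 : Fintype.card F = 5 := by
    by_contra hne
    have h4 : Fintype.card F = 4 := by omega
    have e : ((4 : ℕ) : F) = 0 := by rw [← h4]; exact Nat.cast_card_eq_zero F
    refine h2 ?_
    have : (2 : F) ^ 2 = 0 := by push_cast at e; linear_combination e
    exact sq_eq_zero_iff.1 this
  have hμ4 : μ ^ 4 = 1 := card_five_pow h5 hμ
  have hF5 : (5 : F) = 0 := by
    have e : ((5 : ℕ) : F) = 0 := by rw [← h5]; exact Nat.cast_card_eq_zero F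
    simpa using e
  have ha2 : a0 ^ 2 = 1 := by rw [ha0]; linear_combination hμ4
  refine cover_of_fullSpec hq hx hfull hg hgd fun s u w hsuw => ?_
  by_cases hs1 : s ^ 2 = 1
  swap
  · refine ⟨1, one_pow n, Or.inl ⟨S, hfull, fun e => hs1 ?_⟩⟩
    have hge : 2 ≤ S.count (1 * s / a0) := by
      have : 2 ≤ S.count a0 := by rw [hS, Multiset.count_add]; simp
      refine this.trans ?_
      conv_rhs => rw [← e]
      exact Multiset.le_count_iff_replicate_le.2 (by
        have hr := Multiset.map_le_map (f := fun c : F => 1 * s / c) (Multiset.le_count_iff_replicate_le.1 (le_refl (S.count a0)))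
        rwa [Multiset.map_replicate] at hr)
    by_cases c1 : 1 * s / a0 = a0
    · rw [div_eq_iff ha00, one_mul] at c1
      rw [c1]; linear_combination (a0 ^ 2 + 1) * ha2
    by_cases c2 : 1 * s / a0 = -a0
    · rw [div_eq_iff ha00, one_mul] at c2
      rw [c2]; linear_combination (a0 ^ 2 + 1) * ha2
    exfalso
    rw [hS, Multiset.count_add, count_jordanSpec μ β c2] at hge
    simp only [Multiset.count_cons, Multiset.count_singleton, c1, if_false, zero_add, ← ha0] at hge
    have c3 : β ≠ a0 ^ 2 / β := fun e => hβ (by rw [eq_div_iff hβ0] at e; exact e)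
    split_ifs at hge with h1 h2' <;> first | omega | exact c3 (h2'.symm.trans h1) | exact c3 (h1.symm.trans h2')
  -- a transvection
  have hzn : s ^ n = 1 := by rw [hcard, pow_mul, hs1, one_pow]
  refine ⟨s, hzn, Or.inr ?_⟩
  have hs0 : s ≠ 0 := fun e => by rw [e, zero_pow (by omega : n ≠ 0)] at hzn; exact zero_ne_one hzn
  have hzg : s • g = RankOne.rk (s • u) w := by
    rw [hsuw, RankOne.rk, smul_add, smul_smul, ← sq, hs1, one_smul, Matrix.smul_vecMulVec]
  have hu : u ≠ 0 := fun e => hg s (by rw [hsuw, e, zero_vecMulVec, add_zero])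
  have hw : w ≠ 0 := fun e => hg s (by rw [hsuw, e, vecMulVec_zero, add_zero])
  have hdot : w ⬝ᵥ (s • u) = 0 := by
    have e := congrArg Matrix.det hzg
    rw [det_smul, hgd, mul_one, Fintype.card_fin, hzn, RankOne.det_rk] at e
    exact left_eq_add.1 e
  obtain ⟨e, he⟩ := hs
  have hJ : GLSim (Matrix.blockDiagonal fun _ : Fin (k + 1 + 1) => jordanTwo μ 1) (x.reindex e e) :=
    ((he.trans (glSim_blockDiagonal_two fun _ => glSim_comp_jordanTwo a hf one_ne_zero))).symm
  obtain ⟨Q, hQ, eQ⟩ := hJ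
  have h16 : (16 : F) * μ ^ 3 ≠ 0 := mul_ne_zero
    (by rw [show (16 : F) = 2 ^ 4 by norm_num]; exact pow_ne_zero _ h2) (pow_ne_zero _ hμ)
  set a1 : Fin 2 × Fin (k + 1 + 1) → F := Pi.single ((0 : Fin 2), 0) (16 * μ ^ 3)
  set ψ1 : Fin 2 × Fin (k + 1 + 1) → F := Pi.single ((1 : Fin 2), 0) 1
  have hin := ((inPow_jordanBlocks_transvection (0 : Fin (k + 1 + 1)) hμ4 hF5 h2).conjBy hQ).reindex e.symm
  rw [conjBy_eq hQ eQ] at hin
  simp only [Matrix.reindex_apply, Matrix.submatrix_submatrix, Equiv.symm_symm, Equiv.symm_comp_self,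
    Matrix.submatrix_id_id] at hin
  have h3 : 3 ≤ Fintype.card (Fin n) := by rw [Fintype.card_fin]; omega
  have hcls : RankOne.Cls (1 : F) (RankOne.rk (a1 ∘ e) (ψ1 ∘ e)) := by
    refine ⟨a1 ∘ e, ψ1 ∘ e, ?_, ?_, ?_, rfl⟩
    · exact comp_equiv_ne_zero e (by simp [a1, funext_iff, Pi.single_apply, h16])
    · exact comp_equiv_ne_zero e (by simp [ψ1, funext_iff, Pi.single_apply])
    · rw [sub_self, dotProduct_comm, comp_equiv_dotProduct_comp_equiv]
      simp [a1, ψ1]
  have hsim : GLSim (RankOne.rk (a1 ∘ e) (ψ1 ∘ e)) ((conjBy Q (RankOne.rk a1 ψ1)).submatrix e e) := by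
    have h := (glSim_conjBy hQ (RankOne.rk a1 ψ1)).reindex e.symm
    simp only [Matrix.reindex_apply, Equiv.symm_symm] at h
    convert h using 1
    ext i j
    simp [RankOne.rk, Matrix.one_apply, vecMulVec_apply]
  refine hin.of_slSim (GLSim.slSim ?_ ((RankOne.detFull_rk h3).of_glSim hsim))
  rw [hzg]
  exact hsim.symm.trans (RankOne.glSim_cls hcls
    ⟨_, w, smul_ne_zero hs0 hu, hw, by rw [hdot, sub_self], rfl⟩)

end CfsgLib.PSLCover
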