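import Cfsg.Agent.Lib.PSLCover.SLCore

/-!
Exact classes when the head block has an eigenvalue in the field.
-/

set_option autoImplicit false
set_option linter.unusedSectionVars false

namespace CfsgLib.PSLCover

open Matrix Polynomial

variable {F : Type*} [Field F] {ι κ : Type*} [Fintype ι] [DecidableEq ι] [Fintype κ] [DecidableEq κ]

/-- A coupling making the product split cyclic. -/
theorem exists_coupling {TB : Matrix κ κ F} {SB : Multiset F} (hc : SplitCyclic TB)
    (hp : TB.charpoly = rootsPoly SB) (s : F) :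
    ∃ Z0 : Matrix Unit κ F, SplitCyclic (fromBlocks (s • (1 : Matrix Unit Unit F)) Z0 0 TB) ∧
      (fromBlocks (s • (1 : Matrix Unit Unit F)) Z0 0 TB).charpoly = rootsPoly (s ::ₘ SB) := by
  classical
  obtain ⟨Z0, hZ0⟩ : ∃ Z0 : Matrix Unit κ F, ∀ w, TB *ᵥ w = s • w → Z0 *ᵥ w = 0 → w = 0 := by
    by_cases hs : s ∈ SB
    · obtain ⟨u, hu0, hu⟩ := (exists_eigen hp hs).1
      obtain ⟨j0, hj0⟩ := Function.ne_iff.1 hu0
      refine ⟨Matrix.of fun _ j => if j = j0 then 1 else 0, fun w hw hz => ?_⟩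
      obtain ⟨t, rfl⟩ := hc.2 s u w hu hw hu0
      have h1 := congrFun hz ()
      simp [Matrix.mulVec, dotProduct] at h1
      rcases h1 with h1 | h1
      · rw [h1, zero_smul]
      · exact absurd h1 hj0
    · exact ⟨0, fun w hw _ => by_contra fun h => hs (mem_of_eigen hp h hw)⟩
  have hpoly : (fromBlocks (s • (1 : Matrix Unit Unit F)) Z0 0 TB).charpoly = rootsPoly (s ::ₘ SB) := by
    rw [Matrix.charpoly_fromBlocks_zero₂₁, hp, Matrix.smul_one_eq_diagonal, Matrix.charpoly_diagonal]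
    simp [rootsPoly]
  refine ⟨Z0, ⟨⟨_, hpoly⟩, fun c u v hu hv hu0 => ?_⟩, hpoly⟩
  have low : ∀ z : Unit ⊕ κ → F, fromBlocks (s • (1 : Matrix Unit Unit F)) Z0 0 TB *ᵥ z = c • z →
      s * z (Sum.inl ()) + (Z0 *ᵥ (z ∘ Sum.inr)) () = c * z (Sum.inl ()) ∧
        TB *ᵥ (z ∘ Sum.inr) = c • (z ∘ Sum.inr) := by
    intro z hz
    rw [Matrix.fromBlocks_mulVec] at hz
    exact ⟨by simpa [Matrix.smul_mulVec] using congrFun hz (Sum.inl ()),
      funext fun i => by simpa using congrFun hz (Sum.inr i)⟩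
  obtain ⟨u1, u2⟩ := low u hu
  obtain ⟨v1, v2⟩ := low v hv
  by_cases hcs : c = s
  · subst hcs
    have hz : ∀ z : Unit ⊕ κ → F, c * z (Sum.inl ()) + (Z0 *ᵥ (z ∘ Sum.inr)) () = c * z (Sum.inl ()) →
        TB *ᵥ (z ∘ Sum.inr) = c • (z ∘ Sum.inr) → ∀ i, z (Sum.inr i) = 0 := fun z h1 h2 i =>
      congrFun (hZ0 _ h2 (funext fun _ => by simpa using h1)) i
    have hu' := hz u u1 u2
    have hv' := hz v v1 v2
    have hul : u (Sum.inl ()) ≠ 0 := fun h => hu0 (funext fun i => by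
      rcases i with i | i
      · exact h
      · exact hu' i)
    refine ⟨v (Sum.inl ()) / u (Sum.inl ()), funext fun i => ?_⟩
    rcases i with i | i
    · simp [div_mul_cancel₀ _ hul]
    · simp [hu' i, hv' i]
  · have huw : u ∘ Sum.inr ≠ 0 := fun h => hu0 (funext fun i => by
      rw [h, Matrix.mulVec_zero, Pi.zero_apply, add_zero] at u1
      rcases i with i | i
      · exact by_contra fun hne => hcs (mul_right_cancel₀ hne u1).symm
      · exact congrFun h i)
    obtain ⟨t, ht⟩ := hc.2 c _ _ u2 v2 huw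
    refine ⟨t, funext fun i => ?_⟩
    rcases i with i | i
    · rw [ht, Matrix.mulVec_smul, Pi.smul_apply, smul_eq_mul] at v1
      refine mul_left_cancel₀ (sub_ne_zero.2 (Ne.symm hcs)) ?_
      simp only [Pi.smul_apply, smul_eq_mul]
      linear_combination v1 - t * u1
    · exact congrFun ht i

/-- (1) The top eigenvalue frees both determinants: the whole class. -/
theorem fullSpec_of_root [Fintype F] {n : ℕ} {x : Matrix (Fin n) (Fin n) F} (hxd : x.det ≠ 0) {μ : F}
    {X0 : Matrix Unit κ F} {B : Matrix κ κ F}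
    (hs : GLSimE x (fromBlocks (μ • (1 : Matrix Unit Unit F)) X0 0 B)) {SB : Multiset F} (hB : LowPair B SB) :
    FullSpec x (μ * μ ::ₘ SB) := by
  classical
  obtain ⟨B1, B2, ⟨PB1, hB1, eB1⟩, ⟨PB2, hB2, eB2⟩, hP⟩ := hB
  obtain ⟨e, Q0, hQ0, eQ0⟩ := hs
  set x' := fromBlocks (μ • (1 : Matrix Unit Unit F)) X0 0 B with hx'
  have hdetx : x.det = μ * B.det := by
    rw [← Matrix.det_reindex_self e x, GLSim.det_eq (x := x.reindex e e) (y := x') ⟨Q0, hQ0, eQ0⟩, hx',
      Matrix.det_fromBlocks_zero₂₁]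
    simp
  have hμ : μ ≠ 0 := fun h => hxd (by rw [hdetx, h, zero_mul])
  set M1 := (B1 - μ • 1) * B2 with hM1
  set M2 := μ • (B2 - μ • 1) with hM2
  obtain ⟨G1, G2, hG⟩ : ∃ G1 G2 : Matrix κ κ F, G1 * M1 + G2 * M2 = 1 := by
    obtain ⟨G, hG⟩ := (M1.mulVecLin.prod M2.mulVecLin).exists_leftInverse_of_injective (by
      rw [LinearMap.ker_eq_bot']
      intro v hv
      rw [LinearMap.prod_apply, Function.prod_apply, Prod.mk_eq_zero, Matrix.mulVecLin_apply,
        Matrix.mulVecLin_apply] at hv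
      obtain ⟨h1, h2⟩ := hv
      rw [hM2, Matrix.smul_mulVec, smul_eq_zero, Matrix.sub_mulVec, sub_eq_zero, Matrix.smul_mulVec,
        Matrix.one_mulVec] at h2
      have h2' := h2.resolve_left hμ
      rw [hM1, ← Matrix.mulVec_mulVec, h2', Matrix.mulVec_smul, smul_eq_zero, Matrix.sub_mulVec, sub_eq_zero,
        Matrix.smul_mulVec, Matrix.one_mulVec] at h1
      by_contra hv0
      exact (hP.right (μ, μ) ⟨v, hv0, h1.resolve_left hμ, h2'⟩).elim)
    refine ⟨LinearMap.toMatrix' (G.comp (LinearMap.inl F _ _)), LinearMap.toMatrix' (G.comp (LinearMap.inr F _ _)),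
      Matrix.ext_of_mulVec_single fun i => ?_⟩
    have := LinearMap.congr_fun hG (Pi.single i 1)
    simp only [LinearMap.comp_apply, LinearMap.prod_apply, Function.prod_apply, Matrix.mulVecLin_apply,
      LinearMap.id_apply] at this
    simp only [Matrix.add_mulVec, ← Matrix.mulVec_mulVec, LinearMap.toMatrix'_mulVec, LinearMap.comp_apply,
      ← map_add, Matrix.one_mulVec]
    simpa using this
  obtain ⟨Z0, hT0, hT0p⟩ := exists_coupling hP.cyc hP.poly (μ * μ)
  set T0 := fromBlocks ((μ * μ) • (1 : Matrix Unit Unit F)) Z0 0 (B1 * B2) with hT0def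
  have key : ∀ d1 d2 : F, d1 ≠ 0 → d2 ≠ 0 → ∃ y1 y2 P1 P2 : Matrix (Unit ⊕ κ) (Unit ⊕ κ) F,
      P1.det = d1 ∧ P1 * x' = y1 * P1 ∧ P2.det = d2 ∧ P2 * x' = y2 * P2 ∧ y1 * y2 = T0 := by
    intro d1 d2 _ _
    set c1 := d1 / PB1.det with hc1
    set c2 := d2 / PB2.det with hc2
    set R := Z0 - (μ • ((c2 • X0) * PB2⁻¹) + ((c1 • X0) * PB1⁻¹) * B2) with hR
    set Y1 := R * G1 with hY1
    set Y2 := R * G2 with hY2
    refine ⟨fromBlocks (μ • 1) ((c1 • X0) * PB1⁻¹ + Y1 * (B1 - μ • 1)) 0 B1,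
      fromBlocks (μ • 1) ((c2 • X0) * PB2⁻¹ + Y2 * (B2 - μ • 1)) 0 B2,
      fromBlocks (c1 • 1) (Y1 * PB1) 0 PB1, fromBlocks (c2 • 1) (Y2 * PB2) 0 PB2, ?_, ?_, ?_, ?_, ?_⟩
    · simp [Matrix.det_fromBlocks_zero₂₁, hc1, div_mul_cancel₀ _ hB1]
    · rw [hx', Matrix.fromBlocks_multiply, Matrix.fromBlocks_multiply]
      simp only [Matrix.mul_zero, Matrix.zero_mul, smul_zero, add_zero, zero_add, Matrix.smul_mul, Matrix.mul_smul,
        Matrix.one_mul, Matrix.mul_one, Matrix.add_mul, Matrix.mul_assoc, eB1, smul_smul, Matrix.sub_mul,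
        Matrix.mul_sub, Matrix.nonsing_inv_mul PB1 (isUnit_iff_ne_zero.2 hB1), mul_comm μ c1]
      congr 1
      abel
    · simp [Matrix.det_fromBlocks_zero₂₁, hc2, div_mul_cancel₀ _ hB2]
    · rw [hx', Matrix.fromBlocks_multiply, Matrix.fromBlocks_multiply]
      simp only [Matrix.mul_zero, Matrix.zero_mul, smul_zero, add_zero, zero_add, Matrix.smul_mul, Matrix.mul_smul,
        Matrix.one_mul, Matrix.mul_one, Matrix.add_mul, Matrix.mul_assoc, eB2, smul_smul, Matrix.sub_mul,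
        Matrix.mul_sub, Matrix.nonsing_inv_mul PB2 (isUnit_iff_ne_zero.2 hB2), mul_comm μ c2]
      congr 1
      abel
    · rw [hT0def, Matrix.fromBlocks_multiply]
      simp only [Matrix.mul_zero, Matrix.zero_mul, add_zero, zero_add, Matrix.smul_mul, Matrix.one_mul,
        smul_smul]
      congr 1
      have h1 : Y1 * M1 + Y2 * M2 = R := by
        rw [hY1, hY2, Matrix.mul_assoc, Matrix.mul_assoc, ← Matrix.mul_add, hG, Matrix.mul_one]
      rw [hM1, hM2, Matrix.mul_smul, ← Matrix.mul_assoc, hR] at h1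
      rw [Matrix.add_mul, smul_add]
      simp only [Matrix.smul_mul, Matrix.mul_smul, Matrix.mul_assoc] at h1 ⊢
      linear_combination (norm := abel) h1
  set T0' := T0.reindex e.symm e.symm with hT0'
  have hcy : SplitCyclic T0' := hT0.reindexE e.symm
  have hpo : T0'.charpoly = rootsPoly (μ * μ ::ₘ SB) := by rw [hT0', Matrix.charpoly_reindex, hT0p]
  have hd0 : T0'.det = x.det ^ 2 := by
    rw [hT0', Matrix.det_reindex_self, hT0def, Matrix.det_fromBlocks_zero₂₁, det_mul, hdetx,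
      ← GLSim.det_eq (x := B) (y := B1) ⟨PB1, hB1, eB1⟩, ← GLSim.det_eq (x := B) (y := B2) ⟨PB2, hB2, eB2⟩]
    simp
    ring
  refine ⟨card_of_charpoly hpo, (det_of_charpoly hpo).symm.trans hd0, fun T T' hT hTp hTT => ?_⟩
  obtain ⟨Q, hQ, eQ⟩ := (glSim_of_splitCyclic hcy hT (by rw [hd0]; exact pow_ne_zero _ hxd)
    (hpo.trans hTp.symm)).trans hTT
  have hne : Q.det * Q0.det ≠ 0 := mul_ne_zero hQ hQ0
  obtain ⟨y1, y2, P1, P2, h1, e1, h2, e2, hy⟩ :=
    key (Q.det * Q0.det)⁻¹ (Q.det * Q0.det)⁻¹ (inv_ne_zero hne) (inv_ne_zero hne)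
  have sl : ∀ {y P : Matrix (Unit ⊕ κ) (Unit ⊕ κ) F}, P.det = (Q.det * Q0.det)⁻¹ → P * x' = y * P →
      SLSim x (conjBy Q (y.reindex e.symm e.symm)) := by
    intro y P hP hPe
    refine ⟨Q * (P * Q0).reindex e.symm e.symm, ?_, ?_⟩
    · rw [det_mul, Matrix.det_reindex_self, det_mul, hP, ← mul_assoc, mul_comm Q.det, mul_assoc,
        inv_mul_cancel₀ hne]
    · have hx : x = (x.reindex e e).reindex e.symm e.symm := by simp
      conv_lhs => rw [hx, Matrix.mul_assoc, ← reindex_mul', Matrix.mul_assoc, eQ0, ← Matrix.mul_assoc, hPe,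
        Matrix.mul_assoc, reindex_mul', ← Matrix.mul_assoc]
      rw [conjBy, Matrix.mul_assoc (Q * _), ← Matrix.mul_assoc Q⁻¹, Matrix.nonsing_inv_mul Q (isUnit_iff_ne_zero.2 hQ),
        Matrix.one_mul]
  refine ⟨[conjBy Q (y1.reindex e.symm e.symm), conjBy Q (y2.reindex e.symm e.symm)], rfl, fun y hy => ?_, ?_⟩
  · simp only [List.mem_cons, List.not_mem_nil, or_false] at hy
    rcases hy with rfl | rfl
    · exact sl h1 e1
    · exact sl h2 e2
  · rw [List.prod_cons, List.prod_cons, List.prod_nil, Matrix.mul_one, ← conjBy_mul hQ, ← reindex_mul', hy]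
    exact conjBy_eq hQ eQ

/-- A block diagonal sum of two low pairs, two spectra if one summand has two. -/
theorem low_sum [Fintype F] {A : Matrix ι ι F} {D : Matrix κ κ F} (hA0 : A.det ≠ 0)
    (hA : ∃ S, LowPair A S) (hD : ∃ S, LowPair D S) :
    (∃ S, LowPair (fromBlocks A 0 0 D) S) ∧
      (TwoSpec (LowPair A) ∨ TwoSpec (LowPair D) → TwoSpec (LowPair (fromBlocks A 0 0 D))) := by
  obtain ⟨SA, hA'⟩ := hA
  obtain ⟨SD, hD'⟩ := hD
  refine ⟨⟨_, hA'.glue 0 hA0 hD'⟩, ?_⟩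
  rintro (h | h)
  · exact h.map (f := fun S => S + SD) (add_left_injective SD) fun S hS => hS.glue 0 hA0 hD'
  · exact h.map (f := fun S => SA + S) (add_right_injective SA) fun S hS => hA'.glue 0 hA0 hS

/-- Low pairs of a chain missing determinants. -/
theorem Chain.lowPairs [Fintype F] (hq : 4 ≤ Fintype.card F) {m : ℕ} {x2 : Matrix (Fin m) (Fin m) F}
    (h : Chain x2) (hd : x2.det ≠ 0) (hnf : ¬ DetFull x2) :
    (∃ S, LowPair x2 S) ∧ (TwoSpec (LowPair x2) ∨ Fintype.card F = 5) := by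
  have comp_case : ∀ {d : ℕ} (a : Fin (d + 1) → F), 2 ≤ d + 1 → (comp a).det ≠ 0 → ¬ DetFull (comp a) →
      (∃ S, LowPair (comp a) S) ∧ (TwoSpec (LowPair (comp a)) ∨ Fintype.card F = 5) := by
    intro d a h2 ha hf
    obtain ⟨h1, h2'⟩ := low_comp hq (d := d) (by omega) a ha (fun r r' hd1 hr hr' => by
      subst hd1; exact oneRoot_of_not_detFull a hf r r' hr hr')
    refine ⟨h1, h2'.imp_right fun ⟨h6, hd1⟩ => ?_⟩
    subst hd1
    by_contra h5
    exact hf (detFull_two_of_card_four (by omega) a)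
  have trans_low : ∀ {ν : Type} [Fintype ν] [DecidableEq ν] {y : Matrix ν ν F} {m : ℕ}
      {x : Matrix (Fin m) (Fin m) F}, GLSimE x y →
      (∃ S, LowPair y S) ∧ (TwoSpec (LowPair y) ∨ Fintype.card F = 5) →
      (∃ S, LowPair x S) ∧ (TwoSpec (LowPair x) ∨ Fintype.card F = 5) := fun hs h =>
    ⟨h.1.imp fun _ hS => HasPair.of_glSimE hS hs,
      h.2.imp_left fun h2 => h2.map (f := id) Function.injective_id fun _ hS => HasPair.of_glSimE hS hs⟩
  induction h with
  | @one n d x a hd' hs =>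
    exact trans_low hs (comp_case a hd' (hs.det_eq ▸ hd) fun hf => hnf (hf.of_glSimE hs))
  | @cons n d m x a hd' x3 hs hc hann ih =>
    rw [hs.det_eq, Matrix.det_fromBlocks_zero₂₁, mul_ne_zero_iff] at hd
    obtain ⟨hA, hA2⟩ := comp_case a hd' hd.1 fun hf => hnf ((hf.blocks_left x3).of_glSimE hs)
    obtain ⟨hD, hD2⟩ := ih hd.2 fun hf => hnf ((hf.blocks_right (comp a)).of_glSimE hs)
    obtain ⟨h1, h2⟩ := low_sum hd.1 hA hD
    refine trans_low hs ⟨h1, ?_⟩
    rcases hA2 with hA2 | h5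
    · exact Or.inl (h2 (Or.inl hA2))
    · exact Or.inr h5

theorem glSimE_root_assoc {ν : Type*} [Fintype ν] [DecidableEq ν] (μ : F) (X0 : Matrix Unit κ F)
    (C : Matrix κ κ F) (D : Matrix ν ν F) :
    GLSimE (fromBlocks (fromBlocks (μ • (1 : Matrix Unit Unit F)) X0 0 C) 0 0 D)
      (fromBlocks (μ • (1 : Matrix Unit Unit F)) (Matrix.of fun i => Sum.elim (X0 i) 0) 0
        (fromBlocks C 0 0 D)) := by
  refine ⟨Equiv.sumAssoc Unit κ ν, ?_⟩
  have : (fromBlocks (fromBlocks (μ • (1 : Matrix Unit Unit F)) X0 0 C) 0 0 D).reindex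
      (Equiv.sumAssoc Unit κ ν) (Equiv.sumAssoc Unit κ ν) =
      fromBlocks (μ • (1 : Matrix Unit Unit F)) (Matrix.of fun i => Sum.elim (X0 i) 0) 0
        (fromBlocks C 0 0 D) := by
    ext (i | i | i) (j | j | j) <;> simp
  rw [this]
  exact GLSim.refl _

theorem glSimE_blocks_left {ν : Type*} [Fintype ν] [DecidableEq ν] {A : Matrix ι ι F} {A' : Matrix κ κ F}
    (h : GLSimE A A') (D : Matrix ν ν F) : GLSimE (fromBlocks A 0 0 D) (fromBlocks A' 0 0 D) :=
  (glSimE_sumComm A D).trans ((GLSimE.fromBlocks_right D h).trans (glSimE_sumComm D A'))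

/-- (2) A head block of size at least three with an eigenvalue. -/
theorem root_cover [Fintype F] (hq : 4 ≤ Fintype.card F) {n d : ℕ} (hn : 4 ≤ n)
    {x : Matrix (Fin n) (Fin n) F} (a : Fin (d + 3) → F)
    (htail : GLSimE x (comp a) ∨ ∃ (m : ℕ) (x2 : Matrix (Fin m) (Fin m) F),
      GLSimE x (fromBlocks (comp a) 0 0 x2) ∧ Chain x2)
    {μ : F} (hμ : (comp a).charpoly.IsRoot μ) (hx : x.det = 1) (hnf : ¬ DetFull x)
    {g : Matrix (Fin n) (Fin n) F} (hg : Nonscalar g) (hgd : g.det = 1) :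
    ∃ z : F, z ^ n = 1 ∧ InPow x 4 (z • g) := by
  obtain ⟨h, hf⟩ := dvd_iff_isRoot.2 hμ
  obtain ⟨ah, X0, hah, hsplit⟩ := exists_split_root (d := d + 1) a hf
  have hxd : x.det ≠ 0 := by rw [hx]; exact one_ne_zero
  have hda : (comp a).det = μ * (comp ah).det := by
    rw [hsplit.det_eq, Matrix.det_fromBlocks_zero₂₁]; simp
  rcases htail with hs | ⟨m, x2, hs, hc⟩
  · have hd1 : 2 ≤ d + 1 := by
      obtain ⟨e, -⟩ := hs
      have := Fintype.card_congr e
      simp at this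
      omega
    have hs' := hs.trans hsplit
    have hah0 : (comp ah).det ≠ 0 := fun e => hxd (by rw [hs.det_eq, hda, e, mul_zero])
    exact cover_of_two hq hx ((lowTwo_block hq hd1 ah hah0).map (f := fun S => μ * μ ::ₘ S)
      (fun S S' e => (Multiset.cons_inj_right _).1 e) fun S hS => fullSpec_of_root hxd hs' hS) hg hgd
  have hdd : (comp a).det ≠ 0 ∧ x2.det ≠ 0 := by
    rw [hs.det_eq, Matrix.det_fromBlocks_zero₂₁] at hxd
    exact mul_ne_zero_iff.1 hxd
  have hah0 : (comp ah).det ≠ 0 := fun e => hdd.1 (by rw [hda, e, mul_zero])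
  have hnfa : ¬ DetFull (comp a) := fun hfull => hnf ((hfull.blocks_left x2).of_glSimE hs)
  have hroot : h.IsRoot μ := by_contra fun hr => hnfa (detFull_comp_simple_root (d := d + 1) a hf hr)
  have hone : ∀ r, d + 1 = 1 → (comp ah).charpoly.eval r = 0 → r = μ := by
    intro r hd1 hr
    by_contra hne
    rw [hah] at hr
    obtain ⟨k, hk⟩ := dvd_iff_isRoot.2 hroot
    have hmon : h.Monic := hah ▸ Matrix.charpoly_monic _
    have hkm : k.Monic := (monic_X_sub_C μ).of_mul_monic_left (hk ▸ hmon)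
    have hkd : k.natDegree = 1 := by
      have h1 := congrArg natDegree hah
      rw [Matrix.charpoly_natDegree_eq_dim, Fintype.card_fin, hk, (monic_X_sub_C μ).natDegree_mul hkm,
        natDegree_X_sub_C] at h1
      omega
    have hkr : k.IsRoot r := by
      rw [hk, eval_mul, eval_sub, eval_X, eval_C, mul_eq_zero] at hr
      exact hr.resolve_left (sub_ne_zero.2 hne)
    refine hnfa (detFull_comp_simple_root (d := d + 1) a (μ := r) (h := (X - C μ) * (X - C μ)) ?_ ?_)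
    · rw [hf, hk, eq_X_sub_C_of_root hkm hkd hkr]
      ring
    · simp [sub_eq_zero, hne]
  obtain ⟨hC, hC2⟩ := low_comp hq (d := d + 1) (by omega) ah hah0
    (fun r r' h1 hr hr' => (hone r h1 hr).trans (hone r' h1 hr').symm)
  obtain ⟨hD, hD2⟩ := hc.lowPairs hq hdd.2 fun hfull => hnf ((hfull.blocks_right (comp a)).of_glSimE hs)
  obtain ⟨-, h2⟩ := low_sum hah0 hC hD
  have hs' := (hs.trans (glSimE_blocks_left hsplit x2)).trans (glSimE_root_assoc μ X0 (comp ah) x2)
  have hTwo : TwoSpec (LowPair (fromBlocks (comp ah) 0 0 x2)) := by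
    rcases hC2 with hC2 | ⟨-, hd0⟩
    · exact h2 (Or.inl hC2)
    rcases hD2 with hD2 | h5
    · exact h2 (Or.inr hD2)
    obtain rfl : d = 0 := by omega
    refine absurd (detFull_of_pow (comp a) fun δ hδ => ⟨δ ^ 3, ?_⟩) hnfa
    have h4 := card_five_pow h5 hδ
    rw [Fintype.card_fin, ← pow_mul]
    linear_combination (δ ^ 5 + δ) * h4
  exact cover_of_two hq hx (hTwo.map (f := fun S => μ * μ ::ₘ S)
    (fun S S' e => (Multiset.cons_inj_right _).1 e) fun S hS => fullSpec_of_root hxd hs' hS) hg hgd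

end CfsgLib.PSLCover
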