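import Cfsg.Agent.Lib.PSLCover.SLRootless
import Cfsg.Agent.Lib.PSLCover.SLJordan
import Cfsg.Agent.Lib.PSLCover.SLRoot
import Cfsg.Agent.Lib.PSLCover.Main

/-!
Every chain without all determinants in the centralizer: four conjugates up to scalars (S2483).
-/

set_option autoImplicit false
set_option linter.unusedSectionVars false

namespace CfsgLib.PSLCover

open Matrix Polynomial

universe u
variable {F : Type u} [Field F] [Fintype F]

theorem isRoot_of_aeval_eq_zero {ι : Type*} [Fintype ι] [DecidableEq ι] {x : Matrix ι ι F} {f : F[X]}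
    (h : aeval x f = 0) {r : F} (hr : x.charpoly.IsRoot r) : f.IsRoot r := by
  have hd : (x - r • 1).det = 0 := by
    rw [Polynomial.IsRoot, Matrix.eval_charpoly, show Matrix.scalar ι r - x = -(x - r • 1) by
      rw [neg_sub, scalar_apply, smul_one_eq_diagonal], Matrix.det_neg] at hr
    exact (mul_eq_zero.1 hr).resolve_left (pow_ne_zero _ (neg_ne_zero.2 one_ne_zero))
  obtain ⟨q, hq⟩ := X_sub_C_dvd_sub_C_eval (p := f) (a := r)
  have e := congrArg (fun p : F[X] => (aeval x p).det) hq
  simp only [map_sub, map_mul, aeval_X, aeval_C, h, zero_sub, Algebra.algebraMap_eq_smul_one, det_mul, hd,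
    zero_mul, ← neg_smul, det_smul, det_one, mul_one] at e
  have := (pow_eq_zero_iff'.1 e).1
  simpa using this

/-- Chains without all determinants in the centralizer cover in four factors, up to scalars. -/
theorem slClass_cover
    (hq : 4 ≤ Fintype.card F) : SlClassCover F := by
  intro n hn x hc hx hnf g hg hgd
  cases hc with
  | @one _ d _ a hd h =>
    have hcard : n = d + 1 := by simpa using Fintype.card_congr h.choose
    obtain ⟨k, rfl⟩ : ∃ k, d = k + 2 := ⟨d - 2, by omega⟩
    by_cases hr : Rootless x
    · exact rootless_cover hq a (Or.inl h) hr hx hnf hg hgd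
    · simp only [Rootless, not_forall, not_not] at hr
      obtain ⟨r, hr⟩ := hr
      have hra : (comp a).charpoly.IsRoot r := by
        obtain ⟨e, he⟩ := h
        rwa [← charpoly_eq_of_glSim he, Matrix.charpoly_reindex]
      exact root_cover hq hn a (Or.inl h) hra hx hnf hg hgd
  | @cons _ d m _ a hd x2 h hc2 hann =>
    rcases eq_or_lt_of_le hd with hd1 | hd2
    · obtain rfl : d = 1 := by omega
      exact jordan_cover hq hn a x2 h hc2 hann hx hnf hg hgd
    · obtain ⟨k, rfl⟩ : ∃ k, d = k + 2 := ⟨d - 2, by omega⟩
      by_cases hr : Rootless x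
      · exact rootless_cover hq a (Or.inr ⟨m, x2, h, hc2⟩) hr hx hnf hg hgd
      · simp only [Rootless, not_forall, not_not] at hr
        obtain ⟨r, hr⟩ := hr
        refine root_cover hq hn a (Or.inr ⟨m, x2, h, hc2⟩) (μ := r) ?_ hx hnf hg hgd
        obtain ⟨e, he⟩ := h
        rw [← Matrix.charpoly_reindex e, charpoly_eq_of_glSim he, Matrix.charpoly_fromBlocks_zero₂₁,
          Polynomial.root_mul] at hr
        rcases hr with hr | hr
        · exact hr
        · rw [charpoly_comp']
          exact isRoot_of_aeval_eq_zero hann hr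

end CfsgLib.PSLCover
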