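import Cfsg.Agent.Lib.PSLCover.DetFullLemmas
import Cfsg.Agent.Lib.PSLCover.ChainStep
import Cfsg.Agent.Lib.PSLCover.QuadPairs
import Cfsg.Agent.Lib.PSLCover.Four
import Cfsg.Agent.Lib.PSLCover.ShapeLemmas

/-!
Exact conjugacy classes when the centralizer misses determinants: the pair of a block triangular matrix whose top
block has all determinants (or is a two-dimensional Jordan block) carries arbitrary conjugator determinants.
-/

set_option autoImplicit false
set_option linter.unusedSectionVars false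

namespace CfsgLib.PSLCover

open Matrix Polynomial

variable {F : Type*} [Field F] {ι κ : Type*} [Fintype ι] [DecidableEq ι] [Fintype κ] [DecidableEq κ]

/-- A pair with the same product spectrum for all determinants of the two conjugators. -/
def FreePair (x : Matrix ι ι F) (S : Multiset F) : Prop :=
  ∀ d1 d2 : F, d1 ≠ 0 → d2 ≠ 0 → ∃ y1 y2 P1 P2 : Matrix ι ι F,
    P1.det = d1 ∧ P1 * x = y1 * P1 ∧ P2.det = d2 ∧ P2 * x = y2 * P2 ∧ IsPair y1 y2 S Set.univ Set.univ

/-- A pair without common right eigenvectors. -/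
def LowPair (x : Matrix ι ι F) (S : Multiset F) : Prop := HasPair x S ∅ Set.univ

/-- Two different spectra. -/
def TwoSpec (P : Multiset F → Prop) : Prop := ∃ S S', S ≠ S' ∧ P S ∧ P S'

theorem TwoSpec.exists {P : Multiset F → Prop} (h : TwoSpec P) : ∃ S, P S := by
  obtain ⟨S, -, -, h, -⟩ := h
  exact ⟨S, h⟩

theorem TwoSpec.map {P Q : Multiset F → Prop} {f : Multiset F → Multiset F} (hf : Function.Injective f)
    (h : TwoSpec P) (hPQ : ∀ S, P S → Q (f S)) : TwoSpec Q := by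
  obtain ⟨S, S', hne, h1, h2⟩ := h
  exact ⟨_, _, fun e => hne (hf e), hPQ S h1, hPQ S' h2⟩

theorem FreePair.of_detFull {x : Matrix ι ι F} (hx : DetFull x) {S : Multiset F} {R L : Set (F × F)}
    (h : HasPair x S R L) : FreePair x S := by
  obtain ⟨y1, y2, ⟨Q1, hQ1, e1⟩, ⟨Q2, hQ2, e2⟩, hp⟩ := h
  intro d1 d2 hd1 hd2
  obtain ⟨C1, hC1, c1⟩ := hx (d1 / Q1.det) (div_ne_zero hd1 hQ1)
  obtain ⟨C2, hC2, c2⟩ := hx (d2 / Q2.det) (div_ne_zero hd2 hQ2)
  refine ⟨y1, y2, Q1 * C1, Q2 * C2, ?_, ?_, ?_, ?_,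
    ⟨hp.cyc, hp.poly, fun _ _ => Set.mem_univ _, fun _ _ => Set.mem_univ _⟩⟩
  · rw [det_mul, hC1, mul_div_cancel₀ _ hQ1]
  · rw [Matrix.mul_assoc, c1, ← Matrix.mul_assoc, e1, Matrix.mul_assoc]
  · rw [det_mul, hC2, mul_div_cancel₀ _ hQ2]
  · rw [Matrix.mul_assoc, c2, ← Matrix.mul_assoc, e2, Matrix.mul_assoc]

theorem FreePair.glue [Fintype F] {xA : Matrix ι ι F} {xB : Matrix κ κ F} (X0 : Matrix ι κ F)
    (hdA : xA.det ≠ 0) {SA SB : Multiset F} (hA : FreePair xA SA) (hB : LowPair xB SB) :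
    FreePair (fromBlocks xA X0 0 xB) (SA + SB) := by
  obtain ⟨B1, B2, ⟨PB1, hB1, eB1⟩, ⟨PB2, hB2, eB2⟩, hPB⟩ := hB
  intro d1 d2 hd1 hd2
  obtain ⟨A1, A2, PA1, PA2, hA1, eA1, hA2, eA2, hPA⟩ :=
    hA (d1 / PB1.det) (d2 / PB2.det) (div_ne_zero hd1 hB1) (div_ne_zero hd2 hB2)
  obtain ⟨y1, y2, P1, P2, e1, f1, e2, f2, hp⟩ := PSLCover.glue X0
    (show PA1.det ≠ 0 by rw [hA1]; exact div_ne_zero hd1 hB1) eA1
    (show PA2.det ≠ 0 by rw [hA2]; exact div_ne_zero hd2 hB2) eA2
    hB1 eB1 hB2 eB2 hdA hPA hPB (fun l _ h _ _ => h.elim)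
  refine ⟨y1, y2, P1, P2, ?_, f1, ?_, f2,
    ⟨hp.cyc, hp.poly, fun _ _ => Set.mem_univ _, fun _ _ => Set.mem_univ _⟩⟩
  · rw [e1, hA1, div_mul_cancel₀ _ hB1]
  · rw [e2, hA2, div_mul_cancel₀ _ hB2]

theorem LowPair.glue [Fintype F] {xA : Matrix ι ι F} {xB : Matrix κ κ F} (X0 : Matrix ι κ F)
    (hdA : xA.det ≠ 0) {SA SB : Multiset F} (hA : LowPair xA SA) (hB : LowPair xB SB) :
    LowPair (fromBlocks xA X0 0 xB) (SA + SB) :=
  (HasPair.glue X0 hdA hA hB fun _ _ h _ _ => h.elim).mono (by simp) subset_rfl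

theorem FreePair.of_glSim {x x' : Matrix ι ι F} {S : Multiset F} (h : FreePair x S) (hs : GLSim x' x) :
    FreePair x' S := by
  obtain ⟨Q, hQ, e⟩ := hs
  intro d1 d2 hd1 hd2
  obtain ⟨y1, y2, P1, P2, h1, e1, h2, e2, hp⟩ :=
    h (d1 / Q.det) (d2 / Q.det) (div_ne_zero hd1 hQ) (div_ne_zero hd2 hQ)
  refine ⟨y1, y2, P1 * Q, P2 * Q, ?_, ?_, ?_, ?_, hp⟩
  · rw [det_mul, h1, div_mul_cancel₀ _ hQ]
  · rw [Matrix.mul_assoc, e, ← Matrix.mul_assoc, e1, Matrix.mul_assoc]
  · rw [det_mul, h2, div_mul_cancel₀ _ hQ]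
  · rw [Matrix.mul_assoc, e, ← Matrix.mul_assoc, e2, Matrix.mul_assoc]

theorem FreePair.reindex (e : ι ≃ κ) {x : Matrix ι ι F} {S : Multiset F} (h : FreePair x S) :
    FreePair (x.reindex e e) S := by
  intro d1 d2 hd1 hd2
  obtain ⟨y1, y2, P1, P2, h1, e1, h2, e2, hp⟩ := h d1 d2 hd1 hd2
  refine ⟨y1.reindex e e, y2.reindex e e, P1.reindex e e, P2.reindex e e, ?_, ?_, ?_, ?_, hp.reindex e⟩
  · rw [Matrix.det_reindex_self, h1]
  · rw [← reindex_mul', e1, reindex_mul']
  · rw [Matrix.det_reindex_self, h2]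
  · rw [← reindex_mul', e2, reindex_mul']

theorem FreePair.of_glSimE {x : Matrix ι ι F} {y : Matrix κ κ F} {S : Multiset F} (h : FreePair y S)
    (hs : GLSimE x y) : FreePair x S := by
  obtain ⟨e, he⟩ := hs
  simpa using (h.of_glSim he).reindex e.symm

theorem GLSimE.det_eq' {x : Matrix ι ι F} {y : Matrix κ κ F} (hs : GLSimE x y) : x.det = y.det := by
  obtain ⟨e, he⟩ := hs
  rw [← he.det_eq, Matrix.det_reindex_self]

/-- A monic reducible polynomial: split off an irreducible factor of least degree. -/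
theorem exists_min_factor {f : F[X]} (hf : f.Monic) (hd : 1 ≤ f.natDegree) (hirr : ¬ Irreducible f) :
    ∃ p h : F[X], p.Monic ∧ h.Monic ∧ f = p * h ∧ Irreducible p ∧ 1 ≤ p.natDegree ∧
      p.natDegree ≤ h.natDegree ∧ ∀ r, h.IsRoot r → p.natDegree = 1 := by
  classical
  have hnu : ¬ IsUnit f := fun h => by rw [hf.isUnit_iff] at h; rw [h, natDegree_one] at hd; omega
  have hex : ∃ k, ∃ p : F[X], p.Monic ∧ Irreducible p ∧ p ∣ f ∧ p.natDegree = k := by
    obtain ⟨p, hp, hpi, hpd⟩ := exists_monic_irreducible_factor f hnu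
    exact ⟨_, p, hp, hpi, hpd, rfl⟩
  obtain ⟨p, hp, hpi, ⟨h, rfl⟩, hk⟩ := Nat.find_spec hex
  have hh : h.Monic := hp.of_mul_monic_left hf
  refine ⟨p, h, hp, hh, rfl, hpi, hpi.natDegree_pos, ?_, fun r hr => ?_⟩
  · have hhu : ¬ IsUnit h := fun hu => hirr (by rw [hh.isUnit_iff.1 hu, mul_one]; exact hpi)
    obtain ⟨q, hq, hqi, hqd⟩ := exists_monic_irreducible_factor h hhu
    calc p.natDegree = Nat.find hex := hk
      _ ≤ q.natDegree := Nat.find_min' hex ⟨q, hq, hqi, hqd.mul_left p, rfl⟩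
      _ ≤ h.natDegree := natDegree_le_of_dvd hqd hh.ne_zero
  · refine le_antisymm ?_ hpi.natDegree_pos
    calc p.natDegree = Nat.find hex := hk
      _ ≤ 1 := Nat.find_min' hex ⟨X - C r, monic_X_sub_C r, irreducible_X_sub_C r,
        (dvd_iff_isRoot.2 hr).mul_left p, natDegree_X_sub_C r⟩

theorem eq_X_sub_C_of_root {k : F[X]} (hk : k.Monic) (hd : k.natDegree = 1) {r : F} (hr : k.IsRoot r) :
    k = X - C r :=
  (eq_of_monic_of_associated (monic_X_sub_C r) hk
    ((irreducible_X_sub_C r).associated_of_dvd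
      (irreducible_of_degree_eq_one (by rw [degree_eq_natDegree hk.ne_zero, hd]; rfl))
      (dvd_iff_isRoot.2 hr))).symm

variable [Fintype F]

/-- A quadratic block missing determinants has one double root. -/
theorem quad_double (a : Fin 2 → F) (hnf : ¬ DetFull (comp a)) :
    ∃ μ : F, (comp a).charpoly = (X - C μ) * (X - C μ) := by
  obtain ⟨p, h, hp, hh, hf, -, hp1, hle, -⟩ := exists_min_factor (comp a).charpoly_monic
    (by rw [Matrix.charpoly_natDegree_eq_dim, Fintype.card_fin]; omega)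
    (fun hi => hnf (detFull_comp_irreducible a hi))
  have hdeg := congrArg natDegree hf
  rw [Matrix.charpoly_natDegree_eq_dim, Fintype.card_fin, hp.natDegree_mul hh] at hdeg
  have hp' : p = X - C (-p.coeff 0) := by
    conv_lhs => rw [hp.eq_X_add_C (by omega)]
    rw [map_neg, sub_neg_eq_add]
  rw [hp'] at hf
  have hr : h.IsRoot (-p.coeff 0) := by_contra fun hr => hnf (detFull_comp_simple_root (d := 0) a hf hr)
  exact ⟨_, hf.trans (by rw [eq_X_sub_C_of_root hh (by omega) hr])⟩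

/-- The unique-root condition of `hasPair_quad`. -/
def OneRoot (a : Fin 2 → F) : Prop :=
  ∀ r r' : F, (comp a).charpoly.eval r = 0 → (comp a).charpoly.eval r' = 0 → r = r'

theorem oneRoot_of_not_detFull (a : Fin 2 → F) (hnf : ¬ DetFull (comp a)) : OneRoot a := by
  obtain ⟨μ, hμ⟩ := quad_double a hnf
  intro r r' h h'
  rw [hμ] at h h'
  simp [sub_eq_zero] at h h'
  rw [h, h']

theorem card_four_pow (h : Fintype.card F = 4) : ∀ δ : F, δ ≠ 0 → ∃ c : F, c ^ 2 = δ := by
  intro δ hδ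
  have h3 := FiniteField.pow_card_sub_one_eq_one δ hδ
  rw [h] at h3
  exact ⟨δ ^ 2, by linear_combination δ * h3⟩

theorem card_five_pow (h : Fintype.card F = 5) {c : F} (hc : c ≠ 0) : c ^ 4 = 1 := by
  have h3 := FiniteField.pow_card_sub_one_eq_one c hc
  rwa [h] at h3

theorem detFull_two_of_card_four (h : Fintype.card F = 4) (a : Fin 2 → F) : DetFull (comp a) :=
  detFull_of_pow _ (by simpa using card_four_pow h)

theorem detFull_four_of_card_four (h : Fintype.card F = 4) (a : Fin 4 → F) : DetFull (comp a) :=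
  detFull_of_pow _ fun δ hδ => by
    have h3 := FiniteField.pow_card_sub_one_eq_one δ hδ
    rw [h] at h3
    refine ⟨δ, ?_⟩
    rw [Fintype.card_fin]
    linear_combination δ * h3

theorem two_ne_zero_of_card_five (h : Fintype.card F = 5) : (2 : F) ≠ 0 := by
  intro h2
  have h5 : ((5 : ℕ) : F) = 0 := by rw [← h]; exact Nat.cast_card_eq_zero F
  exact one_ne_zero (α := F) (by push_cast at h5; linear_combination h5 - 2 * h2)

/-- A block of size at least three: two low spectra. -/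
theorem lowTwo_block (hq : 4 ≤ Fintype.card F) {d : ℕ} (hd : 2 ≤ d) (a : Fin (d + 1) → F)
    (ha : (comp a).det ≠ 0) : TwoSpec (LowPair (comp a)) := by
  obtain ⟨t, t', ht, ht', hne⟩ := exists_two_units hq
  exact ⟨_, _, blockSpec_ne (P := (comp a).det ^ 2) hd hne,
    (hasPair_blockSpec (by omega) (by omega) a ha ht).mono subset_rfl (Set.subset_univ _),
    (hasPair_blockSpec (by omega) (by omega) a ha ht').mono subset_rfl (Set.subset_univ _)⟩

theorem lowPair_quad (a : Fin 2 → F) (ha : (comp a).det ≠ 0) (hns : OneRoot a) {b : F}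
    (hb : b * b ≠ (comp a).det ^ 2) (hb0 : b ≠ 0) : LowPair (comp a) (b ::ₘ {(comp a).det ^ 2 / b}) :=
  (hasPair_quad a ha hns hb hb0).mono subset_rfl (Set.subset_univ _)

theorem lowTwo_quad (hq : 6 ≤ Fintype.card F) (a : Fin 2 → F) (ha : (comp a).det ≠ 0) (hns : OneRoot a) :
    TwoSpec (LowPair (comp a)) := by
  classical
  set D := (comp a).det
  obtain ⟨b, hb0, hb⟩ := exists_admissible (by omega : 4 ≤ Fintype.card F) D
  obtain ⟨b', -, hb'⟩ := Finset.exists_mem_notMem_of_card_lt_card (t := (Finset.univ : Finset F))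
    (s := {0, D, -D, b, D ^ 2 / b}) (lt_of_le_of_lt Finset.card_le_five (by rw [Finset.card_univ]; omega))
  simp only [Finset.mem_insert, Finset.mem_singleton, not_or] at hb'
  obtain ⟨h0, hD, hD', hbb, hbc⟩ := hb'
  refine ⟨_, _, fun e => ?_, lowPair_quad a ha hns hb hb0, lowPair_quad a ha hns (b := b') (fun e => ?_) h0⟩
  · have hm : b' ∈ b ::ₘ {D ^ 2 / b} := e ▸ Multiset.mem_cons_self _ _
    rw [Multiset.mem_cons, Multiset.mem_singleton] at hm
    exact hm.elim hbb hbc
  · have e' : (b' - D) * (b' + D) = 0 := by linear_combination e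
    exact (mul_eq_zero.1 e').elim (fun h => hD (sub_eq_zero.1 h)) fun h => hD' (eq_neg_of_add_eq_zero_left h)

/-- Low pairs of one block. -/
theorem low_comp (hq : 4 ≤ Fintype.card F) {d : ℕ} (hd : 1 ≤ d) (a : Fin (d + 1) → F) (ha : (comp a).det ≠ 0)
    (hns : ∀ r r' : F, d = 1 → (comp a).charpoly.eval r = 0 → (comp a).charpoly.eval r' = 0 → r = r') :
    (∃ S, LowPair (comp a) S) ∧ (TwoSpec (LowPair (comp a)) ∨ (Fintype.card F < 6 ∧ d = 1)) := by
  by_cases hd2 : 2 ≤ d
  · exact ⟨(lowTwo_block hq hd2 a ha).exists, Or.inl (lowTwo_block hq hd2 a ha)⟩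
  obtain rfl : d = 1 := by omega
  have hns' : OneRoot a := fun r r' => hns r r' rfl
  obtain ⟨b, hb0, hb⟩ := exists_admissible hq (comp a).det
  refine ⟨⟨_, lowPair_quad a ha hns' hb hb0⟩, ?_⟩
  by_cases h6 : 6 ≤ Fintype.card F
  · exact Or.inl (lowTwo_quad h6 a ha hns')
  · exact Or.inr ⟨by omega, rfl⟩

theorem exists_pair_irreducible (hq : 4 ≤ Fintype.card F) {d : ℕ} (hd : 1 ≤ d) (a : Fin (d + 1) → F)
    (ha : (comp a).det ≠ 0) (hi : Irreducible (comp a).charpoly) : ∃ S, LowPair (comp a) S := by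
  refine (low_comp hq hd a ha fun r r' _ hr _ => ?_).1
  have h := degree_eq_one_of_irreducible_of_root hi hr
  rw [Matrix.charpoly_degree_eq_dim, Fintype.card_fin] at h
  have : d + 1 = 1 := by exact_mod_cast h
  omega

/-- A two-dimensional Jordan block: both conjugator determinants are free. -/
theorem freePair_quad (hq : 4 ≤ Fintype.card F) (a : Fin 2 → F) {μ : F} (hμ : μ ≠ 0)
    (hf : (comp a).charpoly = (X - C μ) * (X - C μ)) : FreePair (comp a) (μ * μ ::ₘ {μ * μ}) := by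
  classical
  have e0 := congrArg (eval 0) hf
  have e1 := congrArg (eval 1) hf
  rw [charpoly_comp_two_eval] at e0 e1
  simp at e0 e1
  have ha0 : a 0 = -(μ * μ) := by linear_combination -e0
  have ha1 : a 1 = 2 * μ := by linear_combination -e1 + e0
  intro d1 d2 hd1 hd2
  obtain ⟨c, hc, hsum⟩ : ∃ c : F, c ≠ 0 ∧ d1 + d2 / c ^ 2 ≠ 0 := by
    by_cases h : d1 + d2 = 0
    · obtain ⟨c, -, hc⟩ := Finset.exists_mem_notMem_of_card_lt_card (t := (Finset.univ : Finset F))
        (s := {0, 1, -1}) (lt_of_le_of_lt Finset.card_le_three (by rw [Finset.card_univ]; omega))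
      simp only [Finset.mem_insert, Finset.mem_singleton, not_or] at hc
      refine ⟨c, hc.1, fun e => ?_⟩
      have h1 : c ^ 2 ≠ 0 := pow_ne_zero _ hc.1
      rw [← mul_right_inj' h1, mul_add, mul_div_cancel₀ _ h1, mul_zero] at e
      have e' : d1 * ((c - 1) * (c + 1)) = 0 := by linear_combination e - h
      rcases mul_eq_zero.1 ((mul_eq_zero.1 e').resolve_left hd1) with h' | h'
      · exact hc.2.1 (sub_eq_zero.1 h')
      · exact hc.2.2 (eq_neg_of_add_eq_zero_left h')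
    · exact ⟨1, one_ne_zero, by simpa using h⟩
  let y : F → Matrix (Fin 2) (Fin 2) F := fun u => !![μ, u; 0, μ]
  let P : F → Matrix (Fin 2) (Fin 2) F := fun u => !![0, u; 1, μ]
  have hy : ∀ u k : F, (k • P u) * comp a = y u * (k • P u) := by
    intro u k
    rw [Matrix.smul_mul, Matrix.mul_smul]
    congr 1
    ext i j
    fin_cases i <;> fin_cases j <;>
      simp [y, P, Matrix.mul_apply, Fin.sum_univ_two, comp, Fin.ext_iff, ha0, ha1] <;> ring
  obtain ⟨hcyc, hpoly⟩ := upper_two_cyclic (y (-d1) * y (-(d2 / c ^ 2)))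
    (by simp [y]) (by
      simp only [y, Matrix.mul_apply, Fin.sum_univ_two]
      simp only [Matrix.of_apply, Matrix.cons_val', Matrix.cons_val_zero, Matrix.cons_val_one, Matrix.cons_val_fin_one]
      intro e
      refine hsum ((mul_eq_zero.1 (?_ : μ * (d1 + d2 / c ^ 2) = 0)).resolve_left hμ)
      linear_combination -e)
  refine ⟨y (-d1), y (-(d2 / c ^ 2)), P (-d1), c • P (-(d2 / c ^ 2)), ?_, ?_, ?_, hy _ _,
    ⟨hcyc, ?_, fun _ _ => Set.mem_univ _, fun _ _ => Set.mem_univ _⟩⟩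
  · simp [P, Matrix.det_fin_two]
  · simpa using hy (-d1) 1
  · rw [det_smul, Fintype.card_fin, Matrix.det_fin_two]
    simp [P]
    field_simp
  · rw [hpoly]
    simp [y, Matrix.mul_apply, Fin.sum_univ_two]

/-- The whole similarity class of a split cyclic product lies in the products of two conjugates. -/
def FullSpec {n : ℕ} (x : Matrix (Fin n) (Fin n) F) (S : Multiset F) : Prop :=
  S.card = n ∧ S.prod = x.det ^ 2 ∧
    ∀ T T' : Matrix (Fin n) (Fin n) F, SplitCyclic T → T.charpoly = rootsPoly S → GLSim T T' → InPow x 2 T'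

theorem FreePair.card_prod {n : ℕ} {x : Matrix (Fin n) (Fin n) F} {S : Multiset F} (h : FreePair x S) :
    S.card = n ∧ S.prod = x.det ^ 2 := by
  obtain ⟨y1, y2, P1, P2, h1, e1, h2, e2, hp⟩ := h 1 1 one_ne_zero one_ne_zero
  refine ⟨card_of_charpoly hp.poly, ?_⟩
  rw [← det_of_charpoly hp.poly, det_mul, ← GLSim.det_eq (x := x) (y := y1) ⟨P1, by rw [h1]; exact one_ne_zero, e1⟩,
    ← GLSim.det_eq (x := x) (y := y2) ⟨P2, by rw [h2]; exact one_ne_zero, e2⟩, sq]

/-- A split cyclic matrix with an eigenvalue of multiplicity one has all determinants in its centralizer. -/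
theorem detFull_of_simple [DecidableEq F] {n : ℕ} (hn : 2 ≤ n) {T : Matrix (Fin n) (Fin n) F} (hT : SplitCyclic T)
    (hTd : T.det ≠ 0) {S : Multiset F} (hp : T.charpoly = rootsPoly S) {s : F} (hs : S.count s = 1) : DetFull T := by
  obtain ⟨m, rfl⟩ : ∃ m, n = m + 2 := ⟨n - 2, by omega⟩
  obtain ⟨a, ha⟩ := exists_comp (d := m + 1) (T.charpoly_monic)
    (by rw [Matrix.charpoly_natDegree_eq_dim, Fintype.card_fin])
  have hsplit : SplitCyclic (comp a) := splitCyclic_of_cyclicVec (comp_e0_cyclic a) ⟨S, ha.trans hp⟩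
  obtain ⟨S', rfl⟩ : ∃ S', S = s ::ₘ S' := Multiset.exists_cons_of_mem (Multiset.count_pos.1 (by omega))
  have hfull : DetFull (comp a) := detFull_comp_simple_root a (μ := s) (h := rootsPoly S')
    (by rw [ha, hp]; simp [rootsPoly]) fun hr => by
      have hm := eval_rootsPoly_eq_zero hr
      rw [Multiset.count_cons_self] at hs
      have := Multiset.count_pos.2 hm
      omega
  exact hfull.of_glSim (glSim_of_splitCyclic hT hsplit hTd ha.symm).symm

/-- An exact pair whose product has a simple value gives the whole class. -/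
theorem fullSpec_of_exact [DecidableEq F] {n : ℕ} (hn : 2 ≤ n) {x : Matrix (Fin n) (Fin n) F} (hxd : x.det ≠ 0)
    {y1 y2 : Matrix (Fin n) (Fin n) F} (h1 : SLSim x y1) (h2 : SLSim x y2) (hc : SplitCyclic (y1 * y2))
    {S : Multiset F} (hp : (y1 * y2).charpoly = rootsPoly S) {s : F} (hs : S.count s = 1) : FullSpec x S := by
  have hprod : S.prod = x.det ^ 2 := by
    rw [← det_of_charpoly hp, det_mul, ← h1.glSim.det_eq, ← h2.glSim.det_eq, sq]
  refine ⟨card_of_charpoly hp, hprod, fun T T' hT hTp hTT => ?_⟩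
  have hd0 : (y1 * y2).det ≠ 0 := by rw [det_of_charpoly hp, hprod]; exact pow_ne_zero _ hxd
  obtain ⟨Q, hQ, eQ⟩ := (glSim_of_splitCyclic hc hT hd0 (hp.trans hTp.symm)).trans hTT
  obtain ⟨C, hC, eC⟩ := detFull_of_simple hn hc hd0 hp hs Q.det⁻¹ (inv_ne_zero hQ)
  have hQC : (Q * C).det = 1 := by rw [det_mul, hC, mul_inv_cancel₀ hQ]
  have hQC0 : (Q * C).det ≠ 0 := by rw [hQC]; exact one_ne_zero
  have key : ∀ z, SLSim x z → SLSim x (conjBy (Q * C) z) := fun z hz => hz.trans ⟨Q * C, hQC, by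
    rw [conjBy, Matrix.mul_assoc (Q * C * z), Matrix.nonsing_inv_mul _ (isUnit_iff_ne_zero.2 hQC0), Matrix.mul_one]⟩
  refine ⟨[conjBy (Q * C) y1, conjBy (Q * C) y2], rfl, fun y hy => ?_, ?_⟩
  · simp only [List.mem_cons, List.not_mem_nil, or_false] at hy
    rcases hy with rfl | rfl
    · exact key y1 h1
    · exact key y2 h2
  · simp only [List.prod_cons, List.prod_nil, Matrix.mul_one]
    rw [← conjBy_mul hQC0]
    refine conjBy_eq hQC0 ?_
    rw [Matrix.mul_assoc, eC, ← Matrix.mul_assoc, eQ, Matrix.mul_assoc]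

/-- Free determinants and a simple value give the whole class. -/
theorem FreePair.fullSpec [DecidableEq F] {n : ℕ} (hn : 2 ≤ n) {x : Matrix (Fin n) (Fin n) F} (hxd : x.det ≠ 0)
    {S : Multiset F} (h : FreePair x S) {s : F} (hs : S.count s = 1) : FullSpec x S := by
  obtain ⟨y1, y2, P1, P2, h1, e1, h2, e2, hp⟩ := h 1 1 one_ne_zero one_ne_zero
  exact fullSpec_of_exact hn hxd ⟨P1, h1, e1⟩ ⟨P2, h2, e2⟩ hp.cyc hp.poly hs

/-- The spectrum of a scaled inverse. -/
theorem charpoly_smul_inv {n : ℕ} {T : Matrix (Fin n) (Fin n) F} (hT : SplitCyclic T) (hTd : T.det ≠ 0)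
    {S : Multiset F} (hp : T.charpoly = rootsPoly S) (s : F) :
    (s • T⁻¹).charpoly = rootsPoly (S.map fun c => s / c) := by
  obtain ⟨b, hb, hbp, hbprod, -⟩ := exists_grouped (card_of_charpoly hp)
  let U : Matrix (Fin n) (Fin n) F :=
    Matrix.of fun i j => if i = j then b i else if (j : ℕ) = (i : ℕ) + 1 then 1 else 0
  have hd : ∀ i, U i i = b i := fun i => by simp [U]
  have htri : ∀ i j, j < i → U i j = 0 := fun i j hij => by
    simp only [U, Matrix.of_apply]
    rw [if_neg hij.ne', if_neg]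
    have := Fin.lt_def.1 hij
    omega
  have hne : ∀ i, b i ≠ 0 := fun i e => hTd (by
    rw [det_of_charpoly hp, ← hbprod]; exact Finset.prod_eq_zero (Finset.mem_univ i) e)
  obtain ⟨hUs, hUc'⟩ := Upp.splitCyclic (U := U) (b := b) ⟨hd, htri, fun i j hij => by
    have : i ≠ j := fun e => by subst e; omega
    simp [U, hij, this]⟩ hb
  have hUc : U.charpoly = rootsPoly S := hUc'.trans hbp
  have hUd : IsUnit U.det := isUnit_iff_ne_zero.2 (by rwa [det_of_charpoly hUc, ← det_of_charpoly hp])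
  obtain ⟨Q, hQ, eQ⟩ := glSim_of_splitCyclic hT hUs hTd (hp.trans hUc.symm)
  have hsim : GLSim (s • T⁻¹) (s • U⁻¹) := by
    refine GLSim.smul ⟨Q, hQ, ?_⟩ s
    have h1 := congrArg (fun M => U⁻¹ * M * T⁻¹) eQ
    simp only [← Matrix.mul_assoc, Matrix.nonsing_inv_mul _ hUd, Matrix.one_mul] at h1
    rw [Matrix.mul_assoc (U⁻¹ * Q), Matrix.mul_nonsing_inv _ (isUnit_iff_ne_zero.2 hTd), Matrix.mul_one] at h1
    exact h1.symm
  have := Matrix.invertibleOfIsUnitDet U hUd
  have hinv : U⁻¹.BlockTriangular id := Matrix.blockTriangular_inv_of_blockTriangular fun i j hij => htri i j hij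
  have hdiag : ∀ i, U⁻¹ i i = (b i)⁻¹ := fun i => by
    have h := congrFun (congrFun (Matrix.mul_nonsing_inv U hUd) i) i
    rw [Matrix.mul_apply, Finset.sum_eq_single i, Matrix.one_apply_eq, hd] at h
    · exact eq_inv_of_mul_eq_one_right h
    · intro j _ hj
      rcases lt_or_gt_of_ne hj with h' | h'
      · rw [htri i j h', zero_mul]
      · rw [hinv h', mul_zero]
    · simp
  rw [charpoly_eq_of_glSim hsim, charpoly_upper _ fun i j hij => by simp [hinv hij]]
  have hb' : S = Finset.univ.val.map b := by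
    rw [← rootsPoly_roots S, ← hbp,
      show (∏ i, (X - C (b i))) = rootsPoly (Finset.univ.val.map b) by simp [rootsPoly, Multiset.map_map, List.prod_ofFn], rootsPoly_roots]
  rw [hb', Multiset.map_map]
  congr 1
  exact Multiset.map_congr rfl fun i _ => by simp [hdiag, div_eq_mul_inv]

/-- Spectra of full classes cover, given a choice for scalar plus rank one targets. -/
theorem cover_of_fullSpec (hq : 4 ≤ Fintype.card F) {n : ℕ} {x : Matrix (Fin n) (Fin n) F} (hx : x.det = 1)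
    {S1 : Multiset F} (h1 : FullSpec x S1) {g : Matrix (Fin n) (Fin n) F} (hg : Nonscalar g) (hgd : g.det = 1)
    (hone : ∀ (s : F) (u w : Fin n → F), g = s • 1 + vecMulVec u w → ∃ z : F, z ^ n = 1 ∧
      ((∃ S2, FullSpec x S2 ∧ S1.map (fun c => z * s / c) ≠ S2) ∨ InPow x 4 (z • g))) :
    ∃ z : F, z ^ n = 1 ∧ InPow x 4 (z • g) := by
  have hS1 : S1.prod = 1 := by rw [h1.2.1, hx, one_pow]
  obtain ⟨b, hbg, hbp, hbprod, hbm⟩ := exists_grouped h1.1
  have hb0 : ∀ i, b i ≠ 0 := fun i e => one_ne_zero (α := F) (hS1 ▸ Multiset.prod_eq_zero (e ▸ hbm i))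
  have finish : ∀ {S2 : Multiset F} {T1 T2 g2 h : Matrix (Fin n) (Fin n) F}, FullSpec x S2 → SplitCyclic T1 →
      T1.charpoly = rootsPoly S1 → SplitCyclic T2 → T2.charpoly = rootsPoly S2 → GLSim h g2 → T1 * T2 = g2 →
      InPow x 4 h := by
    intro S2 T1 T2 g2 h hS2 hT1 p1 hT2 p2 hs e
    obtain ⟨Q, hQ, eQ⟩ := hs.symm
    have := (h1.2.2 T1 (conjBy Q T1) hT1 p1 (glSim_conjBy hQ _)).append
      (hS2.2.2 T2 (conjBy Q T2) hT2 p2 (glSim_conjBy hQ _))
    rwa [← conjBy_mul hQ, e, conjBy_eq hQ eQ] at this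
  by_cases hr : ∃ (s : F) (u w : Fin n → F), g = s • 1 + vecMulVec u w
  · obtain ⟨s, u, w, hsuw⟩ := hr
    obtain ⟨z, hz, h | h⟩ := hone s u w hsuw
    · obtain ⟨S2, hS2, hne⟩ := h
      refine ⟨z, hz, ?_⟩
      have hn0 : 0 < n := Nat.pos_of_ne_zero fun h0 => by subst h0; exact hg 0 (Subsingleton.elim _ _)
      have hz0 : z ≠ 0 := fun e => by rw [e, zero_pow hn0.ne'] at hz; exact zero_ne_one hz
      have hg' : Nonscalar (z • g) := fun c hc => hg (z⁻¹ * c) (by
        rw [← smul_smul, ← hc, inv_smul_smul₀ hz0])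
      have hgd' : (z • g).det = 1 := by rw [det_smul, Fintype.card_fin, hz, hgd, one_mul]
      obtain ⟨T1, hT1, hp1⟩ : ∃ T1 : Matrix (Fin n) (Fin n) F, SplitCyclic T1 ∧ T1.charpoly = rootsPoly S1 := by
        let U : Matrix (Fin n) (Fin n) F :=
          Matrix.of fun i j => if i = j then b i else if (j : ℕ) = (i : ℕ) + 1 then 1 else 0
        have hU : Upp U b := ⟨fun i => by simp [U], fun i j hij => by
          simp only [U, Matrix.of_apply]
          rw [if_neg hij.ne', if_neg]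
          have := Fin.lt_def.1 hij
          omega, fun i j hij => by
          have : i ≠ j := fun e => by subst e; omega
          simp [U, hij, this]⟩
        exact ⟨U, (hU.splitCyclic hbg).1, (hU.splitCyclic hbg).2.trans hbp⟩
      have hT10 : T1.det ≠ 0 := by rw [det_of_charpoly hp1, hS1]; exact one_ne_zero
      obtain ⟨g2, hg2, hT2, hT2p⟩ := exists_rankone_split hT1 hT10 hg' (by rw [hgd']; exact one_ne_zero)
        (s := z * s) (u0 := z • u) (w0 := w)
        (by rw [hsuw, smul_add, smul_smul, Matrix.smul_vecMulVec]) S2 hS2.1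
        (by rw [det_mul, Matrix.det_nonsing_inv, Ring.inverse_eq_inv', hgd', det_of_charpoly hp1, hS1, hS2.2.1, hx]; simp)
        (fun e => hne (by
          rw [← rootsPoly_roots S2]
          have e' : ((z * s) • T1⁻¹).charpoly = rootsPoly S2 := e
          rw [← e', charpoly_smul_inv hT1 hT10 hp1, rootsPoly_roots]))
      refine finish (h := z • g) (g2 := g2) hS2 hT1 hp1 hT2 hT2p hg2 ?_
      rw [Matrix.mul_nonsing_inv_cancel_left _ _ (isUnit_iff_ne_zero.2 hT10)]
    · exact ⟨z, hz, h⟩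
  · push Not at hr
    refine ⟨1, one_pow n, ?_⟩
    rw [one_smul]
    obtain ⟨L, U, hgLU, -, -, hL, hU, hLp, hUp⟩ := exists_lu hq g b b hbg hbg hb0 hb0
      (by rw [Finset.prod_mul_distrib, hbprod, hS1, hgd, one_mul]) hg (fun i u w => hr _ u w)
    exact finish h1 hL (hLp.trans hbp) hU (hUp.trans hbp) hgLU rfl

/-- Two spectra of full classes cover. -/
theorem cover_of_two (hq : 4 ≤ Fintype.card F) {n : ℕ} {x : Matrix (Fin n) (Fin n) F} (hx : x.det = 1)
    (h : TwoSpec (FullSpec x)) {g : Matrix (Fin n) (Fin n) F} (hg : Nonscalar g) (hgd : g.det = 1) :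
    ∃ z : F, z ^ n = 1 ∧ InPow x 4 (z • g) := by
  obtain ⟨S, S', hne, h1, h2⟩ := h
  refine cover_of_fullSpec hq hx h1 hg hgd fun s u w _ => ⟨1, one_pow n, Or.inl ?_⟩
  by_cases e : S.map (fun c => 1 * s / c) = S
  · exact ⟨S', h2, fun e' => hne (e.symm.trans e')⟩
  · exact ⟨S, h1, e⟩

end CfsgLib.PSLCover
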