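import Cfsg.Agent.Lib.PSLCover.SLCore

/-!
Seven elements: two classes for the square of the quadratic `X^2 + 1`.
-/

set_option autoImplicit false
set_option linter.unusedSectionVars false

namespace CfsgLib.PSLCover

open Matrix Polynomial

variable {F : Type*} [Field F] [Fintype F]

theorem prime_seven_fact : Fact (Nat.Prime 7) := ⟨by norm_num⟩

attribute [local instance] prime_seven_fact

theorem FullSpec.of_glSimE {n : ℕ} {x y : Matrix (Fin n) (Fin n) F} {S : Multiset F} (h : FullSpec y S)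
    (hs : GLSimE x y) : FullSpec x S := by
  have hdet := hs.det_eq'
  obtain ⟨e, hsim⟩ := hs
  refine ⟨h.1, by rw [h.2.1, hdet], fun T T' hT hTp hTT => ?_⟩
  obtain ⟨Q, hQ, eQ⟩ := hsim
  have hQu : IsUnit Q.det := isUnit_iff_ne_zero.2 hQ
  have hQ' : (Q⁻¹).det ≠ 0 := (Matrix.isUnit_nonsing_inv_det Q hQu).ne_zero
  -- products for `y` in the transported class
  have h1 := h.2.2 T (conjBy Q (conjBy (1 : Matrix (Fin n) (Fin n) F) (T'.reindex e e))) hT hTp
    ((hTT.trans (?_ : GLSim T' (T'.reindex e e))).trans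
      ((glSim_conjBy (by rw [det_one]; exact one_ne_zero) _).trans (glSim_conjBy hQ _)))
  · obtain ⟨l, hl, hmem, hprod⟩ := h1
    have key : InPow (x.reindex e e) 2 (T'.reindex e e) := by
      refine ⟨l.map (conjBy Q⁻¹), by simpa using hl, fun w hw => ?_, ?_⟩
      · obtain ⟨z, hz, rfl⟩ := List.mem_map.1 hw
        obtain ⟨R, hR, eR⟩ := hmem z hz
        refine ⟨Q⁻¹ * R * Q, ?_, ?_⟩
        · rw [det_mul, det_mul, hR, mul_one, Matrix.det_nonsing_inv, Ring.inverse_eq_inv', inv_mul_cancel₀ hQ]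
        · rw [conjBy, Matrix.nonsing_inv_nonsing_inv Q hQu]
          calc Q⁻¹ * R * Q * x.reindex e e = Q⁻¹ * (R * (Q * x.reindex e e)) := by simp only [Matrix.mul_assoc]
            _ = Q⁻¹ * (R * y * Q) := by rw [eQ, Matrix.mul_assoc R y Q]
            _ = Q⁻¹ * z * (R * Q) := by rw [eR]; simp only [Matrix.mul_assoc]
            _ = Q⁻¹ * z * Q * (Q⁻¹ * R * Q) := by
              simp only [Matrix.mul_assoc, Matrix.mul_nonsing_inv_cancel_left _ _ hQu]
      · rw [← conjBy_prod hQ', hprod]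
        simp [conjBy, Matrix.mul_assoc, Matrix.nonsing_inv_nonsing_inv Q hQu, Matrix.nonsing_inv_mul Q hQu,
          Matrix.nonsing_inv_mul_cancel_left _ _ hQu]
    have := key.reindex (e := e.symm)
    simpa [Matrix.reindex_apply, Matrix.submatrix_submatrix] using this
  · refine ⟨(1 : Matrix (Fin n) (Fin n) F).submatrix e.symm id, ?_, ?_⟩
    · rw [Matrix.det_permute, Matrix.det_one, mul_one]
      rcases Int.units_eq_one_or (Equiv.Perm.sign e.symm) with h' | h' <;> simp [h']
    · ext i j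
      simp only [Matrix.mul_apply, Matrix.reindex_apply, Matrix.submatrix_apply, Matrix.one_apply, id_eq]
      rw [Finset.sum_eq_single (e.symm i), Finset.sum_eq_single (e j)]
      · simp
      · intro k _ hk
        rw [if_neg (fun e' => hk (by rw [← e']; simp)), mul_zero]
      · simp
      · intro k _ hk
        rw [if_neg (fun e' => hk e'.symm), zero_mul]
      · simp

/-- An exact pair over the prime field, read off in a field of seven elements. -/
theorem seven_pair [DecidableEq F] (φ : ZMod 7 →+* F) (C P Y : Matrix (Fin 4) (Fin 4) (ZMod 7)) (hP : P.det = 1)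
    (hY : P * C = Y * P) (hC : C.det = 1) (S : List (ZMod 7)) (hS : S.length = 4)
    (hk : (kry (K := ZMod 7) (C * Y) (Pi.single 0 1)).det ≠ 0)
    (hann : (S.map fun s => C * Y - s • 1).prod *ᵥ Pi.single 0 1 = 0) (u : ZMod 7) (hu : S.count u = 1) :
    FullSpec (C.map φ) ((S : Multiset (ZMod 7)).map φ) := by
  have hcyc := isCyclicVec_of_det hk
  have hpoly : (C * Y).charpoly = rootsPoly (S : Multiset (ZMod 7)) := by
    refine hcyc.charpoly_eq (monic_multiset_prod_of_monic _ _ fun s _ => monic_X_sub_C s) ?_ ?_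
    · rw [rootsPoly, natDegree_multiset_prod_X_sub_C_eq_card, Multiset.coe_card, hS]
    · rw [rootsPoly, Multiset.map_coe, Multiset.prod_coe, map_list_prod, List.map_map]
      simpa [Function.comp_def, map_sub, Algebra.algebraMap_eq_smul_one] using hann
  have hy : (C * Y).map φ = C.map φ * Y.map φ := Matrix.map_mul
  have hp' : (C.map φ * Y.map φ).charpoly = rootsPoly ((S : Multiset (ZMod 7)).map φ) := by
    rw [← hy, Matrix.charpoly_map, hpoly, rootsPoly, rootsPoly, Polynomial.map_multiset_prod,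
      Multiset.map_map, Multiset.map_map]
    simp [Function.comp_def]
  have hc : SplitCyclic (C.map φ * Y.map φ) := by
    refine splitCyclic_of_cyclicVec (v := Pi.single 0 1) (isCyclicVec_of_det ?_) ⟨_, hp'⟩
    have hK : kry (C.map φ * Y.map φ) (Pi.single 0 (1 : F)) = (kry (C * Y) (Pi.single 0 1)).map φ := by
      ext i j
      rw [← hy, Matrix.map_apply]
      simp only [kry, Matrix.of_apply]
      have hpow : ((C * Y).map φ) ^ (j : ℕ) = ((C * Y) ^ (j : ℕ)).map φ :=
        (map_pow (φ.mapMatrix (m := Fin 4)) (C * Y) _).symm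
      rw [hpow, Matrix.mulVec_single_one, Matrix.mulVec_single_one]
      rfl
    rw [hK, ← RingHom.mapMatrix_apply, ← RingHom.map_det]
    exact (map_ne_zero φ).2 hk
  refine fullSpec_of_exact (by norm_num) (x := C.map φ) (y1 := C.map φ) (y2 := Y.map φ) ?_ (SLSim.refl _) ?_ hc hp'
    (s := φ u) ?_
  · rw [← RingHom.mapMatrix_apply, ← RingHom.map_det, hC, map_one]; exact one_ne_zero
  · refine ⟨P.map φ, ?_, ?_⟩
    · rw [← RingHom.mapMatrix_apply, ← RingHom.map_det, hP, map_one]
    · rw [← Matrix.map_mul, hY, Matrix.map_mul]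
  · rw [Multiset.count_map_eq_count' _ _ φ.injective, Multiset.coe_count]; exact hu

theorem fullSpec_seven_first [DecidableEq F] (φ : ZMod 7 →+* F) :
    FullSpec ((!![0, 0, 0, 6; 1, 0, 0, 0; 0, 1, 0, 5; 0, 0, 1, 0] : Matrix (Fin 4) (Fin 4) (ZMod 7)).map φ)
      ((([1, 2, 3, 6] : List (ZMod 7)) : Multiset (ZMod 7)).map φ) :=
  seven_pair φ _ !![1, 0, 0, 0; 0, 1, 0, 4; 0, 0, 1, 0; 0, 0, 1, 1]
    !![0, 0, 1, 6; 1, 0, 4, 0; 0, 1, 6, 1; 0, 1, 0, 1] (by decide) (by decide) (by decide) _ rfl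
    (by decide) (by decide) 1 (by decide)

theorem fullSpec_seven_second [DecidableEq F] (φ : ZMod 7 →+* F) :
    FullSpec ((!![0, 0, 0, 6; 1, 0, 0, 0; 0, 1, 0, 5; 0, 0, 1, 0] : Matrix (Fin 4) (Fin 4) (ZMod 7)).map φ)
      ((([3, 3, 3, 6] : List (ZMod 7)) : Multiset (ZMod 7)).map φ) :=
  seven_pair φ _ !![1, 1, 0, 4; 0, 1, 0, 0; 0, 0, 1, 6; 0, 0, 0, 1]
    !![1, 6, 4, 6; 1, 6, 0, 3; 0, 1, 6, 4; 0, 0, 1, 1] (by decide) (by decide) (by decide) _ rfl
    (by decide) (by decide) 6 (by decide)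

/-- Two classes for `(X^2 + 1)^2` over seven elements. -/
theorem twoSpec_seven (h7 : Fintype.card F = 7) {x : Matrix (Fin 4) (Fin 4) F} {a : Fin 4 → F}
    (hs : GLSimE x (comp a)) (ha : (comp a).charpoly = (X ^ 2 + 1) ^ 2) : TwoSpec (FullSpec x) := by
  classical
  have hp : ringChar F = 7 := by
    have h0 : ((7 : ℕ) : F) = 0 := by rw [← h7]; exact Nat.cast_card_eq_zero F
    exact ringChar.eq_iff.2 ((CharP.charP_iff_prime_eq_zero (by norm_num : Nat.Prime 7)).2 h0)
  haveI : CharP F 7 := hp ▸ ringChar.charP F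
  let φ : ZMod 7 →+* F := ZMod.castHom (dvd_refl 7) F
  set C0 : Matrix (Fin 4) (Fin 4) (ZMod 7) := !![0, 0, 0, 6; 1, 0, 0, 0; 0, 1, 0, 5; 0, 0, 1, 0] with hC
  have hCa : C0.map φ = comp (fun i => φ (![6, 0, 5, 0] i)) := by
    ext i j
    fin_cases i <;> fin_cases j <;> simp [hC, comp, Fin.ext_iff]
  have hsim : GLSim (comp a) (C0.map φ) := by
    rw [hCa]
    refine glSim_of_cyclicVec (comp_e0_cyclic _) (comp_e0_cyclic _) ?_
    rw [ha, charpoly_comp', compPoly, Fin.sum_univ_four]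
    have h0 : (7 : F) = 0 := by exact_mod_cast CharP.cast_eq_zero F 7
    have h7' : (7 : F[X]) = 0 := by rw [← map_ofNat C 7, h0, map_zero]
    simp only [map_ofNat, Matrix.cons_val_zero, Matrix.cons_val_one, Matrix.cons_val, map_zero, Fin.val_zero, Fin.val_one, Fin.val_two, pow_zero, zero_mul, mul_one, add_zero]
    linear_combination (X ^ 2 + 1) * h7'
  obtain ⟨e, he⟩ := hs
  have hx : GLSimE x (C0.map φ) := ⟨e, he.trans hsim⟩
  refine ⟨_, _, fun h => ?_, (fullSpec_seven_first φ).of_glSimE hx, (fullSpec_seven_second φ).of_glSimE hx⟩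
  exact absurd (Multiset.map_injective φ.injective h) (by decide)

end CfsgLib.PSLCover
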