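import Cfsg.Agent.Lib.PSLCover.SLCore
import Cfsg.Agent.Lib.PSLCover.SevenWitness

/-!
Chains without eigenvalues: spectra are arbitrary in every block, so a simple value can be placed.
-/

set_option autoImplicit false
set_option linter.unusedSectionVars false

namespace CfsgLib.PSLCover

open Matrix Polynomial

variable {F : Type*} [Field F] [Fintype F]

/-- No eigenvalue in the field. -/
def Rootless {ι : Type*} [Fintype ι] [DecidableEq ι] (x : Matrix ι ι F) : Prop := ∀ r : F, ¬ x.charpoly.IsRoot r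

theorem lowPair_of_rootless {ι : Type*} [Fintype ι] [DecidableEq ι] {x : Matrix ι ι F} (hr : Rootless x)
    {S : Multiset F} {R L : Set (F × F)} (h : HasPair x S R L) : LowPair x S := by
  obtain ⟨y1, y2, h1, h2, hp⟩ := h
  exact ⟨y1, y2, h1, h2, hp.cyc, hp.poly, fun l hl => (hr l.1 (hl.eigen h1 h2).1).elim, fun _ _ => Set.mem_univ _⟩

/-- Without eigenvalues a block of size at least three takes every spectrum. -/
theorem lowPair_spec (hq : 3 ≤ Fintype.card F) {m : ℕ} (a : Fin (m + 3) → F) (ha : (comp a).det ≠ 0)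
    (hr : Rootless (comp a)) {S : Multiset F} (hS : S.card = m + 3) (hP : S.prod = (comp a).det ^ 2) :
    LowPair (comp a) S := by
  classical
  obtain ⟨b, hbg, hbp, hbprod, hbm⟩ := exists_grouped hS
  have hb0 : ∀ i, b i ≠ 0 := fun i e => pow_ne_zero 2 ha (hP ▸ Multiset.prod_eq_zero (e ▸ hbm i))
  set k := (revComp a)⁻¹ (Fin.last (m + 2)) (Fin.last (m + 2)) with hk
  obtain ⟨u, hu, hu'⟩ := exists_ne_pair hq (a (Fin.last (m + 2)) - m - k * b (Fin.last (m + 2)))
  let T0 : Matrix (Fin (m + 3)) (Fin (m + 3)) F := Matrix.of fun i j =>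
    if i = j then b i else if j.val = i.val + 1 then (if i = 0 then u else 1) else 0
  have hT0 : ∀ i j, j < i → T0 i j = 0 := fun i j hij => by
    simp only [T0, Matrix.of_apply]
    rw [if_neg hij.ne', if_neg]
    have := Fin.lt_def.1 hij; omega
  have hdiag0 : ∀ i, T0 i i = b i := fun i => by simp [T0]
  obtain ⟨y, M, T, hy, hM, hyM, htri, hdiag, hcol, hyrev, htr⟩ := exists_hess_pair a ha T0 hT0
    (fun i => by rw [hdiag0]; exact hb0 i) (by simp only [hdiag0, hbprod, hP])
  set t := T (Fin.last (m + 1)).castSucc (Fin.last (m + 2)) with ht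
  have hsum2 : (∑ j, (revComp a)⁻¹ (Fin.last (m + 2)) j * T j (Fin.last (m + 2))) =
      t + k * b (Fin.last (m + 2)) := by
    rw [Fin.sum_univ_castSucc, hdiag, hdiag0, Fin.sum_univ_castSucc, Finset.sum_eq_zero (fun j _ => ?_)]
    · rw [revComp_inv_col a ha _ _ (Fin.castSucc_lt_last _).ne, if_pos (by simp)]
      simp [ht, hk]
    · rw [revComp_inv_col a ha _ _ (Fin.castSucc_lt_last _).ne, if_neg, zero_mul]
      simp only [Fin.val_last, Fin.val_castSucc]
      have := j.isLt; omega
  have hsum1 : (∑ i : Fin (m + 2), if h : i.val + 1 < m + 2 then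
      T0 i.castSucc ⟨i.val + 1, by omega⟩ else 0) = u + m := by
    rw [Fin.sum_univ_succ, Fin.sum_univ_castSucc]
    have h1 : ∀ i : Fin m, (if h : (i.castSucc.succ : Fin (m + 2)).val + 1 < m + 2 then
        T0 (i.castSucc.succ).castSucc ⟨(i.castSucc.succ : Fin (m + 2)).val + 1, by omega⟩ else 0) = 1 :=
      fun i => by
        rw [dif_pos (by simp)]
        show (if _ then _ else if _ then _ else _) = (1 : F)
        rw [if_neg (fun e => by simpa using congrArg Fin.val e), if_pos (by simp),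
          if_neg (fun e => by simpa using congrArg Fin.val e)]
    simp only [h1, Finset.sum_const, Finset.card_univ, Fintype.card_fin, nsmul_eq_mul, mul_one]
    rw [dif_pos (by simp), dif_neg (by simp), add_zero]
    congr 1
  have htne : t ≠ 0 := fun e => hu' (by rw [htr, hsum1, hsum2, e]; ring)
  have hU : Upp T b := ⟨fun i => by rw [hdiag, hdiag0], htri, fun i j hij => by
    by_cases hj : j = Fin.last (m + 2)
    · have hi : i = (Fin.last (m + 1)).castSucc := by
        subst hj
        refine Fin.ext ?_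
        simp only [Fin.val_last] at hij
        simp only [Fin.val_castSucc, Fin.val_last]
        omega
      rw [hi, hj]; exact htne
    · rw [hcol i j hj]
      have hne : i ≠ j := fun e => by subst e; omega
      simp only [T0, Matrix.of_apply, if_neg hne, if_pos hij]
      split_ifs
      · exact hu
      · exact one_ne_zero⟩
  obtain ⟨hc, hp⟩ := hU.splitCyclic hbg
  refine lowPair_of_rootless hr ⟨y, M, hy, hM, ⟨hyM ▸ hc, ?_, fun _ _ => Set.mem_univ _, fun _ _ => Set.mem_univ _⟩⟩
  rw [hyM, hp, hbp]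

theorem exists_unit_ne (hq : 3 ≤ Fintype.card F) (u : F) : ∃ s : F, s ≠ 0 ∧ s ≠ u := exists_ne_pair hq u

/-- Entries avoiding a value, with a given product. -/
theorem exists_rest (hq : 4 ≤ Fintype.card F) (u : F) {P : F} (hP : P ≠ 0) (j : ℕ) :
    ∃ x y s : F, x ≠ u ∧ y ≠ u ∧ s ≠ u ∧ x * (y * s ^ j) = P := by
  classical
  obtain ⟨s, hs, hsu⟩ := exists_unit_ne (by omega) u
  obtain ⟨x', -, hx'⟩ := Finset.exists_mem_notMem_of_card_lt_card (t := (Finset.univ : Finset F))
    (s := {0, u, s}) (lt_of_le_of_lt Finset.card_le_three (by rw [Finset.card_univ]; omega))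
  simp only [Finset.mem_insert, Finset.mem_singleton, not_or] at hx'
  have hsj : s ^ j ≠ 0 := pow_ne_zero _ hs
  by_cases h : P / (s * s ^ j) = u
  · refine ⟨x', P / (x' * s ^ j), s, hx'.2.1, fun e => hx'.2.2 ?_, hsu, ?_⟩
    · rw [← h, div_eq_div_iff (mul_ne_zero hx'.1 hsj) (mul_ne_zero hs hsj)] at e
      exact (mul_right_cancel₀ hsj (mul_left_cancel₀ hP e)).symm
    · field_simp [hx'.1]
  · exact ⟨s, P / (s * s ^ j), s, hsu, h, hsu, by field_simp⟩

/-- A spectrum avoiding a value, with a repetition. -/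
theorem exists_avoid_spec (hq : 4 ≤ Fintype.card F) (u : F) {P : F} (hP : P ≠ 0) {k : ℕ} (hk : 3 ≤ k) :
    ∃ S : Multiset F, S.card = k ∧ S.prod = P ∧ u ∉ S ∧ ¬ S.Nodup := by
  classical
  rcases eq_or_lt_of_le hk with rfl | h4
  · obtain ⟨s, hs, hsu, hne⟩ : ∃ s : F, s ≠ 0 ∧ s ≠ u ∧ P / (s * s) ≠ u := by
      obtain ⟨s, hs, hsu⟩ := exists_unit_ne (by omega) u
      by_cases h : P / (s * s) = u
      · obtain ⟨s', -, hs'⟩ := Finset.exists_mem_notMem_of_card_lt_card (t := (Finset.univ : Finset F))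
          (s := {0, u, s}) (lt_of_le_of_lt Finset.card_le_three (by rw [Finset.card_univ]; omega))
        simp only [Finset.mem_insert, Finset.mem_singleton, not_or] at hs'
        by_cases h' : P / (s' * s') = u
        · rw [← h, div_eq_div_iff (mul_ne_zero hs'.1 hs'.1) (mul_ne_zero hs hs)] at h'
          have hsq := mul_left_cancel₀ hP h'
          by_cases h4c : Fintype.card F = 4
          · exfalso
            refine hs'.2.2 ?_
            have e : ∀ c : F, c ^ 4 = c := fun c => by have := FiniteField.pow_card c; rwa [h4c] at this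
            have h1 : s' ^ 4 = s ^ 4 := by linear_combination (-(s * s) - s' * s') * hsq
            rwa [e, e] at h1
          obtain ⟨w, -, hw⟩ := Finset.exists_mem_notMem_of_card_lt_card (t := (Finset.univ : Finset F))
            (s := {0, u, s, -s}) (lt_of_le_of_lt Finset.card_le_four (by rw [Finset.card_univ]; omega))
          simp only [Finset.mem_insert, Finset.mem_singleton, not_or] at hw
          refine ⟨w, hw.1, hw.2.1, fun h'' => ?_⟩
          rw [← h, div_eq_div_iff (mul_ne_zero hw.1 hw.1) (mul_ne_zero hs hs)] at h''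
          have hsq' := mul_left_cancel₀ hP h''
          rcases mul_eq_zero.1 (show (w - s) * (w + s) = 0 by linear_combination -hsq') with e | e
          · exact hw.2.2.1 (sub_eq_zero.1 e)
          · exact hw.2.2.2 (eq_neg_of_add_eq_zero_left e)
        · exact ⟨s', hs'.1, hs'.2.1, h'⟩
      · exact ⟨s, hs, hsu, h⟩
    refine ⟨s ::ₘ s ::ₘ {P / (s * s)}, rfl, by simp; field_simp, ?_, by simp⟩
    simp [Ne.symm hsu, Ne.symm hne]
  · obtain ⟨j, rfl⟩ : ∃ j, k = j + 4 := ⟨k - 4, by omega⟩
    obtain ⟨x, y, s, hx, hy, hs, e⟩ := exists_rest hq u hP (j + 2)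
    refine ⟨x ::ₘ y ::ₘ Multiset.replicate (j + 2) s, by simp, by simpa [Multiset.prod_replicate, pow_succ'] using e, ?_, ?_⟩
    · simp [Multiset.mem_replicate, Ne.symm hx, Ne.symm hy, Ne.symm hs]
    · intro hnd
      have h1 := (Multiset.nodup_cons.1 (Multiset.nodup_cons.1 hnd).2).2
      rw [Multiset.nodup_iff_count_le_one] at h1
      have := h1 s
      simp at this

/-- A spectrum with a given simple value. -/
theorem exists_simple_spec (hq : 4 ≤ Fintype.card F) [DecidableEq F] {u : F} (hu : u ≠ 0) {P : F} (hP : P ≠ 0) {k : ℕ}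
    (hk : 3 ≤ k) : ∃ S : Multiset F, S.card = k ∧ S.prod = P ∧ S.count u = 1 := by
  obtain ⟨j, rfl⟩ : ∃ j, k = j + 3 := ⟨k - 3, by omega⟩
  obtain ⟨x, y, s, hx, hy, hs, e⟩ := exists_rest hq u (div_ne_zero hP hu) j
  refine ⟨u ::ₘ x ::ₘ y ::ₘ Multiset.replicate j s, by simp, ?_, ?_⟩
  · simp only [Multiset.prod_cons, Multiset.prod_replicate, e]
    field_simp
  · simp [Multiset.count_cons, Multiset.count_replicate, Ne.symm hx, Ne.symm hy, hs]

/-- A block without eigenvalues and without all determinants has size at least four. -/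
theorem rootless_size {d : ℕ} (hd : 2 ≤ d + 1) (a : Fin (d + 1) → F) (hnf : ¬ DetFull (comp a))
    (hr : Rootless (comp a)) : 3 ≤ d := by
  obtain ⟨p, h, hp, hh, hf, -, hp1, hle, hroot⟩ := exists_min_factor (comp a).charpoly_monic
    (by rw [Matrix.charpoly_natDegree_eq_dim, Fintype.card_fin]; omega)
    (fun hi => hnf (detFull_comp_irreducible a hi))
  have hdeg := congrArg natDegree hf
  rw [Matrix.charpoly_natDegree_eq_dim, Fintype.card_fin, hp.natDegree_mul hh] at hdeg
  by_contra hlt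
  have h1 : p.natDegree = 1 := by omega
  refine hr (-p.coeff 0) ?_
  rw [Polynomial.IsRoot, hf, eval_mul, hp.eq_X_add_C h1]
  simp

theorem rootless_of_glSimE {ι κ : Type*} [Fintype ι] [DecidableEq ι] [Fintype κ] [DecidableEq κ]
    {x : Matrix ι ι F} {y : Matrix κ κ F} (hs : GLSimE x y) (hr : Rootless x) : Rootless y := by
  obtain ⟨e, he⟩ := hs
  intro r h
  rw [← charpoly_eq_of_glSim he, Matrix.charpoly_reindex] at h
  exact hr r h

theorem rootless_blocks {ι κ : Type*} [Fintype ι] [DecidableEq ι] [Fintype κ] [DecidableEq κ] {A : Matrix ι ι F}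
    {B : Matrix κ κ F} {X0 : Matrix ι κ F} (hr : Rootless (fromBlocks A X0 0 B)) : Rootless A ∧ Rootless B := by
  refine ⟨fun r h => hr r ?_, fun r h => hr r ?_⟩ <;>
    simp [Polynomial.IsRoot.def, Matrix.charpoly_fromBlocks_zero₂₁, eval_mul, h.eq_zero]

/-- The tail of a chain without eigenvalues. -/
theorem rootless_tail (hq : 4 ≤ Fintype.card F) [DecidableEq F] {m : ℕ} {x : Matrix (Fin m) (Fin m) F} (hc : Chain x) :
    x.det ≠ 0 → ¬ DetFull x → Rootless x → ∀ u : F, u ≠ 0 →
      (∃ S, LowPair x S ∧ u ∉ S ∧ ¬ S.Nodup) ∧ (∃ S, LowPair x S ∧ S.count u = 1) := by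
  induction hc with
  | @one n d x a hd h =>
    intro hx hnf hr u hu
    have ha : (comp a).det ≠ 0 := h.det_eq' ▸ hx
    have hr' := rootless_of_glSimE h hr
    obtain ⟨k, rfl⟩ : ∃ k, d = k + 2 :=
      ⟨d - 2, by have := rootless_size hd a (fun hf => hnf (hf.of_glSimE h)) hr'; omega⟩
    obtain ⟨S, hS, hP, hu', hnd⟩ := exists_avoid_spec hq u (pow_ne_zero 2 ha) (k := k + 3) (by omega)
    obtain ⟨S', hS', hP', hu''⟩ := exists_simple_spec hq hu (pow_ne_zero 2 ha) (k := k + 3) (by omega)
    exact ⟨⟨S, HasPair.of_glSimE (lowPair_spec (by omega) a ha hr' hS hP) h, hu', hnd⟩,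
      S', HasPair.of_glSimE (lowPair_spec (by omega) a ha hr' hS' hP') h, hu''⟩
  | @cons n d m x a hd x2 h _ _ ih =>
    intro hx hnf hr u hu
    have hdet := h.det_eq'
    rw [Matrix.det_fromBlocks_zero₂₁] at hdet
    have ha : (comp a).det ≠ 0 := left_ne_zero_of_mul (hdet ▸ hx)
    obtain ⟨hra, hr2⟩ := rootless_blocks (rootless_of_glSimE h hr)
    obtain ⟨⟨S2, hS2, hu2, hnd2⟩, -⟩ := ih (right_ne_zero_of_mul (hdet ▸ hx))
      (fun hf => hnf ((DetFull.blocks_right _ hf).of_glSimE h)) hr2 u hu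
    obtain ⟨k, rfl⟩ : ∃ k, d = k + 2 :=
      ⟨d - 2, by have := rootless_size hd a (fun hf => hnf ((hf.blocks_left x2).of_glSimE h)) hra; omega⟩
    obtain ⟨S, hS, hP, hu', hnd⟩ := exists_avoid_spec hq u (pow_ne_zero 2 ha) (k := k + 3) (by omega)
    obtain ⟨S', hS', hP', hu''⟩ := exists_simple_spec hq hu (pow_ne_zero 2 ha) (k := k + 3) (by omega)
    refine ⟨⟨S + S2, HasPair.of_glSimE (LowPair.glue 0 ha (lowPair_spec (by omega) a ha hra hS hP) hS2) h, ?_, ?_⟩,
      S' + S2, HasPair.of_glSimE (LowPair.glue 0 ha (lowPair_spec (by omega) a ha hra hS' hP') hS2) h, ?_⟩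
    · simp [hu', hu2]
    · exact fun hn => hnd (Multiset.nodup_of_le (Multiset.le_add_right S S2) hn)
    · rw [Multiset.count_add, hu'', Multiset.count_eq_zero.2 hu2]

/-- Spectra with every value simple somewhere, and one simple value with a repetition: two classes. -/
theorem twoSpec_of_all_simple (hq : 4 ≤ Fintype.card F) [DecidableEq F] {n : ℕ} (hn : 2 ≤ n)
    {x : Matrix (Fin n) (Fin n) F} (hxd : x.det ≠ 0)
    (h0 : ∃ S, FreePair x S ∧ ¬ S.Nodup ∧ ∃ u, S.count u = 1)
    (hall : ∀ u : F, u ≠ 0 → ∃ S, FreePair x S ∧ S.count u = 1) : TwoSpec (FullSpec x) := by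
  obtain ⟨S0, hS0, hnd, u0, hu0⟩ := h0
  obtain ⟨u, hu, hcount⟩ : ∃ u : F, u ≠ 0 ∧ S0.count u ≠ 1 := by
    by_contra hc
    push Not at hc
    refine hnd (Multiset.nodup_iff_count_le_one.2 fun c => ?_)
    by_cases hc0 : c = 0
    · subst hc0
      rw [Multiset.count_eq_zero.2]
      · omega
      · intro hm
        have := Multiset.prod_eq_zero hm
        rw [hS0.card_prod.2] at this
        exact pow_ne_zero 2 hxd this
    · exact (hc c hc0).le
  obtain ⟨S, hS, hcu⟩ := hall u hu
  exact ⟨S0, S, fun e => hcount (e ▸ hcu), hS0.fullSpec hn hxd hu0, hS.fullSpec hn hxd hcu⟩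

/-- A quadratic block without roots and with nonzero trace: the double spectrum `-det`. -/
theorem lowPair_quad_double (a : Fin 2 → F) (ha : (comp a).det ≠ 0) (hr : Rootless (comp a))
    (h2 : (2 : F) ≠ 0) (ha1 : a 1 ≠ 0) : LowPair (comp a) (-(comp a).det ::ₘ {-(comp a).det}) := by
  set D := (comp a).det with hD
  obtain ⟨y, M, T, hy, hM, hyM, htri, hdiag, -, hyrev, htr⟩ := exists_hess_pair a ha
    (!![-D, 0; 0, -D]) (fun i j hij => by fin_cases i <;> fin_cases j <;> simp at hij ⊢)
    (fun i => by fin_cases i <;> simpa using ha) (by simp [Fin.prod_univ_two]; ring)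
  have h00 : T 0 0 = -D := by rw [hdiag]; simp
  have h11 : T 1 1 = -D := by rw [hdiag]; simp
  have h01 : T 0 1 ≠ 0 := by
    intro e
    have ha0 : a 0 ≠ 0 := fun e' => ha (by rw [hD, det_comp_two, e', neg_zero])
    have hY : (revComp a) * (revComp a)⁻¹ = 1 :=
      Matrix.mul_nonsing_inv _ (isUnit_iff_ne_zero.2 ((glSim_revComp a).det_eq ▸ ha))
    have r00 := congrFun (congrFun hY 0) 1
    have r10 := congrFun (congrFun hY 1) 1
    have c11 : revComp a 1 1 = 0 := by simp [revComp, comp, Fin.ext_iff, Fin.rev]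
    have c10 : revComp a 1 0 = a 0 := by simp [revComp, comp, Fin.ext_iff, Fin.rev]
    have c00 : revComp a 0 0 = a 1 := by simp [revComp, comp, Fin.ext_iff, Fin.rev]
    have c01 : revComp a 0 1 = 1 := by simp [revComp, comp, Fin.ext_iff, Fin.rev]
    rw [Matrix.mul_apply, Fin.sum_univ_two, c00, c01] at r00
    rw [Matrix.mul_apply, Fin.sum_univ_two, c10, c11] at r10
    simp at r00 r10
    simp [Fin.sum_univ_two, e, h11] at htr
    refine mul_ne_zero h2 ha1 (mul_left_cancel₀ ha0 (?_ : a 0 * (2 * a 1) = a 0 * 0))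
    rw [hD, det_comp_two] at htr
    linear_combination a 0 * htr + (a 0) ^ 2 * r00 - a 0 * a 1 * r10
  obtain ⟨hc, hp⟩ := upper_two_cyclic T (htri 1 0 (by decide)) h01
  rw [h00, h11] at hp
  exact lowPair_of_rootless hr ⟨y, M, hy, hM,
    ⟨hyM ▸ hc, hyM ▸ hp, fun _ _ => Set.mem_univ _, fun _ _ => Set.mem_univ _⟩⟩

theorem oneRoot_of_rootless (a : Fin 2 → F) (hr : Rootless (comp a)) : OneRoot a := fun r _ h => (hr r h).elim

/-- The spectra of one reducible block of size four. -/
theorem coeff_two (a : Fin 2 → F) : (comp a).charpoly.eval 0 = -a 0 ∧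
    (comp a).charpoly.eval 1 = 1 - a 1 - a 0 := by
  constructor <;> rw [charpoly_comp_two_eval] <;> ring

/-- Fields of at least six elements: spectra of the second quadratic factor avoiding a value. -/
theorem quad_avoid (hq : 6 ≤ Fintype.card F) (a : Fin 2 → F) (ha : (comp a).det ≠ 0) (hns : OneRoot a) (u : F) :
    ∃ b : F, b ≠ u ∧ (comp a).det ^ 2 / b ≠ u ∧ LowPair (comp a) (b ::ₘ {(comp a).det ^ 2 / b}) := by
  classical
  set D := (comp a).det
  obtain ⟨b, -, hb⟩ := Finset.exists_mem_notMem_of_card_lt_card (t := (Finset.univ : Finset F))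
    (s := {0, D, -D, u, D ^ 2 / u}) (lt_of_le_of_lt Finset.card_le_five (by rw [Finset.card_univ]; omega))
  simp only [Finset.mem_insert, Finset.mem_singleton, not_or] at hb
  obtain ⟨h0, hD, hD', hu, hc⟩ := hb
  refine ⟨b, hu, fun e => ?_, lowPair_quad a ha hns (fun e => ?_) h0⟩
  · subst e
    exact hc (by field_simp [show D ≠ 0 from ha])
  · exact (mul_eq_zero.1 (show (b - D) * (b + D) = 0 by linear_combination e)).elim
      (fun h => hD (sub_eq_zero.1 h)) fun h => hD' (eq_neg_of_add_eq_zero_left h)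

theorem detFull_comp_squarefree {d : ℕ} (a : Fin (d + 1) → F) (h : Squarefree (comp a).charpoly) :
    DetFull (comp a) := by
  intro δ _
  have hs : Module.End.IsSemisimple (Matrix.toLinAlgEquiv' (comp a)) :=
    Module.End.isSemisimple_of_squarefree_aeval_eq_zero h
      ((Polynomial.aeval_algHom_apply (Matrix.toLinAlgEquiv' : Matrix (Fin (d + 1)) (Fin (d + 1)) F ≃ₐ[F] _).toAlgHom
        (comp a) _).trans (by rw [Matrix.aeval_self_charpoly, map_zero]))
  obtain ⟨Z, hZ, hd⟩ := Classical.SemisimpleDet.exists_commute_det _ hs δ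
  refine ⟨Matrix.toLinAlgEquiv'.symm Z, ?_, ?_⟩
  · rw [← hd]
    exact LinearMap.det_toMatrix' _
  · have := congrArg Matrix.toLinAlgEquiv'.symm hZ.eq
    simpa using this

/-- Five elements: two spectra of quadratic factors are equal or disjoint. -/
theorem quad_sets_five (h5 : Fintype.card F = 5) {D E b c u : F} (hD : D ≠ 0) (hE : E ≠ 0) (hb0 : b ≠ 0)
    (hb : b * b ≠ D ^ 2) (hc0 : c ≠ 0) (hc : c * c ≠ E ^ 2) (h1 : u ∈ b ::ₘ ({D ^ 2 / b} : Multiset F))
    (h2 : u ∈ c ::ₘ ({E ^ 2 / c} : Multiset F))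
    (hne : ¬ ((b = c ∨ b = E ^ 2 / c) ∧ (D ^ 2 / b = c ∨ D ^ 2 / b = E ^ 2 / c))) : False := by
  simp at h1 h2
  have hsq : ∀ {y : F}, y ≠ 0 → y ^ 2 * y ^ 2 = 1 := fun {y} hy => by
    linear_combination card_five_pow h5 hy
  -- the square of an admissible value is determined by the determinant
  have key : ∀ {D b : F}, D ≠ 0 → b ≠ 0 → b * b ≠ D ^ 2 → b * b = -(D ^ 2) ∧ D ^ 2 / b = -b := by
    intro D b hD hb0 hb
    have e : (b * b - D ^ 2) * (b * b + D ^ 2) = 0 := by linear_combination hsq hb0 - hsq hD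
    have e' := (mul_eq_zero.1 e).resolve_left (sub_ne_zero.2 hb)
    refine ⟨by linear_combination e', ?_⟩
    rw [div_eq_iff hb0]
    linear_combination e'
  obtain ⟨eb, eb'⟩ := key hD hb0 hb
  obtain ⟨ec, ec'⟩ := key hE hc0 hc
  rw [eb'] at h1 hne
  rw [ec'] at h2 hne
  refine hne ?_
  rcases h1 with rfl | rfl <;> rcases h2 with h2 | h2
  · subst h2; simp
  · subst h2; simp
  · subst h2; simp
  · obtain rfl : b = c := neg_injective h2
    simp

theorem card_field_cases (hq : 4 ≤ Fintype.card F) :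
    Fintype.card F = 4 ∨ Fintype.card F = 5 ∨ Fintype.card F = 7 ∨ 8 ≤ Fintype.card F := by
  by_cases h6 : Fintype.card F = 6
  · exfalso
    have := FiniteField.isPrimePow_card F
    rw [h6, isPrimePow_nat_iff] at this
    obtain ⟨p, k, hp, hk, e⟩ := this
    have h2 : 2 ∣ p ^ k := by rw [e]; norm_num
    have h3 : 3 ∣ p ^ k := by rw [e]; norm_num
    have e2 := (Nat.prime_dvd_prime_iff_eq Nat.prime_two hp).1 (Nat.prime_two.dvd_of_dvd_pow h2)
    have e3 := (Nat.prime_dvd_prime_iff_eq Nat.prime_three hp).1 (Nat.prime_three.dvd_of_dvd_pow h3)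
    omega
  · omega

set_option synthInstance.maxSize 2048 in
theorem triples_zmod : ∀ u P : ZMod 5, u ≠ 0 → P ≠ 0 → ∃ a b c d e : ZMod 5,
    (a ≠ 0 ∧ b ≠ 0 ∧ c ≠ 0 ∧ d ≠ 0 ∧ e ≠ 0) ∧ (a ≠ u ∧ b ≠ u ∧ c ≠ u ∧ d ≠ u ∧ e ≠ u) ∧
      a * a * b = P ∧ c * (d * e) = P ∧ ({a, a, b} : Multiset (ZMod 5)) ≠ {c, d, e} := by decide

/-- Three units off a value with a given product, in two ways: five elements. -/
theorem exists_triples_five (h5 : Fintype.card F = 5) {u P : F} (hu : u ≠ 0) (hP : P ≠ 0) :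
    ∃ R R' : Multiset F, R ≠ R' ∧ R.card = 3 ∧ R'.card = 3 ∧ R.prod = P ∧ R'.prod = P ∧ u ∉ R ∧ u ∉ R' ∧
      (0 : F) ∉ R ∧ (0 : F) ∉ R' := by
  classical
  haveI : Fact (Nat.Prime 5) := ⟨by norm_num⟩
  have h0 : ((5 : ℕ) : F) = 0 := by rw [← h5]; exact Nat.cast_card_eq_zero F
  haveI : CharP F 5 := (CharP.charP_iff_prime_eq_zero (by norm_num : Nat.Prime 5)).2 h0
  let φ : ZMod 5 →+* F := ZMod.castHom (dvd_refl 5) F
  have hbij : Function.Bijective φ :=
    (Fintype.bijective_iff_injective_and_card φ).2 ⟨φ.injective, by rw [ZMod.card, h5]⟩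
  obtain ⟨u', rfl⟩ := hbij.2 u
  obtain ⟨P', rfl⟩ := hbij.2 P
  obtain ⟨a, b, c, d, e, ⟨a0, b0, c0, d0, e0⟩, ⟨au, bu, cu, du, eu⟩, h1, h2, hne⟩ :=
    triples_zmod u' P' (fun h => hu (by rw [h, map_zero])) (fun h => hP (by rw [h, map_zero]))
  refine ⟨Multiset.map φ {a, a, b}, Multiset.map φ {c, d, e}, fun h => hne (Multiset.map_injective φ.injective h),
    by simp, by simp, ?_, ?_, ?_, ?_, ?_, ?_⟩
  · simp [← h1, mul_assoc]
  · simp [← h2]
  · simp [φ.injective.eq_iff, Ne.symm au, Ne.symm bu]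
  · simp [φ.injective.eq_iff, Ne.symm cu, Ne.symm du, Ne.symm eu]
  · simp [Ne.symm, a0, b0]
  · simp [Ne.symm, c0, d0, e0]

/-- Five elements: two tails with a simple value. -/
theorem rootless_tail_two (h5 : Fintype.card F = 5) [DecidableEq F] {m : ℕ} {x : Matrix (Fin m) (Fin m) F}
    (hc : Chain x) (hx : x.det ≠ 0) (hnf : ¬ DetFull x) (hr : Rootless x) {u : F} (hu : u ≠ 0) :
    ∃ S S', S ≠ S' ∧ LowPair x S ∧ LowPair x S' ∧ S.count u = 1 ∧ S'.count u = 1 := by
  have hq : 4 ≤ Fintype.card F := by omega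
  have block : ∀ {d : ℕ} (a : Fin (d + 1) → F), 2 ≤ d + 1 → (comp a).det ≠ 0 → ¬ DetFull (comp a) →
      Rootless (comp a) → ∃ S S', S ≠ S' ∧ LowPair (comp a) S ∧ LowPair (comp a) S' ∧ S.count u = 1 ∧
        S'.count u = 1 := by
    intro d a hd ha hnf' hr'
    obtain ⟨k, rfl⟩ : ∃ k, d = k + 3 := ⟨d - 3, by have := rootless_size hd a hnf' hr'; omega⟩
    obtain ⟨s, hs, hsu⟩ := exists_unit_ne (by omega : 3 ≤ Fintype.card F) u
    obtain ⟨R, R', hne, hc1, hc2, hp1, hp2, hu1, hu2, -, -⟩ := exists_triples_five h5 hu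
      (P := (comp a).det ^ 2 / (u * s ^ k)) (div_ne_zero (pow_ne_zero _ ha) (mul_ne_zero hu (pow_ne_zero _ hs)))
    refine ⟨u ::ₘ (R + Multiset.replicate k s), u ::ₘ (R' + Multiset.replicate k s), fun e => hne ?_,
      lowPair_spec (m := k + 1) (by omega) a ha hr' (by simp [hc1]; omega) ?_,
      lowPair_spec (m := k + 1) (by omega) a ha hr' (by simp [hc2]; omega) ?_, ?_, ?_⟩
    · exact add_right_cancel ((Multiset.cons_inj_right u).1 e)
    · simp only [Multiset.prod_cons, Multiset.prod_add, Multiset.prod_replicate, hp1]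
      field_simp
    · simp only [Multiset.prod_cons, Multiset.prod_add, Multiset.prod_replicate, hp2]
      field_simp
    · rw [Multiset.count_cons_self, Multiset.count_add, Multiset.count_eq_zero.2 hu1,
        Multiset.count_replicate, if_neg hsu]
    · rw [Multiset.count_cons_self, Multiset.count_add, Multiset.count_eq_zero.2 hu2,
        Multiset.count_replicate, if_neg hsu]
  cases hc with
  | @one n d x a hd h =>
    obtain ⟨S, S', hne, h1, h2, e1, e2⟩ := block a hd (h.det_eq' ▸ hx) (fun hf => hnf (hf.of_glSimE h))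
      (rootless_of_glSimE h hr)
    exact ⟨S, S', hne, HasPair.of_glSimE h1 h, HasPair.of_glSimE h2 h, e1, e2⟩
  | @cons n d m x a hd x2 h hc2 hann =>
    have hdet := h.det_eq'
    rw [Matrix.det_fromBlocks_zero₂₁] at hdet
    have ha : (comp a).det ≠ 0 := left_ne_zero_of_mul (hdet ▸ hx)
    obtain ⟨hra, hr2⟩ := rootless_blocks (rootless_of_glSimE h hr)
    obtain ⟨S, S', hne, h1, h2, e1, e2⟩ := block a hd ha (fun hf => hnf ((hf.blocks_left x2).of_glSimE h)) hra
    obtain ⟨⟨S2, hS2, hu2, -⟩, -⟩ := rootless_tail hq hc2 (right_ne_zero_of_mul (hdet ▸ hx))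
      (fun hf => hnf ((DetFull.blocks_right _ hf).of_glSimE h)) hr2 u hu
    exact ⟨S + S2, S' + S2, fun e => hne (add_right_cancel e),
      HasPair.of_glSimE (LowPair.glue 0 ha h1 hS2) h, HasPair.of_glSimE (LowPair.glue 0 ha h2 hS2) h,
      by rw [Multiset.count_add, e1, Multiset.count_eq_zero.2 hu2],
      by rw [Multiset.count_add, e2, Multiset.count_eq_zero.2 hu2]⟩

theorem count_pair [DecidableEq F] {b c : F} (h : b ≠ c) : (b ::ₘ {c}).count b = 1 ∧ (b ::ₘ {c}).count c = 1 := by
  simp [h, Ne.symm h]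

/-- One reducible block of size four without eigenvalues. -/
theorem rootless_four (hq : 4 ≤ Fintype.card F) {n : ℕ} {x : Matrix (Fin n) (Fin n) F} (hx : x.det = 1)
    (hnf : ¬ DetFull x) {a : Fin 4 → F} (hs : GLSimE x (comp a)) (hr : Rootless (comp a))
    {g : Matrix (Fin n) (Fin n) F} (hg : Nonscalar g) (hgd : g.det = 1) :
    ∃ z : F, z ^ n = 1 ∧ InPow x 4 (z • g) := by
  classical
  obtain rfl : n = 4 := by simpa using Fintype.card_congr hs.choose
  have hxd : x.det ≠ 0 := by rw [hx]; exact one_ne_zero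
  have hnf' : ¬ DetFull (comp a) := fun hf => hnf (hf.of_glSimE hs)
  have q4 : Fintype.card F ≠ 4 := fun h => hnf' (detFull_four_of_card_four h a)
  obtain ⟨p, h, hp, hh, hf, hpi, hp1, hle, hroot⟩ := exists_min_factor (comp a).charpoly_monic
    (by rw [Matrix.charpoly_natDegree_eq_dim, Fintype.card_fin]; omega)
    (fun hi => hnf' (detFull_comp_irreducible a hi))
  have hdeg := congrArg natDegree hf
  rw [Matrix.charpoly_natDegree_eq_dim, Fintype.card_fin, hp.natDegree_mul hh] at hdeg
  have hp2 : p.natDegree = 2 := by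
    by_contra h2
    refine hr (-p.coeff 0) ?_
    rw [Polynomial.IsRoot, hf, eval_mul, hp.eq_X_add_C (by omega : p.natDegree = 1)]
    simp
  have hrh : ∀ r, ¬ h.IsRoot r := fun r hr' => hr r (by rw [Polynomial.IsRoot, hf, eval_mul, hr'.eq_zero, mul_zero])
  have hhi : Irreducible h := (Monic.irreducible_iff_roots_eq_zero_of_degree_le_three hh (by omega) (by omega)).2
    (Multiset.eq_zero_of_forall_notMem fun r hr' => hrh r (Polynomial.isRoot_of_mem_roots hr'))
  -- both factors are equal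
  obtain rfl : h = p := by
    by_contra hne
    refine hnf' (detFull_comp_squarefree a ?_)
    rw [hf]
    have hcop : IsCoprime p h := (hpi.coprime_iff_not_dvd).2 fun hd =>
      hne ((eq_of_monic_of_associated hp hh (hpi.associated_of_dvd hhi hd)).symm)
    exact squarefree_mul_iff.2 ⟨hcop.isRelPrime, hpi.squarefree, hhi.squarefree⟩
  obtain ⟨ap, ah, X0, hap, hah, hs2⟩ := exists_split a hp hh hf (e := 1) (m := 1) hp2 hp2
  obtain rfl : ap = ah := by
    obtain ⟨e0, e1⟩ := coeff_two ap
    obtain ⟨f0, f1⟩ := coeff_two ah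
    rw [hap] at e0 e1
    rw [hah] at f0 f1
    funext i
    fin_cases i
    · simp only [Fin.zero_eta]; linear_combination e0 - f0
    · simp only [Fin.mk_one]; linear_combination e1 - f1 - e0 + f0
  set D := (comp ap).det with hDdef
  have hrp : Rootless (comp ap) := fun r hr' => hr r (by
    rw [Polynomial.IsRoot, hf, eval_mul, ← hap, hr'.eq_zero, zero_mul])
  have hdet := hs2.det_eq'
  rw [Matrix.det_fromBlocks_zero₂₁, ← hs.det_eq', hx] at hdet
  have hD2 : D ^ 2 = 1 := by rw [sq]; exact hdet.symm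
  have hD : D ≠ 0 := fun e => by rw [e] at hD2; simp at hD2
  have hns : OneRoot ap := oneRoot_of_rootless ap hrp
  have hfree : ∀ {SA SB : Multiset F}, LowPair (comp ap) SA → LowPair (comp ap) SB → FreePair x (SA + SB) :=
    fun {SA SB} hA hB => (((FreePair.of_detFull (detFull_comp_irreducible ap (hap ▸ hpi)) hA).glue X0 hD hB).of_glSimE
      hs2).of_glSimE hs
  rcases card_field_cases hq with h | h5 | h7 | h8
  · exact absurd h q4
  · -- five elements
    have h2 := two_ne_zero_of_card_five h5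
    have ha1 : ap 1 ≠ 0 := by
      intro ha1
      have hsq : D = 1 ∨ D = -1 := mul_self_eq_one_iff.1 (by rw [← sq]; exact hD2)
      have h50 : (5 : F) = 0 := by
        have := Nat.cast_card_eq_zero F; rw [h5] at this; exact_mod_cast this
      rcases hsq with e | e
      · refine hrp 2 ?_
        rw [Polynomial.IsRoot, charpoly_comp_two_eval, ha1]
        rw [hDdef, det_comp_two] at e
        linear_combination h50 + e
      · refine hrp 1 ?_
        rw [Polynomial.IsRoot, charpoly_comp_two_eval, ha1]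
        rw [hDdef, det_comp_two] at e
        linear_combination e
    obtain ⟨b, hb0, hb⟩ := exists_admissible hq D
    have hlowA := lowPair_quad ap hD hns hb hb0
    have hlowB := lowPair_quad_double ap hD hrp h2 ha1
    have hbc : b ≠ D ^ 2 / b := fun e => hb (by rw [eq_div_iff hb0] at e; exact e)
    have hbD : b ≠ -D := fun e => hb (by rw [e]; ring)
    have hcD : D ^ 2 / b ≠ -D := fun e => hbD (by
      rw [div_eq_iff hb0] at e
      exact mul_left_cancel₀ (neg_ne_zero.2 hD) (by linear_combination -e))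
    have hcount : ((b ::ₘ {D ^ 2 / b}) + (-D ::ₘ {-D})).count b = 1 := by simp [hbc, hbD]
    refine cover_of_fullSpec hq hx ((hfree hlowA hlowB).fullSpec (by norm_num) hxd hcount) hg hgd fun s u w _ => ?_
    set S := (b ::ₘ {D ^ 2 / b}) + (-D ::ₘ ({-D} : Multiset F)) with hS
    by_cases e1 : S.map (fun c => 1 * s / c) = S
    swap
    · exact ⟨1, one_pow _, Or.inl ⟨S, (hfree hlowA hlowB).fullSpec (by norm_num) hxd hcount, e1⟩⟩
    refine ⟨-1, by norm_num, Or.inl ⟨S, (hfree hlowA hlowB).fullSpec (by norm_num) hxd hcount, fun e2 => ?_⟩⟩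
    have hneg : S.map (fun c => -c) = S := by
      conv_lhs => rw [← e1]
      rw [Multiset.map_map]
      refine Eq.trans (Multiset.map_congr rfl fun c _ => ?_) e2
      simp only [Function.comp_apply]
      ring
    have hm : -(-D) ∈ S := hneg ▸ Multiset.mem_map_of_mem _ (by simp [hS])
    rw [neg_neg, hS] at hm
    simp only [Multiset.mem_add, Multiset.mem_cons, Multiset.mem_singleton] at hm
    rcases hm with (e | e) | (e | e)
    · exact hb (by rw [← e]; ring)
    · rw [eq_div_iff hb0] at e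
      exact hb (by rw [mul_left_cancel₀ hD (e.trans (sq D))]; ring)
    all_goals exact hD ((mul_eq_zero.1 (show (2 : F) * D = 0 by linear_combination e)).resolve_left h2)
  · -- seven elements
    have h2 : (2 : F) ≠ 0 := fun h2 => by
      have h70 : (7 : F) = 0 := by
        have := Nat.cast_card_eq_zero F; rw [h7] at this; exact_mod_cast this
      exact one_ne_zero (α := F) (by linear_combination h70 - 3 * h2)
    by_cases ha1 : ap 1 = 0
    · refine cover_of_two hq hx (twoSpec_seven h7 hs ?_) hg hgd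
      have h70 : (7 : F) = 0 := by
        have := Nat.cast_card_eq_zero F; rw [h7] at this; exact_mod_cast this
      have hsq : D = 1 ∨ D = -1 := mul_self_eq_one_iff.1 (by rw [← sq]; exact hD2)
      rcases hsq with e | e
      · rw [hf, ← hap, charpoly_comp', compPoly, Fin.sum_univ_two, ha1]
        rw [hDdef, det_comp_two] at e
        rw [show ap 0 = -1 by linear_combination -e]
        simp only [map_neg, map_one, map_zero, Fin.val_zero, Fin.val_one, pow_zero, zero_mul, add_zero]
        ring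
      · refine absurd ?_ (hrp 1)
        rw [Polynomial.IsRoot, charpoly_comp_two_eval, ha1]
        rw [hDdef, det_comp_two] at e
        linear_combination e
    · obtain ⟨S, S', hne, h1, h2'⟩ := lowTwo_quad (by omega) ap hD hns
      have hlowB := lowPair_quad_double ap hD hrp h2 ha1
      refine cover_of_two hq hx ?_ hg hgd
      obtain ⟨b, hb0, hb⟩ := exists_admissible hq D
      obtain ⟨b', hb'0, hb', hb'b, hb'c⟩ : ∃ b' : F, b' ≠ 0 ∧ b' * b' ≠ D ^ 2 ∧ b' ≠ b ∧ b' ≠ D ^ 2 / b := by
        obtain ⟨b', -, hb'⟩ := Finset.exists_mem_notMem_of_card_lt_card (t := (Finset.univ : Finset F))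
          (s := {0, D, -D, b, D ^ 2 / b}) (lt_of_le_of_lt Finset.card_le_five (by rw [Finset.card_univ]; omega))
        simp only [Finset.mem_insert, Finset.mem_singleton, not_or] at hb'
        exact ⟨b', hb'.1, fun e => (mul_eq_zero.1 (show (b' - D) * (b' + D) = 0 by linear_combination e)).elim
          (fun h => hb'.2.1 (sub_eq_zero.1 h)) (fun h => hb'.2.2.1 (eq_neg_of_add_eq_zero_left h)), hb'.2.2.2⟩
      have hcount : ∀ c : F, c ≠ 0 → c * c ≠ D ^ 2 → ((c ::ₘ {D ^ 2 / c}) + (-D ::ₘ {-D})).count c = 1 :=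
        fun c hc0 hc => by
          have h1 : c ≠ D ^ 2 / c := fun e => hc (by rw [eq_div_iff hc0] at e; exact e)
          have h2 : c ≠ -D := fun e => hc (by rw [e]; ring)
          simp [h1, h2]
      refine ⟨_, _, fun e => ?_, (hfree (lowPair_quad ap hD hns hb hb0) hlowB).fullSpec (by norm_num) hxd (hcount b hb0 hb),
        (hfree (lowPair_quad ap hD hns hb' hb'0) hlowB).fullSpec (by norm_num) hxd (hcount b' hb'0 hb')⟩
      have hm : b' ∈ b ::ₘ {D ^ 2 / b} := (add_right_cancel e).symm ▸ Multiset.mem_cons_self _ _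
      simp at hm
      exact hm.elim hb'b hb'c
  · -- at least eight elements: three disjoint spectra
    obtain ⟨b, hb0, hb⟩ := exists_admissible hq D
    set c := D ^ 2 / b with hcdef
    clear_value c
    obtain ⟨b1, -, hb1⟩ := Finset.exists_mem_notMem_of_card_lt_card (t := (Finset.univ : Finset F))
      (s := {0, D, -D, b, c}) (lt_of_le_of_lt Finset.card_le_five (by rw [Finset.card_univ]; omega))
    obtain ⟨b2, -, hb2⟩ := Finset.exists_mem_notMem_of_card_lt_card (t := (Finset.univ : Finset F))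
      (s := {0, D, -D, b, c, b1, D ^ 2 / b1}) (lt_of_le_of_lt ((Finset.card_insert_le _ _).trans
        (Nat.succ_le_succ Finset.card_le_six)) (by rw [Finset.card_univ]; omega))
    simp only [Finset.mem_insert, Finset.mem_singleton, not_or] at hb1 hb2
    have hadm : ∀ e : F, e ≠ D → e ≠ -D → e * e ≠ D ^ 2 := fun e h1 h2 h =>
      (mul_eq_zero.1 (show (e - D) * (e + D) = 0 by linear_combination h)).elim
        (fun h' => h1 (sub_eq_zero.1 h')) (fun h' => h2 (eq_neg_of_add_eq_zero_left h'))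
    have hA := lowPair_quad ap hD hns hb hb0
    rw [← hDdef, ← hcdef] at hA
    have hbc : b ≠ c := fun e => hb (by rw [hcdef, eq_div_iff hb0] at e; exact e)
    have key : ∀ e : F, e ≠ 0 → e ≠ D → e ≠ -D → e ≠ b → e ≠ c →
        FullSpec x ((b ::ₘ {c}) + (e ::ₘ {D ^ 2 / e})) := fun e e0 e1 e2 e3 e4 => by
      refine (hfree hA (lowPair_quad ap hD hns (hadm e e1 e2) e0)).fullSpec (by norm_num) hxd (s := b) ?_
      have h' : b ≠ D ^ 2 / e := fun he => e4 (by rw [eq_div_iff e0] at he; rw [hcdef, eq_div_iff hb0]; linear_combination he)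
      simp [hbc, Ne.symm e3, show b ≠ (comp ap).det ^ 2 / e from h']
    refine cover_of_two hq hx ⟨_, _, fun e => ?_, key b1 hb1.1 hb1.2.1 hb1.2.2.1 hb1.2.2.2.1 hb1.2.2.2.2,
      key b2 hb2.1 hb2.2.1 hb2.2.2.1 hb2.2.2.2.1 hb2.2.2.2.2.1⟩ hg hgd
    have hm : b2 ∈ b1 ::ₘ {D ^ 2 / b1} := (add_left_cancel e).symm ▸ Multiset.mem_cons_self _ _
    simp at hm
    exact hm.elim hb2.2.2.2.2.2.1 hb2.2.2.2.2.2.2

/-- A head block without eigenvalues. -/
theorem rootless_cover (hq : 4 ≤ Fintype.card F) {n d : ℕ} {x : Matrix (Fin n) (Fin n) F} (a : Fin (d + 3) → F)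
    (htail : GLSimE x (comp a) ∨ ∃ (m : ℕ) (x2 : Matrix (Fin m) (Fin m) F),
      GLSimE x (fromBlocks (comp a) 0 0 x2) ∧ Chain x2)
    (hr : Rootless x) (hx : x.det = 1) (hnf : ¬ DetFull x) {g : Matrix (Fin n) (Fin n) F} (hg : Nonscalar g)
    (hgd : g.det = 1) : ∃ z : F, z ^ n = 1 ∧ InPow x 4 (z • g) := by
  classical
  have hxd : x.det ≠ 0 := by rw [hx]; exact one_ne_zero
  -- the block, and the ways of completing a free pair on it
  obtain ⟨hra, hnf', ha, hn⟩ : Rootless (comp a) ∧ ¬ DetFull (comp a) ∧ (comp a).det ≠ 0 ∧ d + 3 ≤ n := by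
    rcases htail with h | ⟨m, x2, h, -⟩
    · exact ⟨rootless_of_glSimE h hr, fun hf => hnf (hf.of_glSimE h), h.det_eq' ▸ hxd,
        le_of_eq (by simpa using (Fintype.card_congr h.choose).symm)⟩
    · have hdet := h.det_eq'
      rw [Matrix.det_fromBlocks_zero₂₁] at hdet
      refine ⟨(rootless_blocks (rootless_of_glSimE h hr)).1, fun hf => hnf ((hf.blocks_left x2).of_glSimE h),
        left_ne_zero_of_mul (hdet ▸ hxd), ?_⟩
      have := Fintype.card_congr h.choose
      simp only [Fintype.card_fin, Fintype.card_sum] at this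
      omega
  obtain ⟨p, h, hp, hh, hf, hpi, hp1, hle, hroot⟩ := exists_min_factor (comp a).charpoly_monic
    (by rw [Matrix.charpoly_natDegree_eq_dim, Fintype.card_fin]; omega)
    (fun hi => hnf' (detFull_comp_irreducible a hi))
  have hdeg := congrArg natDegree hf
  rw [Matrix.charpoly_natDegree_eq_dim, Fintype.card_fin, hp.natDegree_mul hh] at hdeg
  have hp2 : 2 ≤ p.natDegree := by
    by_contra h2
    refine hra (-p.coeff 0) ?_
    rw [Polynomial.IsRoot, hf, eval_mul, hp.eq_X_add_C (by omega : p.natDegree = 1)]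
    simp
  obtain ⟨e, he⟩ : ∃ e, p.natDegree = e + 2 := ⟨p.natDegree - 2, by omega⟩
  obtain ⟨m, hm⟩ : ∃ m, h.natDegree = m + 2 := ⟨h.natDegree - 2, by omega⟩
  obtain ⟨ap, ah, X0, hap, hah, hs2⟩ := exists_split a hp hh hf (e := e + 1) (m := m + 1) he hm
  have hdet2 := hs2.det_eq'
  rw [Matrix.det_fromBlocks_zero₂₁] at hdet2
  have hdp : (comp ap).det ≠ 0 := left_ne_zero_of_mul (hdet2 ▸ ha)
  have hdh : (comp ah).det ≠ 0 := right_ne_zero_of_mul (hdet2 ▸ ha)
  obtain ⟨hrp, hrh⟩ := rootless_blocks (rootless_of_glSimE hs2 hra)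
  -- free pairs of the head
  have hhead : ∀ {SA SB : Multiset F}, LowPair (comp ap) SA → LowPair (comp ah) SB → FreePair (comp a) (SA + SB) :=
    fun {SA SB} hA hB =>
      ((FreePair.of_detFull (detFull_comp_irreducible ap (hap ▸ hpi)) hA).glue X0 hdp hB).of_glSimE hs2
  obtain ⟨Tl, hTl, havoid, hcase⟩ : ∃ Tl : Multiset F → Prop,
      (∀ S, FreePair (comp a) S → ∀ St, Tl St → FreePair x (S + St)) ∧
      (∀ u : F, u ≠ 0 → ∃ St, Tl St ∧ u ∉ St) ∧
      (GLSimE x (comp a) ∨ (∀ u : F, u ≠ 0 →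
        (∃ St, Tl St ∧ u ∉ St ∧ ¬ St.Nodup) ∧ (∃ St, Tl St ∧ St.count u = 1) ∧
          (Fintype.card F = 5 → ∃ St St', St ≠ St' ∧ Tl St ∧ Tl St' ∧ St.count u = 1 ∧ St'.count u = 1))) := by
    rcases htail with h0 | ⟨k, x2, h0, hc2⟩
    · exact ⟨fun St => St = 0, fun S hS St hSt => by subst hSt; rw [add_zero]; exact hS.of_glSimE h0,
        fun u _ => ⟨0, rfl, by simp⟩, Or.inl h0⟩
    · have hdet := h0.det_eq'
      rw [Matrix.det_fromBlocks_zero₂₁] at hdet
      have hd2 : x2.det ≠ 0 := right_ne_zero_of_mul (hdet ▸ hxd)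
      have hnf2 : ¬ DetFull x2 := fun hf => hnf ((DetFull.blocks_right _ hf).of_glSimE h0)
      have hr2 := (rootless_blocks (rootless_of_glSimE h0 hr)).2
      refine ⟨LowPair x2, fun S hS St hSt => (hS.glue 0 ha hSt).of_glSimE h0, fun u hu => ?_,
        Or.inr fun u hu => ⟨(rootless_tail hq hc2 hd2 hnf2 hr2 u hu).1, (rootless_tail hq hc2 hd2 hnf2 hr2 u hu).2,
          fun h5 => rootless_tail_two h5 hc2 hd2 hnf2 hr2 hu⟩⟩
      obtain ⟨⟨S, hS, hu', -⟩, -⟩ := rootless_tail hq hc2 hd2 hnf2 hr2 u hu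
      exact ⟨S, hS, hu'⟩
  have hfree : ∀ {SA SB St : Multiset F}, LowPair (comp ap) SA → LowPair (comp ah) SB → Tl St →
      FreePair x (SA + SB + St) := fun {SA SB St} hA hB hT => hTl _ (hhead hA hB) St hT
  have hPp := pow_ne_zero 2 hdp
  have hPh := pow_ne_zero 2 hdh
  rcases Nat.eq_zero_or_pos m with hm0 | hm0
  · -- both factors quadratic
    subst hm0
    obtain rfl : e = 0 := by omega
    obtain rfl : d = 1 := by omega
    rcases hcase with h0 | hcase
    · exact rootless_four hq hx hnf h0 hra hg hgd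
    have q4 : Fintype.card F ≠ 4 := fun h => hnf' (detFull_four_of_card_four h a)
    obtain ⟨bA, hbA0, hbA⟩ := exists_admissible hq (comp ap).det
    set cA := (comp ap).det ^ 2 / bA with hcAdef
    have hA := lowPair_quad ap hdp (oneRoot_of_rootless ap hrp) hbA hbA0
    rw [← hcAdef] at hA
    have hbcA : bA ≠ cA := fun e => hbA (by rw [hcAdef, eq_div_iff hbA0] at e; exact e)
    have hcA0' : cA ≠ 0 := div_ne_zero hPp hbA0
    have h1' : bA * cA = (comp ap).det ^ 2 := mul_div_cancel₀ _ hbA0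
    clear_value cA
    refine cover_of_two hq hx ?_ hg hgd
    by_cases h6 : 6 ≤ Fintype.card F
    · refine twoSpec_of_all_simple hq (by omega) hxd ?_ fun u hu => ?_
      · obtain ⟨b, hb, hc, hB⟩ := quad_avoid h6 ah hdh (oneRoot_of_rootless ah hrh) bA
        obtain ⟨St, hSt, hu, hnd⟩ := (hcase bA hbA0).1
        refine ⟨_, hfree hA hB hSt, fun hn => hnd (Multiset.nodup_of_le (Multiset.le_add_left _ _) hn), bA, ?_⟩
        simp [hbcA, Ne.symm hb, Ne.symm hc, Multiset.count_eq_zero.2 hu]
      · obtain ⟨b, hb, hc, hB⟩ := quad_avoid h6 ah hdh (oneRoot_of_rootless ah hrh) u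
        by_cases hu' : u = bA ∨ u = cA
        · obtain ⟨St, hSt, hus, -⟩ := (hcase u hu).1
          refine ⟨_, hfree hA hB hSt, ?_⟩
          rcases hu' with rfl | rfl
          · simp [hbcA, Ne.symm hb, Ne.symm hc, Multiset.count_eq_zero.2 hus]
          · simp [hbcA, Ne.symm hbcA, Ne.symm hb, Ne.symm hc, Multiset.count_eq_zero.2 hus]
        · push Not at hu'
          obtain ⟨St, hSt, hus⟩ := (hcase u hu).2.1
          refine ⟨_, hfree hA hB hSt, ?_⟩
          simp [hu'.1, hu'.2, Ne.symm hb, Ne.symm hc, hus]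
    · have h5 : Fintype.card F = 5 := by omega
      obtain ⟨bB, hbB0, hbB⟩ := exists_admissible hq (comp ah).det
      set cB := (comp ah).det ^ 2 / bB with hcBdef
      have hB := lowPair_quad ah hdh (oneRoot_of_rootless ah hrh) hbB hbB0
      rw [← hcBdef] at hB
      clear_value cB
      by_cases hsub : (bA = bB ∨ bA = cB) ∧ (cA = bB ∨ cA = cB)
      · -- a value off the head, simple in two tails
        obtain ⟨u, -, hu⟩ := Finset.exists_mem_notMem_of_card_lt_card (t := (Finset.univ : Finset F))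
          (s := {0, bB, cB}) (lt_of_le_of_lt Finset.card_le_three (by rw [Finset.card_univ]; omega))
        simp only [Finset.mem_insert, Finset.mem_singleton, not_or] at hu
        obtain ⟨hu0, hub, huc⟩ := hu
        have hua : u ≠ bA ∧ u ≠ cA := by
          rcases hsub with ⟨h1 | h1, h2 | h2⟩ <;> simp [h1, h2, hub, huc]
        obtain ⟨St, St', hne, h1, h2, e1, e2⟩ := (hcase u hu0).2.2 h5
        exact ⟨_, _, fun e => hne (add_left_cancel e),
          (hfree hA hB h1).fullSpec (by omega) hxd (s := u) (by simp [hua.1, hua.2, hub, huc, e1]),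
          (hfree hA hB h2).fullSpec (by omega) hxd (s := u) (by simp [hua.1, hua.2, hub, huc, e2])⟩
      · -- a head value off the second factor
        obtain ⟨w, hw, hwA, hwb, hwc⟩ : ∃ w : F, w ≠ 0 ∧ (bA ::ₘ ({cA} : Multiset F)).count w = 1 ∧ w ≠ bB ∧ w ≠ cB := by
          rw [not_and_or] at hsub
          rcases hsub with h' | h'
          · push Not at h'
            exact ⟨bA, hbA0, (count_pair hbcA).1, h'.1, h'.2⟩
          · push Not at h'
            exact ⟨cA, hcA0', (count_pair hbcA).2, h'.1, h'.2⟩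
        obtain ⟨St, hSt, hus, hnd⟩ := (hcase w hw).1
        refine twoSpec_of_all_simple hq (by omega) hxd
          ⟨_, hfree hA hB hSt, fun hn => hnd (Multiset.nodup_of_le (Multiset.le_add_left _ _) hn), w,
            by rw [Multiset.count_add, Multiset.count_add, hwA, Multiset.count_eq_zero.2 (by simp [hwb, hwc]),
              Multiset.count_eq_zero.2 hus]⟩ fun u hu => ?_
        by_cases huA : u ∈ bA ::ₘ ({cA} : Multiset F)
        · by_cases huB : u ∈ bB ::ₘ ({cB} : Multiset F)
          · -- the sets meet only in one value: impossible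
            exfalso
            rw [hcAdef] at huA hsub
            rw [hcBdef] at huB hsub
            exact quad_sets_five h5 hdp hdh hbA0 hbA hbB0 hbB huA huB hsub
          · obtain ⟨St, hSt, hus, -⟩ := (hcase u hu).1
            refine ⟨_, hfree hA hB hSt, ?_⟩
            have hc1 : (bA ::ₘ ({cA} : Multiset F)).count u = 1 := by
              simp at huA
              rcases huA with rfl | rfl
              · exact (count_pair hbcA).1
              · exact (count_pair hbcA).2
            rw [Multiset.count_add, Multiset.count_add, hc1, Multiset.count_eq_zero.2 huB,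
              Multiset.count_eq_zero.2 hus]
        · by_cases huB : u ∈ bB ::ₘ ({cB} : Multiset F)
          · obtain ⟨St, hSt, hus, -⟩ := (hcase u hu).1
            refine ⟨_, hfree hA hB hSt, ?_⟩
            have hbcB : bB ≠ cB := fun e => hbB (by rw [hcBdef, eq_div_iff hbB0] at e; exact e)
            have hc1 : (bB ::ₘ ({cB} : Multiset F)).count u = 1 := by
              simp at huB
              rcases huB with rfl | rfl
              · exact (count_pair hbcB).1
              · exact (count_pair hbcB).2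
            rw [Multiset.count_add, Multiset.count_add, hc1, Multiset.count_eq_zero.2 huA,
              Multiset.count_eq_zero.2 hus]
          · obtain ⟨St, hSt, hus⟩ := (hcase u hu).2.1
            refine ⟨_, hfree hA hB hSt, ?_⟩
            rw [Multiset.count_add, Multiset.count_add, Multiset.count_eq_zero.2 huA, Multiset.count_eq_zero.2 huB, hus]
  · -- the second factor has size at least three
    obtain ⟨m, rfl⟩ : ∃ m', m = m' + 1 := ⟨m - 1, by omega⟩
    have hB : ∀ {S : Multiset F}, S.card = m + 3 → S.prod = (comp ah).det ^ 2 → LowPair (comp ah) S :=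
      fun {S} h1 h2 => lowPair_spec (by omega) ah hdh hrh h1 h2
    refine cover_of_two hq hx ?_ hg hgd
    rcases Nat.eq_zero_or_pos e with he0 | he0
    · subst he0
      obtain ⟨bA, hbA0, hbA⟩ := exists_admissible hq (comp ap).det
      set cA := (comp ap).det ^ 2 / bA with hcAdef
      have hA := lowPair_quad ap hdp (oneRoot_of_rootless ap hrp) hbA hbA0
      rw [← hcAdef] at hA
      have hbcA : bA ≠ cA := fun e => hbA (by rw [hcAdef, eq_div_iff hbA0] at e; exact e)
      clear_value cA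
      refine twoSpec_of_all_simple hq (by omega) hxd ?_ fun u hu => ?_
      · obtain ⟨S, h1, h2, h3, h4⟩ := exists_avoid_spec hq bA hPh (k := m + 3) (by omega)
        obtain ⟨St, hSt, hus⟩ := havoid bA hbA0
        refine ⟨_, hfree hA (hB h1 h2) hSt, fun hn => h4 (Multiset.nodup_of_le
          ((Multiset.le_add_left _ _).trans (Multiset.le_add_right _ _)) hn), bA, ?_⟩
        simp [hbcA, Multiset.count_eq_zero.2 hus, Multiset.count_eq_zero.2 h3]
      · obtain ⟨St, hSt, hus⟩ := havoid u hu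
        by_cases hu' : u = bA ∨ u = cA
        · obtain ⟨S, h1, h2, h3, -⟩ := exists_avoid_spec hq u hPh (k := m + 3) (by omega)
          refine ⟨_, hfree hA (hB h1 h2) hSt, ?_⟩
          rcases hu' with rfl | rfl
          · simp [hbcA, Multiset.count_eq_zero.2 hus, Multiset.count_eq_zero.2 h3]
          · simp [Ne.symm hbcA, Multiset.count_eq_zero.2 hus, Multiset.count_eq_zero.2 h3]
        · push Not at hu'
          obtain ⟨S, h1, h2, h3⟩ := exists_simple_spec hq hu hPh (k := m + 3) (by omega)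
          refine ⟨_, hfree hA (hB h1 h2) hSt, ?_⟩
          simp [hu'.1, hu'.2, Multiset.count_eq_zero.2 hus, h3]
    · obtain ⟨e, rfl⟩ : ∃ e', e = e' + 1 := ⟨e - 1, by omega⟩
      have key : ∀ u : F, u ≠ 0 → ∃ S, FreePair x S ∧ S.count u = 1 ∧ ¬ S.Nodup := fun u hu => by
        obtain ⟨SA, a1, a2, a3⟩ := exists_simple_spec hq hu hPp (k := e + 3) (by omega)
        obtain ⟨S, h1, h2, h3, h4⟩ := exists_avoid_spec hq u hPh (k := m + 3) (by omega)
        obtain ⟨St, hSt, hus⟩ := havoid u hu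
        refine ⟨_, hfree (lowPair_spec (by omega) ap hdp hrp a1 a2) (hB h1 h2) hSt, ?_,
          fun hn => h4 (Multiset.nodup_of_le ((Multiset.le_add_left _ _).trans (Multiset.le_add_right _ _)) hn)⟩
        rw [Multiset.count_add, Multiset.count_add, a3, Multiset.count_eq_zero.2 hus, Multiset.count_eq_zero.2 h3]
      obtain ⟨S, hS, hc, hnd⟩ := key 1 one_ne_zero
      exact twoSpec_of_all_simple hq (by omega) hxd ⟨S, hS, hnd, 1, hc⟩
        fun u hu => let ⟨S, hS, hc, _⟩ := key u hu; ⟨S, hS, hc⟩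

end CfsgLib.PSLCover
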