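import Cfsg.Agent.Lib.PSLCover.BlockPair
import Cfsg.Agent.Lib.PSLCover.Cyclic
import Cfsg.Agent.Lib.PSLCover.Glue

/-!
Pairs for blocks of size one and two, and the gluing lemma in similarity form.
-/

set_option autoImplicit false
set_option linter.unusedSectionVars false

namespace CfsgLib.PSLCover

open Matrix Polynomial

variable {F : Type*} [Field F] {ι κ : Type*} [Fintype ι] [DecidableEq ι] [Fintype κ] [DecidableEq κ]

/-- A pair inside the similarity class of `x`. -/
def HasPair (x : Matrix ι ι F) (S : Multiset F) (R L : Set (F × F)) : Prop :=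
  ∃ y1 y2, GLSim x y1 ∧ GLSim x y2 ∧ IsPair y1 y2 S R L

theorem HasPair.mono {x : Matrix ι ι F} {S : Multiset F} {R L R' L' : Set (F × F)}
    (h : HasPair x S R L) (hR : R ⊆ R') (hL : L ⊆ L') : HasPair x S R' L' := by
  obtain ⟨y1, y2, h1, h2, hp⟩ := h
  exact ⟨y1, y2, h1, h2, ⟨hp.cyc, hp.poly, fun l hl => hR (hp.right l hl), fun l hl => hL (hp.left l hl)⟩⟩

theorem HasPair.of_glSim {x x' : Matrix ι ι F} {S : Multiset F} {R L : Set (F × F)}
    (h : HasPair x S R L) (hs : GLSim x' x) : HasPair x' S R L := by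
  obtain ⟨y1, y2, h1, h2, hp⟩ := h
  exact ⟨y1, y2, hs.trans h1, hs.trans h2, hp⟩

/-- Gluing, in similarity form. -/
theorem HasPair.glue [Fintype F] {xA : Matrix ι ι F} {xB : Matrix κ κ F} (X0 : Matrix ι κ F)
    {SA SB : Multiset F} {RA LA RB LB : Set (F × F)} (hdA : xA.det ≠ 0)
    (hA : HasPair xA SA RA LA) (hB : HasPair xB SB RB LB)
    (hdisj : ∀ l ∈ LA, l ∈ RB → l.1 * l.2 ∈ SA → l.1 * l.2 ∈ SB → False) :
    HasPair (fromBlocks xA X0 0 xB) (SA + SB) (RA ∪ {l | l ∈ RB ∧ l.1 * l.2 ∉ SA}) Set.univ := by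
  obtain ⟨A1, A2, ⟨PA1, hA1, eA1⟩, ⟨PA2, hA2, eA2⟩, hPA⟩ := hA
  obtain ⟨B1, B2, ⟨PB1, hB1, eB1⟩, ⟨PB2, hB2, eB2⟩, hPB⟩ := hB
  obtain ⟨y1, y2, P1, P2, d1, e1, d2, e2, hp⟩ :=
    PSLCover.glue X0 hA1 eA1 hA2 eA2 hB1 eB1 hB2 eB2 hdA hPA hPB hdisj
  exact ⟨y1, y2, ⟨P1, d1 ▸ mul_ne_zero hA1 hB1, e1⟩, ⟨P2, d2 ▸ mul_ne_zero hA2 hB2, e2⟩, hp⟩

theorem hasPair_block [Fintype F] (hq : 3 ≤ Fintype.card F) {m : ℕ} (a : Fin (m + 3) → F)
    (ha : (comp a).det ≠ 0) {s : F} (hs : s ≠ 0) :
    HasPair (comp a) ((comp a).det ^ 2 / s ^ (m + 2) ::ₘ Multiset.replicate (m + 2) s) ∅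
      {l | l.1 * l.2 ≠ s} :=
  exists_block_pair hq a ha hs

theorem hasPair_single (c : F) :
    HasPair (c • (1 : Matrix Unit Unit F)) {c * c} {(c, c)} {(c, c)} := by
  have hcp : ((c • (1 : Matrix Unit Unit F)) * (c • 1)).charpoly = rootsPoly {c * c} := by
    rw [Matrix.smul_mul, Matrix.one_mul, smul_smul, Matrix.smul_one_eq_diagonal, Matrix.charpoly_diagonal]
    simp [rootsPoly]
  refine ⟨c • 1, c • 1, GLSim.refl _, GLSim.refl _, ⟨⟨⟨_, hcp⟩, fun e u v hu hv hu0 => ?_⟩, hcp, ?_, ?_⟩⟩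
  · have h0 : u () ≠ 0 := fun h => hu0 (funext fun i => h)
    exact ⟨v () / u (), funext fun i => by simp [div_mul_cancel₀ _ h0]⟩
  · rintro ⟨l1, l2⟩ ⟨v, hv, e1, e2⟩
    have h0 : v () ≠ 0 := fun h => hv (funext fun i => h)
    have h1 := congrFun e1 ()
    have h2 := congrFun e2 ()
    simp [Matrix.smul_mulVec, h0] at h1 h2
    simp [← h1, ← h2]
  · rintro ⟨l1, l2⟩ ⟨v, hv, e1, e2⟩
    have h0 : v () ≠ 0 := fun h => hv (funext fun i => h)
    have h1 := congrFun e1 ()
    have h2 := congrFun e2 ()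
    simp [Matrix.vecMul_smul, h0] at h1 h2
    simp [← h1, ← h2]

theorem det_comp_two (a : Fin 2 → F) : (comp a).det = -a 0 := by
  rw [Matrix.det_fin_two]
  simp [comp, Fin.ext_iff]

theorem charpoly_comp_two_eval (a : Fin 2 → F) (c : F) :
    (comp a).charpoly.eval c = c ^ 2 - a 1 * c - a 0 := by
  rw [Matrix.eval_charpoly, Matrix.det_fin_two]
  simp [comp, Matrix.scalar_apply, Fin.ext_iff]
  ring

/-- A quadratic block without two distinct roots: no common eigenvectors. -/
theorem hasPair_quad (a : Fin 2 → F) (ha : (comp a).det ≠ 0)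
    (hns : ∀ r r' : F, (comp a).charpoly.eval r = 0 → (comp a).charpoly.eval r' = 0 → r = r')
    {b : F} (hbne : b * b ≠ (comp a).det ^ 2) (hb0 : b ≠ 0) :
    HasPair (comp a) (b ::ₘ {(comp a).det ^ 2 / b}) ∅ ∅ := by
  set d := (comp a).det with hd
  have hne : b ≠ d ^ 2 / b := fun e => hbne (by rw [eq_div_iff hb0] at e; exact e)
  obtain ⟨y1, y2, h1, h2, hc, hp⟩ := exists_block_pair_two a ha hne (by rw [mul_div_cancel₀ _ hb0])
  have key : ∀ r r' p : F, (comp a).charpoly.eval r = 0 → (comp a).charpoly.eval r' = 0 →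
      (y1 * y2).charpoly.eval p = 0 → p = r * r' → False := by
    intro r r' p hr hr' hpp hprod
    rw [← hns r r' hr hr'] at hprod
    have hother : (comp a).charpoly.eval (a 1 - r) = 0 := by
      rw [charpoly_comp_two_eval] at hr ⊢; linear_combination hr
    have hrr : r * r = d := by
      have he := hns r _ hr hother
      rw [charpoly_comp_two_eval] at hr
      rw [hd, det_comp_two]
      linear_combination -hr + r * he
    rw [hrr] at hprod
    rw [hprod, hp] at hpp
    have hm := eval_rootsPoly_eq_zero hpp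
    rcases Multiset.mem_cons.1 hm with e | e
    · exact hbne (by rw [← e]; ring)
    · rw [Multiset.mem_singleton, eq_div_iff hb0] at e
      have hbd : b = d := mul_left_cancel₀ ha (by linear_combination e)
      exact hbne (by rw [hbd]; ring)
  refine ⟨y1, y2, h1, h2, ⟨hc, hp, fun l hl => ?_, fun l hl => ?_⟩⟩
  · obtain ⟨p1, p2, p3⟩ := hl.eigen h1 h2
    exact (key _ _ _ p1 p2 p3 rfl).elim
  · obtain ⟨p1, p2, p3⟩ := hl.eigen h1 h2
    exact (key _ _ _ p1 p2 p3 rfl).elim

theorem rootsPoly_pair_eval (l m c : F) : (rootsPoly (l ::ₘ {m})).eval c = (c - l) * (c - m) := by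
  simp [rootsPoly]

theorem upper_two_cyclic (T : Matrix (Fin 2) (Fin 2) F) (h10 : T 1 0 = 0) (h01 : T 0 1 ≠ 0) :
    SplitCyclic T ∧ T.charpoly = rootsPoly (T 0 0 ::ₘ {T 1 1}) := by
  have htri : ∀ i j : Fin 2, j < i → T i j = 0 := fun i j hij => by
    fin_cases i <;> fin_cases j <;> simp_all
  have hpoly : T.charpoly = rootsPoly (T 0 0 ::ₘ {T 1 1}) := by
    rw [charpoly_upper T htri]
    congr 1
  refine ⟨splitCyclic_of_first _ hpoly 0 fun c v hv h0 => ?_, hpoly⟩
  have e := congrFun hv 0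
  simp [Matrix.mulVec, dotProduct, Fin.sum_univ_two, h0, h01] at e
  exact funext fun i => by fin_cases i <;> assumption

/-- A quadratic block with roots `l ≠ m`: the common eigenvector has eigenvalue `l`. -/
theorem hasPair_split [Fintype F] (a : Fin 2 → F) (ha : (comp a).det ≠ 0) {l m : F} (hlm : l ≠ m)
    (hl : (comp a).charpoly.eval l = 0) (hm : (comp a).charpoly.eval m = 0) :
    HasPair (comp a) (l * l ::ₘ {m * m}) {(l, l)} {(m, m)} := by
  rw [charpoly_comp_two_eval] at hl hm
  have ha1 : a 1 = l + m := by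
    refine mul_left_cancel₀ (sub_ne_zero.2 hlm) ?_
    linear_combination hm - hl
  have ha0 : a 0 = -(l * m) := by linear_combination -hl - l * ha1
  have hm0 : m ≠ 0 := fun h => ha (by rw [det_comp_two, ha0, h]; ring)
  have hsim : ∀ y : Matrix (Fin 2) (Fin 2) F, y 1 0 = 0 → y 0 0 = l → y 1 1 = m → GLSim (comp a) y := by
    intro y h10 h00 h11
    have htri : ∀ i j : Fin 2, j < i → y i j = 0 := fun i j hij => by
      fin_cases i <;> fin_cases j <;> simp_all
    have hcy : y.charpoly = rootsPoly (l ::ₘ {m}) := by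
      rw [charpoly_upper y htri]
      congr 1
      simp [Fin.univ_succ, h00, h11]
    have hcx : (comp a).charpoly = rootsPoly (l ::ₘ {m}) := by
      rw [Matrix.charpoly_fin_two, Matrix.trace_fin_two, det_comp_two, ha0]
      simp [rootsPoly, comp, Fin.ext_iff, ha1]
      ring
    have hyc : SplitCyclic y := by
      refine ⟨⟨_, hcy⟩, fun c u v hu hv hu0 => ?_⟩
      have eu0 := congrFun hu 0
      have eu1 := congrFun hu 1
      have ev0 := congrFun hv 0
      have ev1 := congrFun hv 1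
      simp [Matrix.mulVec, dotProduct, Fin.sum_univ_two, h00, h11, h10] at eu0 eu1 ev0 ev1
      rcases eq_or_ne m c with rfl | hc
      · have h1 : u 1 ≠ 0 := fun h => hu0 (funext fun i => by
          rw [h, mul_zero, add_zero] at eu0
          fin_cases i
          · exact (mul_eq_zero.1 (show (l - m) * u 0 = 0 by linear_combination eu0)).resolve_left
              (sub_ne_zero.2 hlm)
          · exact h)
        refine ⟨v 1 / u 1, funext fun i => ?_⟩
        fin_cases i
        · refine mul_left_cancel₀ (sub_ne_zero.2 hlm) (?_ : (l - m) * v 0 = (l - m) * _)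
          simp only [Fin.zero_eta, Pi.smul_apply, smul_eq_mul]
          rw [div_mul_eq_mul_div, mul_div_assoc', eq_div_iff h1]
          linear_combination u 1 * ev0 - v 1 * eu0
        · simp [div_mul_cancel₀ _ h1]
      · have h1 : u 1 = 0 := eu1.resolve_left hc
        have hv1 : v 1 = 0 := ev1.resolve_left hc
        have h0 : u 0 ≠ 0 := fun h => hu0 (funext fun i => by fin_cases i <;> assumption)
        exact ⟨v 0 / u 0, funext fun i => by fin_cases i <;> simp [h1, hv1, div_mul_cancel₀ _ h0]⟩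
    have hxc : SplitCyclic (comp a) := by
      refine ⟨⟨_, hcx⟩, fun c u v hu hv hu0 => ?_⟩
      have eu1 := congrFun hu 1
      have ev1 := congrFun hv 1
      have c10 : comp a 1 0 = 1 := rfl
      have c11 : comp a 1 1 = a 1 := rfl
      simp [Matrix.mulVec, dotProduct, Fin.sum_univ_two, c10, c11] at eu1 ev1
      have h1 : u 1 ≠ 0 := fun h => hu0 (funext fun i => by
        rw [h] at eu1; simp at eu1
        fin_cases i
        · exact eu1
        · exact h)
      refine ⟨v 1 / u 1, funext fun i => ?_⟩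
      fin_cases i
      · simp only [Fin.zero_eta, Pi.smul_apply, smul_eq_mul]
        rw [div_mul_eq_mul_div, eq_div_iff h1]
        linear_combination u 1 * ev1 - v 1 * eu1
      · simp [div_mul_cancel₀ _ h1]
    exact glSim_of_splitCyclic hxc hyc ha (hcx.trans hcy.symm)
  let y1 : Matrix (Fin 2) (Fin 2) F := !![l, 1; 0, m]
  let y2 : Matrix (Fin 2) (Fin 2) F := !![l, 0; 0, m]
  have h10 : (y1 * y2) 1 0 = 0 := by simp [y1, y2]
  have h01 : (y1 * y2) 0 1 ≠ 0 := by simpa [y1, y2] using hm0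
  obtain ⟨hc, hp⟩ := upper_two_cyclic (y1 * y2) h10 h01
  refine ⟨y1, y2, hsim y1 rfl rfl rfl, hsim y2 rfl rfl rfl, ⟨hc, ?_, ?_, ?_⟩⟩
  · rw [hp]; simp [y1, y2]
  · rintro ⟨l1, l2⟩ ⟨v, hv, e1, e2⟩
    have a0 := congrFun e1 0
    have a1 := congrFun e1 1
    have b0 := congrFun e2 0
    have b1 := congrFun e2 1
    simp [y1, y2, Matrix.mulVec, dotProduct, Fin.sum_univ_two] at a0 a1 b0 b1
    by_cases hv1 : v 1 = 0
    · have hv0 : v 0 ≠ 0 := fun h => hv (funext fun i => by fin_cases i <;> assumption)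
      simp [hv1, hv0] at a0 b0
      simp [← a0, ← b0]
    · have e1m : m = l1 := a1.resolve_right hv1
      have e2m : m = l2 := b1.resolve_right hv1
      subst e1m e2m
      rcases b0 with b0 | b0
      · exact absurd b0 hlm
      · rw [b0] at a0
        exact absurd (by simpa using a0) hv1
  · rintro ⟨l1, l2⟩ ⟨w, hw, e1, e2⟩
    have a0 := congrFun e1 0
    have a1 := congrFun e1 1
    have b0 := congrFun e2 0
    have b1 := congrFun e2 1
    simp [y1, y2, Matrix.vecMul, dotProduct, Fin.sum_univ_two] at a0 a1 b0 b1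
    have hw0 : w 0 = 0 := by
      by_contra h
      have e1l : l = l1 := mul_right_cancel₀ h (by linear_combination a0)
      have e2l : l = l2 := mul_right_cancel₀ h (by linear_combination b0)
      subst e1l e2l
      have hw1 : w 1 = 0 := (mul_eq_zero.1 (show (m - l) * w 1 = 0 by linear_combination b1)).resolve_left
        (sub_ne_zero.2 hlm.symm)
      rw [hw1] at a1
      exact h (by linear_combination a1)
    have hw1 : w 1 ≠ 0 := fun h => hw (funext fun i => by fin_cases i <;> assumption)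
    simp [hw0] at a1
    have e1m : m = l1 := mul_right_cancel₀ hw1 (by linear_combination a1)
    have e2m : m = l2 := mul_right_cancel₀ hw1 (by linear_combination b1)
    simp [← e1m, ← e2m]

end CfsgLib.PSLCover
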