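import Cfsg.Agent.Lib.PSLCover.ThreeMat

/-!
Conjugacy of three by three matrices by invariants, and three conjugates of a matrix with a simple eigenvalue
whose product is a scalar.
-/

set_option autoImplicit false
set_option linter.unusedSimpArgs false

namespace CfsgLib.PSLCover.Three

open Matrix

variable {F : Type*} [Field F] {x y : Matrix (Fin 3) (Fin 3) F}

theorem trace_adjugate (x : Matrix (Fin 3) (Fin 3) F) : x.adjugate.trace = sec x := by
  simp [Matrix.adjugate_fin_three, sec, Matrix.trace_fin_three]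
  ring

theorem sec_adjugate (x : Matrix (Fin 3) (Fin 3) F) : sec x.adjugate = x.det * x.trace := by
  simp [Matrix.adjugate_fin_three, sec, Matrix.trace_fin_three, Matrix.det_fin_three]
  ring

theorem det_adjugate_three (x : Matrix (Fin 3) (Fin 3) F) : x.adjugate.det = x.det ^ 2 := by
  rw [Matrix.det_adjugate, Fintype.card_fin]

theorem glSim_adjugate (h : GLSim x y) : GLSim x.adjugate y.adjugate := by
  obtain ⟨P, hP, e⟩ := h.symm
  refine ⟨P.adjugate, by rw [Matrix.det_adjugate]; exact pow_ne_zero _ hP, ?_⟩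
  rw [← Matrix.adjugate_mul_distrib, ← Matrix.adjugate_mul_distrib, e]

theorem trace_eq_of_glSim {n : Type*} [Fintype n] [DecidableEq n] {x y : Matrix n n F} (h : GLSim x y) :
    x.trace = y.trace := by
  obtain ⟨P, hP, e⟩ := h
  have hu : IsUnit P.det := isUnit_iff_ne_zero.2 hP
  calc x.trace = (P⁻¹ * (P * x)).trace := by rw [← Matrix.mul_assoc, Matrix.nonsing_inv_mul P hu, Matrix.one_mul]
    _ = y.trace := by rw [e, Matrix.trace_mul_comm, Matrix.mul_assoc, Matrix.mul_nonsing_inv P hu, Matrix.mul_one]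

theorem sameInv_of_glSim (h : GLSim x y) : SameInv x y :=
  ⟨trace_eq_of_glSim h, by rw [← trace_adjugate, ← trace_adjugate]; exact trace_eq_of_glSim (glSim_adjugate h),
    h.det_eq⟩

theorem Cyc.of_glSim (hx : Cyc x) (h : GLSim x y) : Cyc y := by
  obtain ⟨P, hP, e⟩ := h
  exact hx.conj hP e.symm

theorem kry_adjugate (x : Matrix (Fin 3) (Fin 3) F) (v : Fin 3 → F) :
    (kry x.adjugate (x *ᵥ (x *ᵥ v))).det = -(x.det ^ 3) * (kry x v).det := by
  have hz : ∀ u : Fin 3 → F, x.adjugate *ᵥ (x *ᵥ u) = x.det • u := fun u => by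
    rw [Matrix.mulVec_mulVec, Matrix.adjugate_mul, Matrix.smul_mulVec, Matrix.one_mulVec]
  have e1 := hz (x *ᵥ v)
  have e2 : x.adjugate *ᵥ (x.adjugate *ᵥ (x *ᵥ (x *ᵥ v))) = (x.det * x.det) • v := by
    rw [e1, Matrix.mulVec_smul, hz, smul_smul]
  rw [kry, e2, e1, kry]
  simp only [Matrix.det_fin_three, Matrix.of_apply, Pi.smul_apply, smul_eq_mul, Matrix.cons_val_zero,
    Matrix.cons_val_one, Matrix.cons_val_two, Matrix.head_cons, Matrix.tail_cons, Matrix.cons_val_succ]
  ring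

theorem Cyc.adjugate (hx : Cyc x) (hd : x.det ≠ 0) : Cyc x.adjugate := by
  obtain ⟨v, hv⟩ := hx
  exact ⟨x *ᵥ (x *ᵥ v), by rw [kry_adjugate]; exact mul_ne_zero (neg_ne_zero.2 (pow_ne_zero _ hd)) hv⟩

theorem kry_smul (M : Matrix (Fin 3) (Fin 3) F) (a : F) (v : Fin 3 → F) :
    (kry M (a • v)).det = a ^ 3 * (kry M v).det := by
  have e : kry M (a • v) = a • kry M v := by
    ext i j
    fin_cases j <;> simp [kry, Matrix.mulVec_smul]
  rw [e, Matrix.det_smul, Fintype.card_fin]

theorem kry_smul_left (M : Matrix (Fin 3) (Fin 3) F) (c : F) (v : Fin 3 → F) :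
    (kry (c • M) v).det = c ^ 3 * (kry M v).det := by
  simp [kry, Matrix.det_fin_three, Matrix.smul_mulVec, Matrix.mulVec_smul]
  ring

theorem sec_smul (c : F) (M : Matrix (Fin 3) (Fin 3) F) : sec (c • M) = c ^ 2 * sec M := by
  simp [sec]
  ring

theorem Cyc.glSim_comp (hx : Cyc x) : GLSim x (comp x.det (-sec x) x.trace) := by
  obtain ⟨h1, h2, h3⟩ := comp_inv x.det (-sec x) x.trace
  exact glSim_of_inv ⟨h1, by rw [h2, neg_neg], h3⟩ (comp_cyc _ _ _) hx

/-- A simple root: the scalar `det x` is a product of three conjugates. -/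
theorem scalar_of_simple (hx : Cyc x) (hd : x.det ≠ 0) {μ : F}
    (hr : μ ^ 3 - x.trace * μ ^ 2 + sec x * μ - x.det = 0) (hs : 3 * μ ^ 2 - 2 * x.trace * μ + sec x ≠ 0) :
    ∃ a b c, GLSim x a ∧ GLSim x b ∧ GLSim x c ∧ a * b * c = x.det • (1 : Matrix (Fin 3) (Fin 3) F) := by
  set τ := x.trace - μ with hτ
  set ν := μ ^ 2 - x.trace * μ + sec x with hν
  have hμν : μ * ν = x.det := by linear_combination hr
  obtain ⟨u, w, h1, h2, h3, h4⟩ := exists_tri x.det (-sec x) x.trace μ (t := (1 : F)) one_ne_zero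
    (τ - 1) (τ - 1 - ν) 1 (sec x) (x.det * x.trace)
  set B := tri (τ - 1) (τ - 1 - ν) 1 1 μ u w with hB
  set M := comp x.det (-sec x) x.trace * B with hM
  have hBc : Cyc B := tri_cyc_block one_ne_zero (fun e => hs (by linear_combination e)) _ _
  have hBx : GLSim x B := by
    refine glSim_of_inv ⟨?_, ?_, ?_⟩ hBc hx
    · simp [hB, tri, Matrix.trace_fin_three, hτ]
    · simp [hB, tri, sec, hτ, hν]
      ring
    · rw [hB, Matrix.det_fin_three (tri (τ - 1) (τ - 1 - ν) 1 1 μ u w)]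
      simp [tri]
      linear_combination hμν
  have hμ : μ ≠ 0 := fun e => hd (by rw [← hμν, e, zero_mul])
  have hMx : GLSim x.adjugate M := by
    refine glSim_of_inv ⟨?_, ?_, ?_⟩ ⟨Pi.single 1 1, ?_⟩ (hx.adjugate hd)
    · rw [h1, trace_adjugate]
    · rw [h2, sec_adjugate]
    · rw [h3, det_adjugate_three]
      linear_combination x.det * hμν
    · rw [h4]
      exact mul_ne_zero (mul_ne_zero hd hμ) (pow_ne_zero _ one_ne_zero)
  obtain ⟨P, hP, e⟩ := hMx
  refine ⟨_, B, conjBy P x, hx.glSim_comp, hBx, glSim_conjBy hP x, ?_⟩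
  rw [← hM, ← conjBy_eq hP e, ← conjBy_mul hP, Matrix.adjugate_mul]
  rw [conjBy, Matrix.mul_smul, Matrix.smul_mul, Matrix.mul_one,
    Matrix.mul_nonsing_inv P (isUnit_iff_ne_zero.2 hP)]

end CfsgLib.PSLCover.Three
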