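import Cfsg.Agent.Lib.PSLCover.ThreeClass

/-!
A cubic without roots over a finite field: the centraliser of its companion has all determinants, and the
product of the companion with its two Frobenius powers is its determinant.
-/

set_option autoImplicit false
set_option linter.unusedSectionVars false

namespace CfsgLib.PSLCover.Three

open Matrix Polynomial

variable {F : Type*} [Field F] [Fintype F]

theorem sameInv_of_charpoly {M N : Matrix (Fin 3) (Fin 3) F} (h : M.charpoly = N.charpoly) : SameInv M N := by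
  have h1 : M.trace = N.trace := by rw [trace_eq_neg_charpoly_coeff, trace_eq_neg_charpoly_coeff, h]
  have h2 : M.det = N.det := by rw [det_eq_sign_charpoly_coeff, det_eq_sign_charpoly_coeff, h]
  refine ⟨h1, ?_, h2⟩
  have h3 := congrArg (eval (1 : F)) h
  rw [Matrix.eval_charpoly, Matrix.eval_charpoly] at h3
  simp [Matrix.det_fin_three, Matrix.trace_fin_three, sec] at h1 h2 h3 ⊢
  linear_combination h1 + h3 + h2

theorem no_root_cyc {M : Matrix (Fin 3) (Fin 3) F} (h : ∀ t : F, M.charpoly.eval t ≠ 0) : Cyc M := by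
  rcases cyc_or_rankOne M with h' | ⟨c, u, w, e⟩
  · exact h'
  · exfalso
    refine h c ?_
    rw [Matrix.eval_charpoly, e]
    simp [Matrix.det_fin_three, vecMulVec_apply]
    ring

/-- The Frobenius power of a matrix without eigenvalues is conjugate to it. -/
theorem glSim_pow_card {M : Matrix (Fin 3) (Fin 3) F} (h : ∀ t : F, M.charpoly.eval t ≠ 0) :
    GLSim M (M ^ Fintype.card F) := by
  have hc := FiniteField.Matrix.charpoly_pow_card M
  exact glSim_of_inv (sameInv_of_charpoly hc) (no_root_cyc fun t => by rw [hc]; exact h t) (no_root_cyc h)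

theorem comp_eval (c0 c1 c2 t : F) :
    (comp c0 c1 c2).charpoly.eval t = t ^ 3 - c2 * t ^ 2 - c1 * t - c0 := by
  rw [Matrix.eval_charpoly]
  simp [comp, Matrix.det_fin_three]
  ring

/-- No root: all determinants in the centraliser, and three conjugates with product `det`. -/
theorem irreducible_case {c0 c1 c2 : F} (h : ∀ r : F, r ^ 3 - c2 * r ^ 2 - c1 * r - c0 ≠ 0) :
    DetFull (comp c0 c1 c2) ∧ InPow (comp c0 c1 c2) 3 (c0 • 1) := by
  classical
  set p : F[X] := C 1 * X ^ 3 + C (-c2) * X ^ 2 + C (-c1) * X + C (-c0) with hp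
  have hdeg : p.natDegree = 3 := natDegree_cubic one_ne_zero
  have hp0 : p ≠ 0 := fun e => by rw [e, natDegree_zero] at hdeg; omega
  have hmon : p.Monic := by
    rw [Monic, leadingCoeff, hdeg, hp]
    simp
  have hirr : Irreducible p := by
    rw [hmon.irreducible_iff_roots_eq_zero_of_degree_le_three (by omega) (by omega),
      Multiset.eq_zero_iff_forall_notMem]
    intro r hr
    rw [mem_roots hp0, IsRoot, hp] at hr
    simp at hr
    exact h r (by linear_combination hr)
  have : Fact (Irreducible p) := ⟨hirr⟩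
  set pb := AdjoinRoot.powerBasis hp0 with hpb
  have hdim : pb.dim = 3 := by rw [hpb, AdjoinRoot.powerBasis_dim, hdeg]
  have : Module.Finite F (AdjoinRoot p) := pb.finite
  have : Finite (AdjoinRoot p) := Module.finite_of_finite F
  set b := pb.basis.reindex (finCongr hdim) with hb
  have hbj : ∀ j : Fin 3, b j = AdjoinRoot.root p ^ (j : ℕ) := fun j => by
    rw [hb, Module.Basis.reindex_apply, PowerBasis.basis_eq_pow,
      show pb.gen = AdjoinRoot.root p from AdjoinRoot.powerBasis_gen hp0]
    simp
  have hroot : AdjoinRoot.root p ^ 3 =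
      c0 • b 0 + c1 • b 1 + c2 • b 2 := by
    have e : AdjoinRoot.mk p (C 1 * X ^ 3 + C (-c2) * X ^ 2 + C (-c1) * X + C (-c0)) = 0 :=
      (congrArg (AdjoinRoot.mk p) hp.symm).trans AdjoinRoot.mk_self
    simp only [map_add, map_mul, map_pow, AdjoinRoot.mk_C, AdjoinRoot.mk_X, map_one, one_mul, map_neg] at e
    simp only [hbj, Algebra.smul_def, AdjoinRoot.algebraMap_eq]
    simp only [Fin.val_zero, Fin.val_one, Fin.val_two, pow_zero, mul_one, pow_one]
    linear_combination e
  set φ := Algebra.leftMulMatrix b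
  have hφ : φ (AdjoinRoot.root p) = comp c0 c1 c2 := by
    ext i j
    rw [Algebra.leftMulMatrix_eq_repr_mul, hbj, ← pow_succ']
    fin_cases j
    · show b.repr (AdjoinRoot.root p ^ ((1 : Fin 3) : ℕ)) i = _
      rw [← hbj, Module.Basis.repr_self]
      fin_cases i <;> simp [comp]
    · show b.repr (AdjoinRoot.root p ^ ((2 : Fin 3) : ℕ)) i = _
      rw [← hbj, Module.Basis.repr_self]
      fin_cases i <;> simp [comp]
    · show b.repr (AdjoinRoot.root p ^ 3) i = _
      rw [hroot, map_add, map_add, map_smul, map_smul, map_smul, Module.Basis.repr_self,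
        Module.Basis.repr_self, Module.Basis.repr_self]
      fin_cases i <;> simp [comp]
  have hdet : ∀ e, (φ e).det = Algebra.norm F e := fun e => (Algebra.norm_eq_matrix_det b e).symm
  have hfull : DetFull (comp c0 c1 c2) := fun d _ => by
    obtain ⟨e, he⟩ := FiniteField.norm_surjective F (AdjoinRoot p) d
    exact ⟨φ e, by rw [hdet, he], by rw [← hφ, ← map_mul, ← map_mul, mul_comm]⟩
  refine ⟨hfull, ?_⟩
  set q := Fintype.card F with hq
  set x := comp c0 c1 c2 with hx
  have hnr : ∀ t : F, x.charpoly.eval t ≠ 0 := fun t => by rw [hx, comp_eval]; exact h t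
  have h1 : GLSim x (x ^ q) := glSim_pow_card hnr
  have hnr' : ∀ t : F, (x ^ q).charpoly.eval t ≠ 0 := fun t => by
    rw [hq, FiniteField.Matrix.charpoly_pow_card]; exact hnr t
  have h2 : GLSim x ((x ^ q) ^ q) := h1.trans (glSim_pow_card hnr')
  refine ⟨[x, x ^ q, (x ^ q) ^ q], rfl, fun y hy => ?_, ?_⟩
  · simp only [List.mem_cons, List.not_mem_nil, or_false] at hy
    rcases hy with rfl | rfl | rfl
    · exact SLSim.refl _
    · exact h1.slSim hfull
    · exact h2.slSim hfull
  · have hN : Algebra.norm F (AdjoinRoot.root p) = c0 := by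
      rw [← hdet, hφ]
      simp [hx, comp, Matrix.det_fin_three]
    have hcard : (Nat.card (AdjoinRoot p) - 1) / (Nat.card F - 1) = 1 + q + q * q := by
      have hr : Module.finrank F (AdjoinRoot p) = 3 := by rw [pb.finrank, hdim]
      rw [Module.natCard_eq_pow_finrank (K := F), hr, Nat.card_eq_fintype_card, ← hq]
      have h2q : 2 ≤ q := by rw [hq]; exact Fintype.one_lt_card
      refine Nat.div_eq_of_eq_mul_left (by omega) ?_
      obtain ⟨s, hs⟩ : ∃ s, q = s + 2 := ⟨q - 2, by omega⟩
      rw [hs]
      show (s + 2) ^ 3 - 1 = (1 + (s + 2) + (s + 2) * (s + 2)) * (s + 1)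
      have : (s + 2) ^ 3 = (1 + (s + 2) + (s + 2) * (s + 2)) * (s + 1) + 1 := by ring
      omega
    have hpow := FiniteField.algebraMap_norm_eq_pow (K := F) (x := AdjoinRoot.root p)
    rw [hN, hcard] at hpow
    simp only [List.prod_cons, List.prod_nil, mul_one]
    rw [← hφ, ← map_pow, ← map_pow, ← map_mul, ← map_mul, ← pow_mul, ← pow_add, ← pow_succ',
      show q + q * q + 1 = 1 + q + q * q by ring, ← hpow, AlgHom.commutes, Algebra.algebraMap_eq_smul_one]

end CfsgLib.PSLCover.Three
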