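import Cfsg.Agent.Lib.ClassSquare.Peel
import Cfsg.Agent.Lib.PSLCover.Basic

/-!
Three by three matrices: Krylov bases, centralisers with full determinant, and products of a companion
matrix and a triangular matrix with prescribed characteristic polynomial.
-/

set_option autoImplicit false
set_option linter.unusedSimpArgs false

namespace CfsgLib.PSLCover.Three

open Matrix
open CfsgLib.ClassSquare (exists_base exists_not_eigen blk cj blk_succ_zero det_units_ne)

variable {F : Type*} [Field F]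

/-- The sum of the principal minors of order two. -/
def sec (M : Matrix (Fin 3) (Fin 3) F) : F :=
  M 0 0 * M 1 1 - M 0 1 * M 1 0 + (M 0 0 * M 2 2 - M 0 2 * M 2 0) + (M 1 1 * M 2 2 - M 1 2 * M 2 1)

/-- The companion matrix of `X³ - c₂X² - c₁X - c₀`. -/
def comp (c0 c1 c2 : F) : Matrix (Fin 3) (Fin 3) F := !![0, 0, c0; 1, 0, c1; 0, 1, c2]

/-- Having the same characteristic polynomial. -/
def SameInv (M N : Matrix (Fin 3) (Fin 3) F) : Prop :=
  M.trace = N.trace ∧ sec M = sec N ∧ M.det = N.det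

/-- The Krylov matrix of `v`. -/
def kry (M : Matrix (Fin 3) (Fin 3) F) (v : Fin 3 → F) : Matrix (Fin 3) (Fin 3) F :=
  Matrix.of fun i j => ![v, M *ᵥ v, M *ᵥ (M *ᵥ v)] j i

/-- `M` has a cyclic vector. -/
def Cyc (M : Matrix (Fin 3) (Fin 3) F) : Prop := ∃ v, (kry M v).det ≠ 0

theorem comp_inv (c0 c1 c2 : F) :
    (comp c0 c1 c2).trace = c2 ∧ sec (comp c0 c1 c2) = -c1 ∧ (comp c0 c1 c2).det = c0 := by
  refine ⟨?_, ?_, ?_⟩ <;> simp [comp, sec, Matrix.trace_fin_three, Matrix.det_fin_three]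

theorem kry_comp (c0 c1 c2 : F) : kry (comp c0 c1 c2) (Pi.single 0 1) = 1 := by
  ext i j
  fin_cases i <;> fin_cases j <;>
    simp [kry, comp, dotProduct, Fin.sum_univ_three, Pi.single_apply]

theorem comp_cyc (c0 c1 c2 : F) : Cyc (comp c0 c1 c2) := ⟨Pi.single 0 1, by simp [kry_comp]⟩

theorem mul_kry (M : Matrix (Fin 3) (Fin 3) F) (v : Fin 3 → F) :
    M * kry M v = kry M v * comp M.det (-sec M) M.trace := by
  ext i j
  fin_cases i <;> fin_cases j <;>
    simp [kry, comp, sec, Matrix.mul_apply, Matrix.mulVec, dotProduct, Fin.sum_univ_three,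
      Matrix.trace_fin_three, Matrix.det_fin_three] <;>
    ring

/-- Cyclic matrices with the same invariants are similar, with known determinant. -/
theorem similar {M N : Matrix (Fin 3) (Fin 3) F} (h : SameInv M N) {v w : Fin 3 → F}
    (_hv : (kry M v).det ≠ 0) (hw : (kry N w).det ≠ 0) :
    ∃ P : Matrix (Fin 3) (Fin 3) F, P.det = (kry M v).det / (kry N w).det ∧ M * P = P * N := by
  have hu : IsUnit (kry N w).det := Ne.isUnit hw
  refine ⟨kry M v * (kry N w)⁻¹, ?_, ?_⟩
  · rw [det_mul, det_nonsing_inv, Ring.inverse_eq_inv', div_eq_mul_inv]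
  · have h1 := mul_kry M v
    rw [h.1, h.2.1, h.2.2] at h1
    have h2 := mul_kry N w
    calc M * (kry M v * (kry N w)⁻¹) = kry M v * comp N.det (-sec N) N.trace * (kry N w)⁻¹ := by
          rw [← Matrix.mul_assoc, h1]
      _ = kry M v * ((kry N w)⁻¹ * (kry N w * comp N.det (-sec N) N.trace)) * (kry N w)⁻¹ := by
          rw [← Matrix.mul_assoc (kry N w)⁻¹, Matrix.nonsing_inv_mul _ hu, Matrix.one_mul]
      _ = kry M v * (kry N w)⁻¹ * N * (kry N w * (kry N w)⁻¹) := by
          rw [← h2]; simp only [Matrix.mul_assoc]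
      _ = kry M v * (kry N w)⁻¹ * N := by rw [Matrix.mul_nonsing_inv _ hu, Matrix.mul_one]

/-- Cyclic matrices with equal invariants are conjugate. -/
theorem glSim_of_inv {M N : Matrix (Fin 3) (Fin 3) F} (h : SameInv M N) (hM : Cyc M) (hN : Cyc N) :
    GLSim N M := by
  obtain ⟨v, hv⟩ := hM
  obtain ⟨w, hw⟩ := hN
  obtain ⟨P, hP, e⟩ := similar h hv hw
  exact ⟨P, by rw [hP]; exact div_ne_zero hv hw, e.symm⟩

/-- Cyclic matrices with equal invariants and equal Krylov determinants. -/
theorem slSim_of_inv {M N : Matrix (Fin 3) (Fin 3) F} (h : SameInv M N) {v w : Fin 3 → F}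
    (hv : (kry M v).det ≠ 0) (hvw : (kry M v).det = (kry N w).det) : SLSim N M := by
  obtain ⟨P, hP, e⟩ := similar h hv (hvw ▸ hv)
  exact ⟨P, by rw [hP, hvw, div_self (hvw ▸ hv)], e.symm⟩

theorem kry_conj {M N P : Matrix (Fin 3) (Fin 3) F} (h : M * P = P * N) (w : Fin 3 → F) :
    kry M (P *ᵥ w) = P * kry N w := by
  ext i j
  have h1 : ∀ u, M *ᵥ (P *ᵥ u) = P *ᵥ (N *ᵥ u) := fun u => by
    rw [Matrix.mulVec_mulVec, h, Matrix.mulVec_mulVec]
  show (![P *ᵥ w, M *ᵥ (P *ᵥ w), M *ᵥ (M *ᵥ (P *ᵥ w))] j) i = (P *ᵥ (![w, N *ᵥ w, N *ᵥ (N *ᵥ w)] j)) i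
  fin_cases j
  · rfl
  · exact congrFun (h1 w) i
  · show (M *ᵥ (M *ᵥ (P *ᵥ w))) i = (P *ᵥ (N *ᵥ (N *ᵥ w))) i
    rw [h1, h1]

theorem Cyc.conj {M N P : Matrix (Fin 3) (Fin 3) F} (hP : P.det ≠ 0) (h : M * P = P * N) (hN : Cyc N) :
    Cyc M := by
  obtain ⟨w, hw⟩ := hN
  refine ⟨P *ᵥ w, ?_⟩
  rw [kry_conj h, det_mul]
  exact mul_ne_zero hP hw

/-- A matrix is cyclic or a scalar plus rank one. -/
theorem cyc_or_rankOne (M : Matrix (Fin 3) (Fin 3) F) : Cyc M ∨ IsRankOne M := by
  classical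
  by_cases hns : CfsgLib.ClassSquare.Nonscalar M
  swap
  · simp only [CfsgLib.ClassSquare.Nonscalar, not_forall, not_not] at hns
    obtain ⟨c, hc⟩ := hns
    exact Or.inr ⟨c, 0, 0, by rw [hc]; ext i j; simp [vecMulVec]⟩
  obtain ⟨u, hu⟩ := exists_not_eigen hns
  obtain ⟨P, n, D, -, -, hPM⟩ := exists_base (k := 1) M hu 0
  set N := blk (0 : F) n (Pi.single 0 1) D with hN
  have hconj : M * (P : Matrix (Fin 3) (Fin 3) F) = (P : Matrix (Fin 3) (Fin 3) F) * N := by
    rw [← hPM, cj, ← Matrix.mul_assoc, ← Matrix.mul_assoc, ← Units.val_mul, mul_inv_cancel, Units.val_one,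
      Matrix.one_mul]
  have e00 : N 0 0 = 0 := rfl
  have e10 : N 1 0 = 1 := by
    show N (Fin.succ 0) 0 = 1
    rw [hN, blk_succ_zero]; simp
  have e20 : N 2 0 = 0 := by
    show N (Fin.succ 1) 0 = 0
    rw [hN, blk_succ_zero]; simp
  set α := N 1 1 with hα
  set β := N 0 1
  set a := N 0 2
  set b := N 1 2
  set c := N 2 2
  suffices h : Cyc N ∨ IsRankOne N by
    rcases h with h | ⟨s, x, y, hxy⟩
    · exact Or.inl (h.conj (det_units_ne P) hconj)
    · refine Or.inr ⟨s, (P : Matrix (Fin 3) (Fin 3) F) *ᵥ x,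
        y ᵥ* ((P⁻¹ : GL (Fin 3) F) : Matrix (Fin 3) (Fin 3) F), ?_⟩
      rw [← Matrix.vecMulVec_mul, ← Matrix.mul_vecMulVec]
      calc M = M * (P : Matrix (Fin 3) (Fin 3) F) * ((P⁻¹ : GL (Fin 3) F) : Matrix (Fin 3) (Fin 3) F) := by
            rw [Matrix.mul_assoc, ← Units.val_mul, mul_inv_cancel, Units.val_one, Matrix.mul_one]
        _ = _ := by
            rw [hconj, hxy, Matrix.mul_add, Matrix.add_mul, Matrix.mul_smul, Matrix.mul_one, Matrix.smul_mul,
              ← Units.val_mul, mul_inv_cancel, Units.val_one]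
  by_cases hγ : N 2 1 = 0
  swap
  · refine Or.inl ⟨Pi.single 0 1, ?_⟩
    simp [kry, Matrix.det_fin_three, Matrix.mulVec, Matrix.mul_apply, dotProduct, Fin.sum_univ_three,
      Pi.single_apply, e00, e10, e20, hγ]
  by_cases hc : c ^ 2 - α * c - β = 0
  swap
  · -- the vector mapped onto the first basis vector by the plane part
    have hd : -(c * (α - c)) - β ≠ 0 := fun h => hc (by linear_combination h)
    refine Or.inl ⟨![(α - c - (α - c) * a + β * b) / (-(c * (α - c)) - β),
      (-1 + a + c * b) / (-(c * (α - c)) - β), 1], ?_⟩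
    set x := (α - c - (α - c) * a + β * b) / (-(c * (α - c)) - β) with hx
    set y := (-1 + a + c * b) / (-(c * (α - c)) - β) with hy
    have h1 : -c * x + β * y + a = 1 := by rw [hx, hy]; field_simp; ring
    have h2 : x + (α - c) * y + b = 0 := by rw [hx, hy]; field_simp; ring
    have e : (kry N ![x, y, 1]).det = (-c * x + β * y + a) * ((-c * x + β * y + a) + (α - c) * (x + (α - c) * y + b))
        - (x + (α - c) * y + b) * (-c * (-c * x + β * y + a) + β * (x + (α - c) * y + b)) := by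
      simp [kry, Matrix.det_fin_three, Matrix.mulVec, Matrix.mul_apply, dotProduct, Fin.sum_univ_three,
        e00, e10, e20, hγ, α, β, a, b, c]
      ring
    rw [e, h1, h2]
    simp
  by_cases hab : a + c * b = 0
  · refine Or.inr ⟨c, ![-c, 1, 0], ![1, α - c, b], ?_⟩
    have hβ : β = c ^ 2 - α * c := by linear_combination -hc
    ext i j
    fin_cases i <;> fin_cases j <;> simp [vecMulVec, e00, e10, e20, hγ]
    all_goals first
      | rfl
      | (show β = _; rw [hβ]; ring)
      | (show a = _; linear_combination hab)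
  · set e := α - 2 * c with he
    obtain ⟨s, hs⟩ : ∃ s : F, (a + c * b) + e * (b + s) ≠ 0 := by
      by_cases he0 : e = 0
      · exact ⟨0, by rw [he0]; simpa using hab⟩
      · exact ⟨(1 - (a + c * b)) / e - b, by field_simp; simp⟩
    refine Or.inl ⟨![s, 0, 1], ?_⟩
    have e' : (kry N ![s, 0, 1]).det = (a + c * b) * ((a + c * b) + e * (b + s)) := by
      simp [kry, Matrix.det_fin_three, Matrix.mulVec, Matrix.mul_apply, dotProduct, Fin.sum_univ_three,
        e00, e10, e20, hγ, α, β, a, b, c, e]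
      linear_combination (N 1 2 + s) ^ 2 * hc
    rw [e']
    exact mul_ne_zero hab hs

/-- A simple root gives all determinants in the centraliser. -/
theorem comp_detFull {c0 c1 c2 r : F} (hr : r ^ 3 - c2 * r ^ 2 - c1 * r - c0 = 0)
    (hd : 3 * r ^ 2 - 2 * c2 * r - c1 ≠ 0) : DetFull (comp c0 c1 c2) := fun d _ => by
  set D := 3 * r ^ 2 - 2 * c2 * r - c1
  refine ⟨1 + ((d - 1) / D) • vecMulVec ![r ^ 2 - c2 * r - c1, r - c2, 1] ![1, r, r ^ 2], ?_, ?_⟩
  swap
  · rw [add_mul, mul_add, Matrix.one_mul, Matrix.mul_one, Matrix.smul_mul, Matrix.mul_smul]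
    congr 2
    ext i j
    fin_cases i <;> fin_cases j <;>
      simp [comp, vecMulVec, Matrix.mul_apply, Fin.sum_univ_three] <;>
      first
        | ring1
        | linear_combination hr
        | linear_combination -hr
        | linear_combination r * hr
        | linear_combination -r * hr
        | linear_combination r ^ 2 * hr
        | linear_combination -r ^ 2 * hr
        | linear_combination (r - c2) * hr
        | linear_combination -(r - c2) * hr
        | linear_combination (r ^ 2 - c2 * r - c1) * hr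
        | linear_combination -(r ^ 2 - c2 * r - c1) * hr
        | linear_combination (c2 * r + c1) * hr
  · simp [Matrix.det_fin_three, vecMulVec]
    have h1 : (d - 1) / D * D = d - 1 := div_mul_cancel₀ _ hd
    linear_combination h1

/-- No root, simple root, or triple root. -/
theorem root_cases (c0 c1 c2 : F) :
    (∀ r : F, r ^ 3 - c2 * r ^ 2 - c1 * r - c0 ≠ 0) ∨
      (∃ r : F, r ^ 3 - c2 * r ^ 2 - c1 * r - c0 = 0 ∧ 3 * r ^ 2 - 2 * c2 * r - c1 ≠ 0) ∨
      ∃ r : F, c2 = 3 * r ∧ c1 = -(3 * r ^ 2) ∧ c0 = r ^ 3 := by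
  by_cases h : ∃ r : F, r ^ 3 - c2 * r ^ 2 - c1 * r - c0 = 0
  swap
  · push Not at h; exact Or.inl h
  obtain ⟨r, hr⟩ := h
  by_cases hd : 3 * r ^ 2 - 2 * c2 * r - c1 = 0
  swap
  · exact Or.inr (Or.inl ⟨r, hr, hd⟩)
  by_cases hc : c2 = 3 * r
  · refine Or.inr (Or.inr ⟨r, hc, ?_, ?_⟩)
    · rw [hc] at hd; linear_combination -hd
    · rw [hc] at hr hd; linear_combination -hr + r * hd
  · refine Or.inr (Or.inl ⟨c2 - 2 * r, ?_, ?_⟩)
    · linear_combination hr + (c2 - 3 * r) * hd
    · intro h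
      have h2 : (c2 - 3 * r) ^ 2 = 0 := by linear_combination h - hd
      exact hc (sub_eq_zero.1 (pow_eq_zero_iff two_ne_zero |>.1 h2))

/-- A rank one perturbation of the identity has all determinants in its centraliser. -/
theorem row_detFull (f : Fin 3 → F) :
    DetFull (1 + vecMulVec (Pi.single (0 : Fin 3) (1 : F)) f) := fun d _ => by
  by_cases h2 : f 2 = 0
  · refine ⟨!![1, 0, 0; 0, 1, 0; 0, 0, d], by simp [Matrix.det_fin_three], ?_⟩
    ext i j
    fin_cases i <;> fin_cases j <;>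
      simp [vecMulVec, Matrix.mul_apply, Fin.sum_univ_three, Matrix.one_apply, Pi.single_apply, h2]
  · refine ⟨!![1, 0, 0; 0, d, 0; 0, (-(f 1) / f 2) * (d - 1), 1], by simp [Matrix.det_fin_three], ?_⟩
    ext i j
    fin_cases i <;> fin_cases j <;>
      simp [vecMulVec, Matrix.mul_apply, Fin.sum_univ_three, Matrix.one_apply, Pi.single_apply]
    all_goals (field_simp; ring)

/-- Upper triangular with block `[[p, s], [r, t]]`. -/
def tri (p s r t b u w : F) : Matrix (Fin 3) (Fin 3) F := !![p, s, u; r, t, w; 0, 0, b]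

/-- A companion times a block triangular matrix has any characteristic polynomial. -/
theorem exists_tri (c0 c1 c2 b : F) {t : F} (ht : t ≠ 0) (p s r T1 T2 : F) :
    ∃ u w, (comp c0 c1 c2 * tri p s r t b u w).trace = T1 ∧
      sec (comp c0 c1 c2 * tri p s r t b u w) = T2 ∧
      (comp c0 c1 c2 * tri p s r t b u w).det = c0 * b * (p * t - r * s) ∧
      (kry (comp c0 c1 c2 * tri p s r t b u w) (Pi.single 1 1)).det = c0 * b * t ^ 2 := by
  refine ⟨(s * (T1 - s) - c0 * b * r - T2 - t * c1 * b) / t, T1 - s - c2 * b, ?_, ?_, ?_, ?_⟩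
  · simp [comp, tri, Matrix.trace_fin_three, Matrix.mul_apply, Fin.sum_univ_three]
  · simp [comp, tri, sec, Matrix.mul_apply, Fin.sum_univ_three]
    field_simp
    ring
  · simp [comp, tri, Matrix.det_fin_three, Matrix.mul_apply, Fin.sum_univ_three]
    ring
  · simp [kry, comp, tri, Matrix.det_fin_three, Matrix.mul_apply, Matrix.mulVec, dotProduct,
      Fin.sum_univ_three, Pi.single_apply]
    ring

/-- A companion times a rank one perturbation has any characteristic polynomial. -/
theorem exists_row (c0 c1 c2 d T1 T2 : F) :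
    ∃ f : Fin 3 → F, f 0 = d - 1 ∧
      (comp c0 c1 c2 * (1 + vecMulVec (Pi.single (0 : Fin 3) (1 : F)) f)).trace = T1 ∧
      sec (comp c0 c1 c2 * (1 + vecMulVec (Pi.single (0 : Fin 3) (1 : F)) f)) = T2 ∧
      (comp c0 c1 c2 * (1 + vecMulVec (Pi.single (0 : Fin 3) (1 : F)) f)).det = c0 * d ∧
      (kry (comp c0 c1 c2 * (1 + vecMulVec (Pi.single (0 : Fin 3) (1 : F)) f)) (Pi.single 0 1)).det
        = d ^ 2 := by
  have e : comp c0 c1 c2 * (1 + vecMulVec (Pi.single (0 : Fin 3) (1 : F))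
      ![d - 1, T1 - c2, c2 * (T1 - c2) - c1 - T2]) =
      !![0, 0, c0; d, T1 - c2, c2 * (T1 - c2) - T2; 0, 1, c2] := by
    ext i j
    fin_cases i <;> fin_cases j <;>
      simp [comp, Matrix.mul_apply, Fin.sum_univ_three, Matrix.one_apply, Pi.single_apply]
    all_goals ring
  refine ⟨![d - 1, T1 - c2, c2 * (T1 - c2) - c1 - T2], rfl, ?_, ?_, ?_, ?_⟩ <;> rw [e]
  · simp [Matrix.trace_fin_three]
  · simp [sec]; ring
  · simp [Matrix.det_fin_three]
  · simp [kry, Matrix.det_fin_three, Matrix.mulVec, dotProduct, Fin.sum_univ_three, Pi.single_apply]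
    ring

/-- Triangular matrices with a double eigenvalue and a separate one are cyclic. -/
theorem tri_cyc {a b : F} (hab : b ≠ a) (u w : F) : Cyc (tri a 1 0 a b u w) := by
  refine ⟨![0, (w + 1) / (b - a), 1], ?_⟩
  have hd : b - a ≠ 0 := sub_ne_zero.2 hab
  have e : ∀ y : F, (kry (tri a 1 0 a b u w) ![0, y, 1]).det = -((b - a) * y - w) ^ 2 := fun y => by
    simp [kry, tri, Matrix.det_fin_three, Matrix.mulVec, Matrix.mul_apply, dotProduct, Fin.sum_univ_three]
    ring
  rw [e, mul_div_cancel₀ _ hd]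
  simp

/-- A triangular matrix without double eigenvalue across its blocks is cyclic. -/
theorem tri_cyc_block {p s r t b : F} (hr : r ≠ 0) (hd : (p - b) * (t - b) - r * s ≠ 0) (u w : F) :
    Cyc (tri p s r t b u w) := by
  set D := (p - b) * (t - b) - r * s with hD
  refine ⟨![((1 - u) * (t - b) + s * w) / D, (-(p - b) * w - r * (1 - u)) / D, 1], ?_⟩
  set x := ((1 - u) * (t - b) + s * w) / D with hx
  set y := (-(p - b) * w - r * (1 - u)) / D with hy
  have h1 : p * x + s * y + u = b * x + 1 := by rw [hx, hy]; field_simp; ring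
  have h2 : r * x + t * y + w = b * y := by rw [hx, hy]; field_simp; ring
  have e1 : tri p s r t b u w *ᵥ ![x, y, 1] = ![b * x + 1, b * y, b] := by
    ext i; fin_cases i <;> simp [tri, Matrix.mulVec, dotProduct, Fin.sum_univ_three, h1, h2]
  have e2 : tri p s r t b u w *ᵥ ![b * x + 1, b * y, b] =
      ![b * (b * x + 1) + p, b * (b * y) + r, b * b] := by
    ext i
    fin_cases i <;> simp [tri, Matrix.mulVec, dotProduct, Fin.sum_univ_three]
    · linear_combination b * h1
    · linear_combination b * h2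
  have e : (kry (tri p s r t b u w) ![x, y, 1]).det = r := by
    rw [kry, e1, e2]
    simp [Matrix.det_fin_three]
    ring
  rw [e]
  exact hr

end CfsgLib.PSLCover.Three
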